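import Cfsg.Agent.KZ.Cl.Vec
import Cfsg.Agent.KZ.Lie.McQ
import Cfsg.Agent.KZ.Tool.Res2
import Cfsg.Agent.KZ.DatX.Main_m3
import Cfsg.Agent.Prune
set_option linter.all false

section
prune_inst 0x7f00000000000000000000000000000000000000000000000000000000000000000000000000000000000000000000000000000000000000000000000000000000000000000000000000000000000000003fffffffffffffffffffffffffffbeffbdfbfeffff

-- part: KZ/ClA/Sv
section
set_option linter.all false
open scoped Cfsg.Agent.FastGrp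

/-!
# KZ, the scalar case `w₀ F = Q` (helper18): the almost characters and their descent

`ch f w₀ φ c` is the average of `φ(u) R_{u w₀}(c)` over the stabiliser `Wc c` of the label.  `Rep s f w₀ φ c ψ`: the character
`ψ` of the simple group is the restriction of `± ch φ c`.
-/

set_option autoImplicit false
set_option linter.unusedSectionVars false

namespace Cfsg.Agent.KZ.ClA

open Cfsg Cfsg.Agent.DL Cfsg.Agent.DL.PP Cfsg.Agent.KZ.Lie Cfsg.Agent.KZ.Cl Cfsg.Agent.Characters.Core Matrix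
open scoped ComplexConjugate

variable {p : ℕ} [Fact p.Prime] {k : Type} [Field k] [CharP k p] {Y : Type} [Group Y] {N : Type} [Fintype N]
  [DecidableEq N] {ρ : Y →* GL N k} {F : MulAut Y} {G : Subgroup Y} [IsAlgClosed k] {D : Datum p ρ F G}

/-- the stabiliser of a label -/
def Wc (c : Lbl D) : Subgroup D.W where
  carrier := {v | _root_.Cfsg.Agent.DL.PP.Rel D v c c}
  one_mem' := rel_one D c
  mul_mem' ha hb := Rel.trans hb ha
  inv_mem' ha := Rel.symm ha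

theorem mem_Wc {c : Lbl D} {v : D.W} : v ∈ Wc c ↔ _root_.Cfsg.Agent.DL.PP.Rel D v c c := Iff.rfl

theorem Wc_one : Wc (1 : Lbl D) = ⊤ := eq_top_iff.2 fun _ _ _ => by rw [map_one, map_one]

theorem rel_mul {v : D.W} {c c' d d' : Lbl D} (h : _root_.Cfsg.Agent.DL.PP.Rel D v c c') (h' : _root_.Cfsg.Agent.DL.PP.Rel D v d d') : _root_.Cfsg.Agent.DL.PP.Rel D v (c * d) (c' * d') :=
  fun z => by rw [map_mul, map_mul, h, h']

theorem rel_zpow {v : D.W} {c c' : Lbl D} (h : _root_.Cfsg.Agent.DL.PP.Rel D v c c') (n : ℤ) : _root_.Cfsg.Agent.DL.PP.Rel D v (c ^ n) (c' ^ n) :=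
  fun z => by rw [map_zpow, map_zpow, h]

theorem Wc_mul {c cl : Lbl D} (h : ∀ u, _root_.Cfsg.Agent.DL.PP.Rel D u cl cl) : Wc (c * cl) = Wc c := by
  ext v
  refine ⟨fun hv => ?_, fun hv => rel_mul hv (h v)⟩
  have h1 := rel_mul hv (rel_zpow (h v) (-1))
  simpa [mem_Wc] using h1

theorem exists_inv {c : Lbl D} (hc : Is3 D c) {a : ℤ} (ha : ¬ 3 ∣ a) : ∃ b : ℤ, (c ^ a) ^ b = c := by
  obtain ⟨j, hj⟩ := hc
  obtain ⟨x, y, h⟩ : IsCoprime ((3 : ℤ) ^ j) a := ((Int.prime_three.coprime_iff_not_dvd).2 ha).pow_left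
  refine ⟨y, ?_⟩
  have h1 : c ^ ((3 : ℤ) ^ j) = 1 := by rw [← hj, ← zpow_natCast]; simp
  rw [← _root_.zpow_mul, mul_comm a, eq_sub_of_add_eq' h, _root_.zpow_sub, zpow_one, mul_comm x, _root_.zpow_mul, h1]
  simp

theorem Wc_zpow {c : Lbl D} (hc : Is3 D c) {a : ℤ} (ha : ¬ 3 ∣ a) : Wc (c ^ a) = Wc c := by
  obtain ⟨b, hb⟩ := exists_inv hc ha
  ext v
  exact ⟨fun hv => by simpa only [hb, mem_Wc] using rel_zpow hv b, fun hv => rel_zpow hv a⟩

/-- conjugation of stabilisers -/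
def WcEquiv {v : D.W} {c c' : Lbl D} (h : _root_.Cfsg.Agent.DL.PP.Rel D v c c') : Wc c ≃ Wc c' where
  toFun u := ⟨v * u * v⁻¹, by
    rw [mul_assoc]
    exact (h.symm.trans u.2).trans h⟩
  invFun u := ⟨v⁻¹ * u * v, by
    rw [mul_assoc]
    exact (h.trans u.2).trans h.symm⟩
  left_inv u := Subtype.ext (by simp [mul_assoc])
  right_inv u := Subtype.ext (by simp only [mul_assoc, _root_.mul_inv_cancel_left, _root_.mul_inv_cancel, _root_.mul_one])

theorem card_Wc {v : D.W} {c c' : Lbl D} (h : _root_.Cfsg.Agent.DL.PP.Rel D v c c') : Nat.card (Wc c) = Nat.card (Wc c') :=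
  Nat.card_congr (WcEquiv h)

variable (f : Fr D) [Fintype ↥(GF F G)] {w₀ : D.W} {Q : ℤ}

theorem avg_eq (U : Subgroup D.W) [Fintype U] (φ : D.W → ℂ) (w : D.W) (c : Lbl D) :
    avg f U φ w c = (Nat.card U : ℂ)⁻¹ • ∑ u : U, φ u • RW f (u * w) c := by
  funext g
  simp only [avg, finsum_eq_sum_of_fintype, Pi.smul_apply, Finset.sum_apply, smul_eq_mul]

variable (w₀) in
/-- the almost character -/
noncomputable def ch (φ : D.W → ℂ) (c : Lbl D) : ↥(GF F G) → ℂ := avg f (Wc c) φ w₀ c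

variable {f} {φ φ' : D.W → ℂ} {c c' : Lbl D}

theorem rel_of_ch {w : D.W} (h : classInner (ch f w₀ φ c) (RW f w c') ≠ 0) : Fx D w c' ∧ ∃ v, _root_.Cfsg.Agent.DL.PP.Rel D v c c' := by
  have := Fintype.ofFinite (Wc c)
  simp only [ch, avg_eq, classInner_smul_left, classInner_sum_left] at h
  obtain ⟨γ, -, h1⟩ := Finset.exists_ne_zero_of_sum_ne_zero (right_ne_zero_of_mul h)
  obtain ⟨-, h2, v, -, h3⟩ := rel_of_ne (right_ne_zero_of_mul h1)
  exact ⟨h2, v, h3⟩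

theorem rel_of_ch' (h : classInner (ch f w₀ φ c) (ch f w₀ φ' c') ≠ 0) : ∃ v, _root_.Cfsg.Agent.DL.PP.Rel D v c c' := by
  have := Fintype.ofFinite (Wc c')
  rw [show ch f w₀ φ' c' = avg f _ _ _ _ from rfl, avg_eq] at h
  simp only [classInner_smul_right, classInner_sum_right] at h
  obtain ⟨γ, -, h1⟩ := Finset.exists_ne_zero_of_sum_ne_zero (right_ne_zero_of_mul h)
  exact (rel_of_ch (right_ne_zero_of_mul h1)).2

theorem ch_twist {l : ↥(GF F G) →* ℂˣ} {cl : Lbl D} (h : ∀ u, _root_.Cfsg.Agent.DL.PP.Rel D u cl cl)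
    (h' : ∀ w c g, RW f w (c * cl) g = l g * RW f w c g) (g : ↥(GF F G)) :
    ch f w₀ φ (c * cl) g = l g * ch f w₀ φ c g := by
  have := Fintype.ofFinite (Wc c)
  simp only [ch, Wc_mul h, avg_eq, Pi.smul_apply, Finset.sum_apply, smul_eq_mul, h', Finset.mul_sum]
  exact Finset.sum_congr rfl fun u _ => by ring

theorem ch_aut (hA : Api f) {α : MulAut Y} {A : Matrix D.R D.R ℤ} (h : Au D α A) {v : D.W} {a : ℤ}
    (hv : D.Wm v * A = a • (1 : Matrix D.R D.R ℤ)) (ha : ¬ 3 ∣ a) (hF : Fx D w₀ c) (hc : Is3 D c) (g : ↥(GF F G)) :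
    ch f w₀ φ c (h.aut g) = ch f w₀ φ (c ^ a) g := by
  have := Fintype.ofFinite (Wc c)
  simp only [ch, Wc_zpow hc ha, avg_eq, Pi.smul_apply, Finset.sum_apply, smul_eq_mul]
  congr 1
  exact Finset.sum_congr rfl fun u _ => by
    rw [RW_scalar f hA h hv (fun e => ha (by rw [e]; exact dvd_zero 3)) (hF.mul u.2)]

section

variable (h : Sc D w₀ Q)
include h

theorem tc_sc {v u u' : D.W} : Tc D v (u * w₀) (u' * w₀) ↔ u' * v = v * u := by
  rw [tc_iff', tau_of_mem (by rw [h.cw_top]; trivial)]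

theorem fx_sc : Fx D w₀ c ↔ c ^ (Q - 1) = 1 := by
  rw [_root_.zpow_sub, zpow_one, mul_inv_eq_one]
  refine ⟨fun h1 => eq_of_chr D fun z => ?_, fun h1 z => ?_⟩
  · rw [← h1 z, h.eq, smul_mulVec, one_mulVec, chr_zsmul, map_zpow]
  · rw [h.eq, smul_mulVec, one_mulVec, chr_zsmul, ← map_zpow, h1]

theorem ip_ch_RW (hF : Fx D w₀ c) (hφ : IsClassFunction D.W φ) {u : D.W} (hu : u ∈ Wc c) :
    classInner (ch f w₀ φ c) (RW f (u * w₀) c) = φ u := by
  have := Fintype.ofFinite (Wc c)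
  have h1 := sum_fib (fun v : Wc c => v⁻¹ * ⟨u, hu⟩ * v) fun z => φ z
  have h2 : ∀ v : Wc c, φ (v⁻¹ * ⟨u, hu⟩ * v : Wc c) = φ u := fun v => by simpa only [_root_.Subgroup.coe_mul, _root_.InvMemClass.coe_inv, _root_.inv_inv] using hφ u (v : D.W)⁻¹
  have h3 : ∀ z : Wc c, classInner (RW f (z * w₀) c) (RW f (u * w₀) c) =
      Nat.card {v : Wc c // v⁻¹ * ⟨u, hu⟩ * v = z} := fun z => by
    rw [RW_ip f (hF.mul z.2) (hF.mul hu)]
    congr 1
    refine Nat.card_congr ⟨fun v => ⟨⟨v.1, v.2.2⟩, Subtype.ext ?_⟩, fun v => ⟨v.1.1, (tc_sc h).2 ?_, v.1.2⟩,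
      fun _ => rfl, fun _ => rfl⟩
    · show v.1⁻¹ * u * v.1 = z
      rw [mul_assoc, (tc_sc h).1 v.2.1, inv_mul_cancel_left]
    · have h4 : (v.1.1 : D.W)⁻¹ * u * v.1.1 = z := congrArg Subtype.val v.2
      rw [← h4, mul_assoc, mul_inv_cancel_left]
  simp only [h2, Finset.sum_const, Finset.card_univ, nsmul_eq_mul, ← Nat.card_eq_fintype_card] at h1
  simp only [ch, avg_eq, classInner_smul_left, classInner_sum_left, h3, mul_comm (φ _)]
  rw [← h1, inv_mul_cancel_left₀ (Nat.cast_ne_zero.2 Nat.card_pos.ne')]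

theorem ip_ch_one (hF : Fx D w₀ c) (hφ : IsClassFunction D.W φ) : classInner (ch f w₀ φ c) (RW f w₀ c) = φ 1 := by
  have h1 := ip_ch_RW (f := f) h hF hφ (Wc c).one_mem
  rwa [one_mul] at h1

theorem ip_ch (hF : Fx D w₀ c) (hφ : IsClassFunction D.W φ) [Fintype (Wc c)] :
    classInner (ch f w₀ φ c) (ch f w₀ φ' c) = classInner (fun u : Wc c => φ u) fun u : Wc c => φ' u := by
  conv_lhs => rw [show ch f w₀ φ' c = avg f _ _ _ _ from rfl, avg_eq]
  simp only [classInner_smul_right, classInner_sum_right, ip_ch_RW h hF hφ (Subtype.property _), map_inv₀, map_natCast,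
    mul_comm (conj (φ' _))]
  rfl

theorem ch_rel (hφ : IsClassFunction D.W φ) {v : D.W} (hv : _root_.Cfsg.Agent.DL.PP.Rel D v c c') : ch f w₀ φ c = ch f w₀ φ c' := by
  have := Fintype.ofFinite (Wc c)
  have := Fintype.ofFinite (Wc c')
  rw [ch, ch, avg_eq, avg_eq, card_Wc hv]
  congr 1
  refine Fintype.sum_equiv (WcEquiv hv) _ _ fun u => ?_
  show _ = φ (v * u * v⁻¹) • RW f (v * u * v⁻¹ * w₀) c'
  rw [hφ, RW_conj f ((tc_sc h).2 (inv_mul_cancel_right (v * u) v)) hv]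

theorem mS_ch (hF : Fx D w₀ c) (hc : Is3 D c) (hφ : IsClassFunction D.W φ) (ε : ℂ) :
    Lie.mS f w₀ (ε • ch f w₀ φ c) = ε * φ 1 * (Wc c).index := by
  let _ := lact D
  have h1 : ∀ c', c' ∈ MulAction.orbit D.W c ↔ ∃ v, _root_.Cfsg.Agent.DL.PP.Rel D v c c' := fun c' =>
    ⟨fun ⟨v, hv⟩ => ⟨v, rel_iff.2 hv⟩, fun ⟨v, h⟩ => ⟨v, rel_iff.1 h⟩⟩
  have h2 : (MulAction.orbit D.W c).Finite := Set.finite_range _
  have h3 : Wc c = MulAction.stabilizer D.W c := Subgroup.ext fun v => rel_iff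
  rw [Lie.mS, h3, MulAction.index_stabilizer, Set.ncard_eq_toFinset_card _ h2, mul_comm, ← nsmul_eq_mul, ← Finset.sum_const,
    finsum_eq_sum_of_support_subset (s := h2.toFinset)]
  · refine Finset.sum_congr rfl fun c' hc' => ?_
    obtain ⟨v, h4⟩ := (h1 c').1 (h2.mem_toFinset.1 hc')
    rw [finsum_eq_single _ (is3_of_rel h4 hc) fun _ h => absurd rfl h, classInner_smul_left,
      ← RW_conj f (show v ∈ CW D w₀ by rw [h.cw_top]; trivial) h4, ip_ch_one h hF hφ]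
  · intro c' hc'
    have h4 : classInner (ch f w₀ φ c) (RW f w₀ c') ≠ 0 := fun h => hc' (by simp [classInner_smul_left, h])
    exact h2.mem_toFinset.2 ((h1 c').2 (rel_of_ch h4).2)

end

theorem exists_irr (hg : IsGeneralizedCharacter ↥(GF F G) (ch f w₀ φ c))
    (hn : classInner (ch f w₀ φ c) (ch f w₀ φ c) = 1) :
    ∃ (χ : IrrCharacter ↥(GF F G)) (ε : ℤ), (ε = 1 ∨ ε = -1) ∧ χ.1 = (ε : ℂ) • ch f w₀ φ c := by
  rcases isIrr_of_generalized hg hn with h | h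
  · exact ⟨⟨_, h⟩, 1, .inl rfl, by simp⟩
  · exact ⟨⟨_, h⟩, -1, .inr rfl, by simp⟩

variable {Adm : Matrix D.R D.R ℤ → Prop} {S : Type} [Group S] (s : Sit D Adm S) {M : Ideal AlgInt}

variable (f w₀) in
/-- `ψ` is the restriction of `± ch φ c` -/
def Rep (φ : D.W → ℂ) (c : Lbl D) (ψ : IrrCharacter S) : Prop :=
  ∃ (χ : IrrCharacter ↥(GF F G)) (ε : ℤ), (ε = 1 ∨ ε = -1) ∧ χ.1 = (ε : ℂ) • ch f w₀ φ c ∧ s.Dn χ ψ

theorem exists_rep (h : Sc D w₀ Q) (hA : Api f) (hp : p ≠ 3) (hM : IsPModular 3 M) (hF : Fx D w₀ c) (hc : Is3 D c)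
    (hφ : IsClassFunction D.W φ) (hg : IsGeneralizedCharacter ↥(GF F G) (ch f w₀ φ c))
    (hn : classInner (ch f w₀ φ c) (ch f w₀ φ c) = 1) {n : ℕ} (h1 : φ 1 = n) (hn3 : ¬ 3 ∣ n) (hi : ¬ 3 ∣ (Wc c).index)
    (hz : s.Zw f w₀ c) (ht : ∀ cl v, s.Tw f cl → _root_.Cfsg.Agent.DL.PP.Rel D v c (c * cl) → cl = 1) :
    ∃ ψ : IrrCharacter S, Mem M ψ ∧ Rep f w₀ s φ c ψ := by
  obtain ⟨χ, ε, h2, h3⟩ := exists_irr hg hn
  have h4 : Mem M χ := by
    refine ((h.mc f hp).can M hM χ (fun c' hc' => ?_) (ε * n * (Wc c).index) ?_).2 fun h5 => ?_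
    · rw [h3, classInner_smul_left] at hc'
      obtain ⟨-, v, h6⟩ := rel_of_ch (right_ne_zero_of_mul hc')
      exact is3_of_rel h6 hc
    · rw [h3, mS_ch h hF hc hφ, h1]
      push_cast
      rfl
    · rcases Int.prime_three.dvd_or_dvd h5 with h5 | h5
      · rcases Int.prime_three.dvd_or_dvd h5 with h5 | h5
        · rcases h2 with rfl | rfl <;> omega
        · exact hn3 (by exact_mod_cast h5)
      · exact hi (by exact_mod_cast h5)
  obtain ⟨ψ, h5, h6⟩ := s.desc_lbl hA hM h4 (w := w₀) (c := c) (by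
    rw [h3, classInner_smul_left, ip_ch_one h hF hφ, h1]
    refine mul_ne_zero (by rcases h2 with rfl | rfl <;> simp) (Nat.cast_ne_zero.2 fun e => hn3 (by rw [e]; decide))) hz
    fun cl h5 h6 => by
      rw [h3, classInner_smul_left] at h6
      obtain ⟨-, v, h7⟩ := rel_of_ch (right_ne_zero_of_mul h6)
      exact ht cl v h5 h7
  exact ⟨ψ, h5, χ, ε, h2, h3, h6⟩

variable {s} {ψ ψ' : IrrCharacter S}

theorem Rep.unique (h : Rep f w₀ s φ c ψ) (h' : Rep f w₀ s φ c ψ') : ψ = ψ' := by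
  obtain ⟨χ, ε, h1, h2, h3⟩ := h
  obtain ⟨χ', ε', h1', h2', h3'⟩ := h'
  have h4 : χ = χ' := by
    by_contra hne
    have h5 := classInner_irr χ.2 χ'.2
    rw [if_neg fun e => hne (Subtype.ext e)] at h5
    have h6 := classInner_irr_self χ.2
    rw [h2, h2', classInner_smul_left, classInner_smul_right] at h5
    rw [h2, classInner_smul_left, classInner_smul_right] at h6
    rcases h1 with rfl | rfl <;> rcases h1' with rfl | rfl <;> simp_all only [_root_.Int.cast_one, _root_.one_smul, _root_.map_one, _root_.one_mul, _root_.mul_one, _root_.one_ne_zero, _root_.Int.reduceNeg, _root_.Int.cast_neg, _root_.neg_smul, _root_.map_neg, _root_.mul_neg, _root_.neg_eq_zero, _root_.neg_mul, _root_.neg_neg]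
  subst h4
  exact Subtype.ext (h3.unique h3')

variable (s) in
theorem exists_tr (hA : Api f) (adm : ∀ A, Adm A → ∃ (a : ℤ) (u : D.W), ¬ 3 ∣ a ∧ A = a • D.Wm u) (σ : MulAut S) :
    ∃ a : ℤ, ¬ 3 ∣ a ∧ ∀ (φ : D.W → ℂ) (c : Lbl D) (ψ : IrrCharacter S), Fx D w₀ c → Is3 D c → Rep f w₀ s φ c ψ →
      Rep f w₀ s φ (c ^ a) (Res.tr σ ψ) := by
  obtain ⟨α, A, h1, h2, h3, -⟩ := s.exists_aut σ
  obtain ⟨a, u, ha, rfl⟩ := adm A h2
  refine ⟨a, ha, fun φ c ψ hF hc ⟨χ, ε, h4, h5, h6⟩ => ⟨Res.tr h1.aut χ, ε, h4, funext fun g => ?_, h3 χ ψ h6⟩⟩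
  rw [Pi.smul_apply, ← ch_aut hA h1 (v := u⁻¹) (by rw [Matrix.mul_smul, ← D.Wm_mul, inv_mul_cancel, D.Wm_one]) ha hF hc]
  exact congrFun h5 _

theorem ov_cmp (h : Sc D w₀ Q) (hA : Api f) (hφ : IsClassFunction D.W φ) {χ χ' : IrrCharacter ↥(GF F G)} {ε ε' : ℂ}
    (h2 : χ.1 = ε • ch f w₀ φ c) (h2' : χ'.1 = ε' • ch f w₀ φ' c') (h3 : s.Ov χ ψ) (h3' : s.Ov χ' ψ) :
    ∃ cl v, s.Tw f cl ∧ _root_.Cfsg.Agent.DL.PP.Rel D v (c * cl) c' ∧ classInner (ch f w₀ φ c') (ch f w₀ φ' c') ≠ 0 := by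
  obtain ⟨l, hl, h4⟩ := h3.twist h3'
  obtain ⟨cl, h5, h6, -, -, h7⟩ := s.exists_lbl hA hl
  have h8 : χ'.1 = ε • ch f w₀ φ (c * cl) := funext fun g => by
    rw [h4, h2, Pi.smul_apply, Pi.smul_apply, ch_twist h6 h7, smul_eq_mul, smul_eq_mul, mul_left_comm]
  have h9 : classInner (ch f w₀ φ (c * cl)) (ch f w₀ φ' c') ≠ 0 := fun e => by
    have h10 := classInner_irr_self χ'.2
    nth_rewrite 1 [h8] at h10
    rw [h2', classInner_smul_left, classInner_smul_right, e] at h10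
    simp at h10
  obtain ⟨v, hv⟩ := rel_of_ch' h9
  exact ⟨cl, v, h5, hv, by rwa [← ch_rel h hφ hv]⟩

theorem Rep.cmp (h : Sc D w₀ Q) (hA : Api f) (hφ : IsClassFunction D.W φ) (h1 : Rep f w₀ s φ c ψ)
    (h1' : Rep f w₀ s φ' c' ψ) :
    ∃ cl v, s.Tw f cl ∧ _root_.Cfsg.Agent.DL.PP.Rel D v (c * cl) c' ∧ classInner (ch f w₀ φ c') (ch f w₀ φ' c') ≠ 0 :=
  let ⟨_, _, _, h2, h3⟩ := h1
  let ⟨_, _, _, h2', h3'⟩ := h1'
  ov_cmp h hA hφ h2 h2' h3.ov h3'.ov

end Cfsg.Agent.KZ.ClA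

private theorem dce_93c77d3d65c1 : _root_.True := by
  try have : _root_.True := by simp only [_root_.Cfsg.Agent.KZ.ClA.Wc.congr_simp]
  try have : _root_.True := by simp only [_root_.Cfsg.Agent.KZ.ClA.ch.eq_1]
  try have : _root_.True := by simp only [_root_.Cfsg.Agent.KZ.ClA.ch.congr_simp]
  exact _root_.True.intro
end

section
prune_inst 0x4010000

-- part: KZ/Exc/EDefs
section
set_option linter.all false
open scoped Cfsg.Agent.FastGrp

/-!
# KZ, the groups `E₆^ε`, `E₇`, `E₈` (scalar case): the interface (helper40)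

Plan: `notes/KZ/exc.md`.

* `Bd Γ C b` : a lower bound for the projection on a family with Gram matrix `Γ`; boxes `CvpA`, `CvpB`, `CvpC`;
* `Phi U n` : the class function induced from the coset `U n`;
* `wm hp w` : the matrix of an element of the Weyl group, `St hp y` the stabiliser of a cocharacter, `sgn hp`;
* `ph hp lam n` : the family of the types `(lam i, n i)` and their duals, boxes `Gram6`, `Gram7`;
* `Fm Ψ c` : `Ψ` is an isomorphism onto the stabiliser of the label `c`, `cg f w₀ Ψ c φ` : the almost character.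
-/

set_option autoImplicit false
set_option linter.unusedSectionVars false

namespace Cfsg.Agent.KZ.Exc

open CoxeterSystem Cfsg Cfsg.Lie Cfsg.Lie.ChevalleyDatum Matrix
open Cfsg.Agent.ChevalleyStructure Cfsg.Agent.ChevalleyStructure.CoxeterGeom
  Cfsg.Agent.ChevalleyStructure.CoxeterGeomTypes
open Cfsg.Agent.Tits.Roots Cfsg.Agent.Nodes Cfsg.Agent.Nodes.RGDChev Cfsg.Agent.DL Cfsg.Agent.DL.PP
open Cfsg.Agent.KZ.Lie Cfsg.Agent.KZ.DatX Cfsg.Agent.KZ.Cl Cfsg.Agent.Characters.Core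
open scoped ComplexConjugate

/-! ### closest vectors -/

/-- If the inner products `y` of a vector with a family of Gram matrix `Γ` satisfy `C`, then its norm is larger than `b`. -/
def Bd {ι : Type} [Fintype ι] (Γ : ι → ι → ℤ) (C : (ι → ℤ) → Prop) (b : ℚ) : Prop :=
  ∀ y : ι → ℤ, C y → ∃ t : ι → ℚ, b < 2 * ∑ i, t i * y i - ∑ i, ∑ j, t i * t j * Γ i j

/-- the Gram matrix of the types of `W(E₆)` -/
def p6 : Fin 8 → Fin 8 → ℤ := ![![1, 1, 1, 1, 1, 1, 1, 1], ![1, 3, 4, 6, 0, 6, 7, 10], ![1, 4, 10, 12, 0, 15, 23, 35],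
  ![1, 6, 12, 21, 0, 21, 30, 51], ![1, 0, 0, 0, 6, 0, 0, 0], ![1, 6, 15, 21, 0, 26, 39, 65],
  ![1, 7, 23, 30, 0, 39, 68, 115], ![1, 10, 35, 51, 0, 65, 115, 209]]

/-- the inner products with the duals -/
def m6 : Fin 8 → Fin 8 → ℤ := ![![0, 0, 0, 0, 0, 0, 0, 0], ![0, 0, 0, 0, 0, 0, 0, 0], ![0, 0, 0, 0, 0, 0, 0, 0],
  ![0, 0, 0, 0, 0, 0, 0, 0], ![0, 0, 0, 0, 0, 0, 0, 0], ![0, 0, 0, 0, 0, 0, 0, 1], ![0, 0, 0, 0, 0, 0, 3, 8],
  ![0, 0, 0, 0, 0, 1, 8, 25]]

/-- the Gram matrix of the types of `W(E₇)` -/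
def p7 : Fin 5 → Fin 5 → ℤ := ![![1, 1, 1, 1, 1], ![1, 4, 0, 3, 1], ![1, 0, 4, 1, 3], ![1, 3, 1, 5, 1], ![1, 1, 3, 1, 5]]

/-- types and duals -/
def dbl {ι : Type} (P M : ι → ι → ℤ) (a b : ι × Bool) : ℤ := if a.2 = b.2 then P a.1 b.1 else M a.1 b.1

/-- the Gram matrix for `W(E₆)` -/
def G6 : Fin 8 × Bool → Fin 8 × Bool → ℤ := dbl p6 m6

/-- the Gram matrix for `W(E₇)` -/
def G7 : Fin 5 × Bool → Fin 5 × Bool → ℤ := dbl p7 fun _ _ => 0

/-- the values at `1` -/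
def d6 : Fin 8 → ℤ := ![1, 27, 216, 270, 0, 432, 1080, 2160]

/-- the values at `1` -/
def d7 : Fin 5 → ℤ := ![1, 56, 0, 126, 0]

/-- condition A -/
def CA (y : Fin 8 × Bool → ℤ) : Prop := ¬ 3 ∣ y (0, false) ∧ ∀ a, a.1 ≠ 0 → 3 ∣ y a

/-- condition B -/
def CB (y : Fin 8 × Bool → ℤ) : Prop := CA y ∧ 3 ∣ y (0, true) - y (0, false)

/-- condition C -/
def CC (y : Fin 5 × Bool → ℤ) : Prop := ∀ a, 3 ∣ y a - d7 a.1

/-- box (the minimum is `4.129..`) -/
def CvpA : Prop := Bd G6 CA 3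

/-- box (the minimum is `4.516..`) -/
def CvpB : Prop := Bd G6 CB (17 / 4)

/-- box (the minimum is `4.833..`) -/
def CvpC : Prop := Bd G7 CC (19 / 4)

/-! ### functions induced from cosets -/

section Phi

variable {Γ Γ' : Type} [Group Γ] [Group Γ']

/-- the class function induced from the coset `U n` -/
noncomputable def Phi (U : Subgroup Γ) (n g : Γ) : ℂ := (Nat.card {v : Γ // v⁻¹ * g * v * n⁻¹ ∈ U} : ℂ) / Nat.card U

theorem Phi_class (U : Subgroup Γ) (n : Γ) : IsClassFunction Γ (Phi U n) := fun g h => by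
  unfold Phi
  congr 2
  exact Nat.card_congr ⟨fun v => ⟨h⁻¹ * v.1, by simpa only [mul_assoc, _root_.mul_inv_rev, _root_.inv_inv] using v.2⟩, fun v => ⟨h * v.1, by
    simpa only [mul_assoc, _root_.mul_inv_rev, _root_.inv_mul_cancel_left] using v.2⟩, fun v => by simp, fun v => by simp⟩

theorem conj_Phi (U : Subgroup Γ) (n g : Γ) : conj (Phi U n g) = Phi U n g := by simp only [Phi, _root_.map_div₀, _root_.map_natCast]

theorem Phi_top [Finite Γ] (n g : Γ) : Phi ⊤ n g = 1 := by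
  rw [Phi, Subgroup.card_top, Nat.card_congr (Equiv.subtypeUnivEquiv fun _ => Subgroup.mem_top _),
    div_self (Nat.cast_ne_zero.2 Nat.card_pos.ne')]

theorem Phi_prod (U : Subgroup Γ) (U' : Subgroup Γ') (n g : Γ) (n' g' : Γ') :
    Phi (U.prod U') (n, n') (g, g') = Phi U n g * Phi U' n' g' := by
  rw [Phi, Phi, Phi, div_mul_div_comm, ← Nat.cast_mul, ← Nat.cast_mul, ← Nat.card_prod, ← Nat.card_prod,
    Nat.card_congr (U.prodEquiv U').toEquiv]
  congr 2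
  exact Nat.card_congr ⟨fun v => (⟨v.1.1, v.2.1⟩, ⟨v.1.2, v.2.2⟩), fun v => ⟨(v.1.1, v.2.1), v.1.2, v.2.2⟩, fun _ => rfl,
    fun _ => rfl⟩

/-- averages against an induced function -/
theorem avg_Phi [Fintype Γ] {V : Type} [AddCommGroup V] [Module ℂ V] (U : Subgroup Γ) [Fintype U] (n : Γ) {r : Γ → V}
    (hr : ∀ g v, r (v * g * v⁻¹) = r g) :
    (Nat.card Γ : ℂ)⁻¹ • ∑ g, Phi U n g • r g = (Nat.card U : ℂ)⁻¹ • ∑ u : U, r (u * n) := by
  classical
  have h1 : ∀ g, Phi U n g • r g = (Nat.card U : ℂ)⁻¹ • ∑ v, if v⁻¹ * g * v * n⁻¹ ∈ U then r g else 0 := fun g => by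
    rw [Phi, div_eq_inv_mul, mul_smul, Nat.card_eq_fintype_card (α := {v : Γ // v⁻¹ * g * v * n⁻¹ ∈ U}),
      Fintype.card_subtype, ← Finset.sum_filter, Finset.sum_const, Nat.cast_smul_eq_nsmul]
  have h2 : ∀ v : Γ, (∑ g, if v⁻¹ * g * v * n⁻¹ ∈ U then r g else 0) = ∑ u : U, r (u * n) := fun v => by
    rw [← Finset.sum_filter, Finset.sum_subtype (p := fun g => v⁻¹ * g * v * n⁻¹ ∈ U) _ (by simp only [_root_.Finset.mem_filter, _root_.Finset.mem_univ, _root_.true_and, _root_.implies_true])]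
    let e : {g : Γ // v⁻¹ * g * v * n⁻¹ ∈ U} ≃ U :=
      { toFun := fun g => ⟨_, g.2⟩
        invFun := fun u => ⟨v * (u * n) * v⁻¹, by simp only [mul_assoc, _root_.inv_mul_cancel_left, _root_.inv_mul_cancel, _root_.mul_one, _root_.mul_inv_cancel, _root_.SetLike.coe_mem]⟩
        left_inv := fun g => Subtype.ext (by simp only [mul_assoc, _root_.inv_mul_cancel, _root_.mul_one, _root_.mul_inv_cancel_left, _root_.mul_inv_cancel])
        right_inv := fun u => Subtype.ext (by simp [mul_assoc]) }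
    refine Fintype.sum_equiv e _ _ fun g => ?_
    rw [← hr _ v⁻¹]
    simp only [e, _root_.inv_inv, _root_.Equiv.coe_fn_mk, _root_.inv_mul_cancel_right]
  simp only [h1]
  rw [← Finset.smul_sum, Finset.sum_comm, smul_comm]
  simp only [h2]
  rw [Finset.sum_const, Finset.card_univ, ← Nat.card_eq_fintype_card, ← Nat.cast_smul_eq_nsmul ℂ,
    inv_smul_smul₀ (Nat.cast_ne_zero.2 Nat.card_pos.ne')]

theorem ip_prod [Fintype Γ] [Fintype Γ'] (φ ψ : Γ → ℂ) (φ' ψ' : Γ' → ℂ) :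
    classInner (fun g : Γ × Γ' => φ g.1 * φ' g.2) (fun g => ψ g.1 * ψ' g.2) = classInner φ ψ * classInner φ' ψ' := by
  simp only [classInner, Nat.card_prod, Fintype.sum_prod_type, map_mul, Nat.cast_mul, _root_.mul_inv_rev]
  rw [mul_mul_mul_comm, Finset.sum_mul_sum, mul_comm ((Nat.card Γ' : ℂ)⁻¹)]
  congr 1
  exact Finset.sum_congr rfl fun _ _ => Finset.sum_congr rfl fun _ _ => by ring

theorem class_prod {φ : Γ → ℂ} {φ' : Γ' → ℂ} (h : IsClassFunction Γ φ) (h' : IsClassFunction Γ' φ') :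
    IsClassFunction (Γ × Γ') fun g => φ g.1 * φ' g.2 := fun g v => by
  show φ (v.1 * g.1 * v.1⁻¹) * φ' (v.2 * g.2 * v.2⁻¹) = _
  rw [h, h']

end Phi

/-! ### the Weyl groups -/

section Weyl

variable {C : ChevalleyDatum} {l : ℕ} {M : CoxeterMatrix (Fin l)} (hp : IsType C l M)

/-- a word -/
abbrev wd (M : CoxeterMatrix (Fin l)) (L : List (Fin l)) : M.Group := M.toCoxeterSystem.wordProd L

/-- the matrix of an element of the Weyl group on the cocharacters -/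
def wm : M.Group →* Matrix (Fin l) (Fin l) ℤ where
  toFun w := Matrix.of fun i j => rep M.toCoxeterSystem hp.isCartan w⁻¹ (sr i) j
  map_one' := by
    ext i j
    simp only [sr, Pi.single_apply, Matrix.one_apply, eq_comm, _root_.inv_one, _root_.map_one, _root_.Module.End.one_apply, _root_.Matrix.of_apply]
  map_mul' v w := by
    ext i j
    rw [Matrix.of_apply, _root_.mul_inv_rev, rep_mul_apply, Matrix.mul_apply]
    conv_lhs => rw [pi_eq_sum_univ' (rep M.toCoxeterSystem hp.isCartan v⁻¹ (sr i)), map_sum]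
    simp only [map_smul, Finset.sum_apply, Pi.smul_apply, smul_eq_mul, Matrix.of_apply]
    rfl

theorem vecMul_wm (w : M.Group) (a : Fin l → ℤ) : a ᵥ* wm hp w = rep M.toCoxeterSystem hp.isCartan w⁻¹ a := by
  funext j
  conv_rhs => rw [pi_eq_sum_univ' a, map_sum]
  simp only [map_smul, Finset.sum_apply, Pi.smul_apply, smul_eq_mul]
  rfl

theorem Wm_eq {p : ℕ} [Fact p.Prime] {k : Type} [Field k] [CharP k p] [IsAlgClosed k] {Mx : Matrix (Fin l) (Fin l) ℤ}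
    (X : XF hp p k Mx) (w : M.Group) : X.D.Wm w = wm hp w := by
  have h0 : ∀ (B : Matrix (Fin l) (Fin l) ℤ) (i j : Fin l), (sr i ᵥ* B) j = B i j := fun B i j => by
    simp only [sr, single_vecMul, one_smul, Matrix.row]
  ext i j
  exact (h0 _ i j).symm.trans ((congrFun ((X.D.wt_act' w (sr i)).symm.trans (vecMul_wm hp w (sr i)).symm) j).trans (h0 _ i j))

theorem wm_inj : Function.Injective (wm hp) := fun v w h => by
  refine inv_injective (rep_injective M.toCoxeterSystem hp.isCartan (LinearMap.ext fun a => ?_))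
  rw [← vecMul_wm hp, ← vecMul_wm hp, h]

theorem wm_simple (i : Fin l) : wm hp (M.toCoxeterSystem.simple i) = sM C l i := by
  ext a b
  show rep M.toCoxeterSystem hp.isCartan (M.toCoxeterSystem.simple i)⁻¹ (sr a) b = _
  rw [inv_simple, rep, lift_apply_simple, sr, refl_single]
  simp only [sM, Matrix.of_apply, Pi.sub_apply, Pi.single_apply, mul_one, eq_comm]

theorem wm_wd (L : List (Fin l)) : wm hp (wd M L) = (L.map (sM C l)).prod := by
  induction L with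
  | nil => rw [wd, wordProd_nil, map_one]; rfl
  | cons i L ih => rw [wd, wordProd_cons, map_mul, wm_simple, List.map_cons, List.prod_cons, ← ih]

/-- the stabiliser of a cocharacter -/
def St (y : Fin l → ℤ) : Subgroup M.Group where
  carrier := {u | wm hp u *ᵥ y = y}
  one_mem' := by
    show wm hp 1 *ᵥ y = y
    rw [map_one, one_mulVec]
  mul_mem' {a b} ha hb := by
    have ha' : wm hp a *ᵥ y = y := ha
    have hb' : wm hp b *ᵥ y = y := hb
    show wm hp (a * b) *ᵥ y = y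
    rw [map_mul, ← mulVec_mulVec, hb', ha']
  inv_mem' {a} ha := by
    have ha' : wm hp a *ᵥ y = y := ha
    show wm hp a⁻¹ *ᵥ y = y
    conv_lhs => rw [← ha', mulVec_mulVec, ← map_mul, inv_mul_cancel, map_one, one_mulVec]

theorem mem_St {y : Fin l → ℤ} {u : M.Group} : u ∈ St hp y ↔ wm hp u *ᵥ y = y := Iff.rfl

/-- the sign -/
noncomputable def sgn (w : M.Group) : ℂ := ((wm hp w).det : ℂ)

theorem sgn_mul (v w : M.Group) : sgn hp (v * w) = sgn hp v * sgn hp w := by simp only [sgn, _root_.map_mul, _root_.Matrix.det_mul, _root_.Int.cast_mul]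

theorem sgn_one : sgn hp 1 = 1 := by simp [sgn]

theorem sgn_class : IsClassFunction M.Group (sgn hp) := fun g h => by
  rw [sgn_mul, sgn_mul, mul_right_comm, ← sgn_mul, mul_inv_cancel, sgn_one, one_mul]

/-- the functions of the types `(lam i, n i)` and their duals -/
noncomputable def ph {ι : Type} (lam : ι → Fin l → ℤ) (n : ι → List (Fin l)) (a : ι × Bool) (g : M.Group) : ℂ :=
  Phi (St hp (lam a.1)) (wd M (n a.1)) g * if a.2 then sgn hp g else 1

theorem ph_class {ι : Type} (lam : ι → Fin l → ℤ) (n : ι → List (Fin l)) (a : ι × Bool) :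
    IsClassFunction M.Group (ph hp lam n a) := fun g h => by
  rw [ph, ph, Phi_class, sgn_class]

/-- the facts on a family of types -/
structure Gram {ι : Type} (lam : ι → Fin l → ℤ) (n : ι → List (Fin l)) (Γ : ι × Bool → ι × Bool → ℤ) (d : ι → ℤ) :
    Prop where
  ip : ∀ [Fintype M.Group] (a b : ι × Bool), classInner (ph hp lam n a) (ph hp lam n b) = Γ a b
  one : ∀ a, ph hp lam n a 1 = d a.1
  norm : ∀ i, wd M (n i) ∈ Subgroup.normalizer (St hp (lam i) : Set M.Group)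

end Weyl

/-- `W(E₆)` -/
abbrev W6 : Type := CoxeterMatrix.E₆.Group

/-- `W(E₇)` -/
abbrev W7 : Type := CoxeterMatrix.E₇.Group

/-- `W(E₈)` -/
abbrev W8 : Type := CoxeterMatrix.E₈.Group

/-- the types `E₆ D₅ A₄A₁ D₄ D₄ A₄ A₃A₁ A₃` -/
def lam6 : Fin 8 → Fin 6 → ℤ := ![![0, 0, 0, 0, 0, 0], ![1, 0, 0, 0, 0, 0], ![0, 0, 1, 0, 0, 0], ![1, 0, 0, 0, 0, 2],
  ![1, 0, 0, 0, 0, 2], ![1, 1, 0, 0, 0, 0], ![0, 1, 1, 0, 0, 0], ![1, 1, 2, 0, 0, 0]]

/-- the twists -/
def n6 : Fin 8 → List (Fin 6) := ![[], [], [], [], [5, 4, 3, 2, 1, 3, 4, 5, 0, 2, 3, 4, 1, 3, 2, 0], [], [], []]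

/-- the types `E₇ E₆ E₆ D₆ D₆` -/
def lam7 : Fin 5 → Fin 7 → ℤ := ![![0, 0, 0, 0, 0, 0, 0], ![0, 0, 0, 0, 0, 0, 1], ![0, 0, 0, 0, 0, 0, 1],
  ![1, 0, 0, 0, 0, 0, 0], ![1, 0, 0, 0, 0, 0, 0]]

/-- the twists -/
def n7 : Fin 5 → List (Fin 7) := ![[], [], [6, 5, 4, 3, 2, 1, 3, 4, 5, 6, 0, 2, 3, 4, 5, 1, 3, 4, 2, 3, 0, 2, 1, 3, 4, 5, 6], [],
  [0, 2, 3, 4, 5, 1, 3, 4, 2, 3, 0, 2, 1, 3, 4, 5, 6, 5, 4, 3, 2, 1, 3, 4, 5, 0, 2, 3, 4, 1, 3, 2, 0]]

/-- the family on `W(E₆)` -/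
noncomputable abbrev ph6 : Fin 8 × Bool → W6 → ℂ := ph hpE6 lam6 n6

/-- the family on `W(E₇)` -/
noncomputable abbrev ph7 : Fin 5 × Bool → W7 → ℂ := ph hpE7 lam7 n7

/-- box -/
abbrev Gram6 : Prop := Gram hpE6 lam6 n6 G6 d6

/-- box -/
abbrev Gram7 : Prop := Gram hpE7 lam7 n7 G7 d7

/-! ### almost characters -/

variable {p : ℕ} [Fact p.Prime] {k : Type} [Field k] [CharP k p] {Y : Type} [Group Y] {N : Type} [Fintype N]
  [DecidableEq N] {ρ : Y →* GL N k} {F : MulAut Y} {G : Subgroup Y} [IsAlgClosed k] {D : Datum p ρ F G}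
  {Γ : Type} [Group Γ] {Ψ : Γ →* D.W} {c c' : Lbl D}

/-- `Ψ` is an isomorphism onto the stabiliser of `c` -/
structure Fm (Ψ : Γ →* D.W) (c : Lbl D) : Prop where
  inj : Function.Injective Ψ
  mem : ∀ v, _root_.Cfsg.Agent.DL.PP.Rel D v c c ↔ ∃ γ, Ψ γ = v

theorem fm_one : Fm (MonoidHom.id D.W) (1 : Lbl D) :=
  ⟨fun _ _ h => h, fun v => ⟨fun _ => ⟨v, rfl⟩, fun _ _ => by rw [map_one, map_one]⟩⟩

theorem Fm.rel (E : Fm Ψ c) (γ : Γ) : _root_.Cfsg.Agent.DL.PP.Rel D (Ψ γ) c c := (E.mem _).2 ⟨γ, rfl⟩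

theorem Fm.range (E : Fm Ψ c) : Ψ.range = ClA.Wc c := Subgroup.ext fun v => (E.mem v).symm

theorem Fm.of_eq (E : Fm Ψ c) (h : ClA.Wc c' = ClA.Wc c) : Fm Ψ c' :=
  ⟨E.inj, fun v => by rw [← E.mem, ← ClA.mem_Wc, h, ClA.mem_Wc]⟩

theorem Fm.index_mul (E : Fm Ψ c) : (ClA.Wc c).index * Nat.card Γ = Nat.card D.W := by
  rw [← (ClA.Wc c).index_mul_card, ← E.range, Nat.card_congr (MonoidHom.ofInjective E.inj).toEquiv]

variable [Fintype Γ] (f : Fr D) [Fintype ↥(GF F G)] {w₀ : D.W} {Q : ℤ}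

/-- the almost character -/
noncomputable def cg (w₀ : D.W) (Ψ : Γ →* D.W) (c : Lbl D) : (Γ → ℂ) →ₗ[ℂ] ↥(GF F G) → ℂ where
  toFun φ := (Nat.card Γ : ℂ)⁻¹ • ∑ γ, φ γ • RW f (Ψ γ * w₀) c
  map_add' φ φ' := by simp only [Pi.add_apply, add_smul, Finset.sum_add_distrib, smul_add]
  map_smul' a φ := by
    simp only [Pi.smul_apply, smul_eq_mul, mul_smul, ← Finset.smul_sum, RingHom.id_apply]
    rw [smul_comm]

theorem cg_eq (φ : Γ → ℂ) : cg f w₀ Ψ c φ = (Nat.card Γ : ℂ)⁻¹ • ∑ γ, φ γ • RW f (Ψ γ * w₀) c := rfl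

variable {f} {φ φ' : Γ → ℂ}

theorem rel_of_cg {w : D.W} (h : classInner (cg f w₀ Ψ c φ) (RW f w c') ≠ 0) : Fx D w c' ∧ ∃ v, _root_.Cfsg.Agent.DL.PP.Rel D v c c' := by
  simp only [cg_eq, classInner_smul_left, classInner_sum_left] at h
  obtain ⟨γ, -, h1⟩ := Finset.exists_ne_zero_of_sum_ne_zero (right_ne_zero_of_mul h)
  obtain ⟨-, h2, v, -, h3⟩ := rel_of_ne (right_ne_zero_of_mul h1)
  exact ⟨h2, v, h3⟩

theorem rel_of_cg' {Γ' : Type} [Group Γ'] [Fintype Γ'] {Ψ' : Γ' →* D.W} {ψ : Γ' → ℂ}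
    (h : classInner (cg f w₀ Ψ c φ) (cg f w₀ Ψ' c' ψ) ≠ 0) : ∃ v, _root_.Cfsg.Agent.DL.PP.Rel D v c c' := by
  rw [cg_eq f ψ] at h
  simp only [classInner_smul_right, classInner_sum_right] at h
  obtain ⟨γ, -, h1⟩ := Finset.exists_ne_zero_of_sum_ne_zero (right_ne_zero_of_mul h)
  exact (rel_of_cg (right_ne_zero_of_mul h1)).2

/-- the label `1` is orthogonal to the other labels -/
theorem ip_cg_ne {Γ' : Type} [Group Γ'] [Fintype Γ'] {Ψ' : Γ' →* D.W} {ψ : Γ' → ℂ} (h : c' ≠ 1) :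
    classInner (cg f w₀ Ψ 1 φ) (cg f w₀ Ψ' c' ψ) = 0 := by
  by_contra h1
  obtain ⟨v, hv⟩ := rel_of_cg' h1
  exact h (eq_one_of_rel hv)

theorem cg_twist {l : ↥(GF F G) →* ℂˣ} {cl : Lbl D} (h' : ∀ w c g, RW f w (c * cl) g = l g * RW f w c g)
    (g : ↥(GF F G)) : cg f w₀ Ψ (c * cl) φ g = l g * cg f w₀ Ψ c φ g := by
  simp only [cg_eq, Pi.smul_apply, Finset.sum_apply, smul_eq_mul, h', Finset.mul_sum]
  exact Finset.sum_congr rfl fun u _ => by ring

theorem cg_aut (hA : Api f) (E : Fm Ψ c) {α : MulAut Y} {A : Matrix D.R D.R ℤ} (h : Au D α A) {v : D.W} {a : ℤ}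
    (hv : D.Wm v * A = a • (1 : Matrix D.R D.R ℤ)) (ha : a ≠ 0) (hF : Fx D w₀ c) (g : ↥(GF F G)) :
    cg f w₀ Ψ c φ (h.aut g) = cg f w₀ Ψ (c ^ a) φ g := by
  simp only [cg_eq, Pi.smul_apply, Finset.sum_apply, smul_eq_mul]
  congr 1
  exact Finset.sum_congr rfl fun u _ => by rw [RW_scalar f hA h hv ha (hF.mul (E.rel u))]

variable (h : Sc D w₀ Q)
include h

/-- transport along an element which normalises the image of `Ψ` -/
theorem cg_rel {v : D.W} (hv : _root_.Cfsg.Agent.DL.PP.Rel D v c c') (a : Γ ≃ Γ) (ha : ∀ γ, Ψ (a γ) * v = v * Ψ γ) :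
    cg f w₀ Ψ c (fun γ => φ (a γ)) = cg f w₀ Ψ c' φ := by
  rw [cg_eq, cg_eq]
  congr 1
  exact Fintype.sum_equiv a _ _ fun γ => by rw [RW_conj f ((ClA.tc_sc h).2 (ha γ)) hv]

/-- `-1` is in the Weyl group -/
theorem cg_inv {v : D.W} (hv : D.Wm v = -1) : cg f w₀ Ψ c⁻¹ φ = cg f w₀ Ψ c φ :=
  (cg_rel h (c := c) (v := v) (fun z => by rw [hv, neg_mulVec, one_mulVec, map_inv, DL.chr_neg, inv_inv]) (Equiv.refl _)
    fun γ => D.Wm_injective (by rw [D.Wm_mul, D.Wm_mul, hv, mul_neg_one, neg_one_mul]; rfl)).symm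

variable (E : Fm Ψ c)
include E

theorem RW_class (g v : Γ) : RW f (Ψ (v * g * v⁻¹) * w₀) c = RW f (Ψ g * w₀) c :=
  (RW_conj f ((ClA.tc_sc h).2 (by rw [← map_mul, ← map_mul, inv_mul_cancel_right])) (E.rel v)).symm

theorem ip_cg_RW (hF : Fx D w₀ c) (hφ : IsClassFunction Γ φ) (u : Γ) :
    classInner (cg f w₀ Ψ c φ) (RW f (Ψ u * w₀) c) = φ u := by
  have h1 := sum_fib (fun v : Γ => v⁻¹ * u * v) fun z => φ z
  have h2 : ∀ v : Γ, φ (v⁻¹ * u * v) = φ u := fun v => by simpa using hφ u v⁻¹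
  have h3 : ∀ z : Γ, classInner (RW f (Ψ z * w₀) c) (RW f (Ψ u * w₀) c) = Nat.card {v : Γ // v⁻¹ * u * v = z} :=
    fun z => by
    rw [RW_ip f (hF.mul (E.rel z)) (hF.mul (E.rel u))]
    congr 1
    let j : {v : Γ // v⁻¹ * u * v = z} → {v : D.W // Tc D v (Ψ z * w₀) (Ψ u * w₀) ∧ _root_.Cfsg.Agent.DL.PP.Rel D v c c} := fun v =>
      ⟨Ψ v.1, (ClA.tc_sc h).2 (by rw [← map_mul, ← map_mul, ← inv_mul_eq_iff_eq_mul.1 ((mul_assoc _ _ _).symm.trans v.2)]), E.rel _⟩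
    refine (Nat.card_congr (Equiv.ofBijective j ⟨fun a b e => Subtype.ext (E.inj (congrArg Subtype.val e)), fun v => ?_⟩)).symm
    obtain ⟨γ, hγ⟩ := (E.mem _).1 v.2.2
    refine ⟨⟨γ, E.inj ?_⟩, Subtype.ext hγ⟩
    rw [map_mul, map_mul, map_inv, hγ, mul_assoc, (ClA.tc_sc h).1 v.2.1, inv_mul_cancel_left]
  simp only [h2, Finset.sum_const, Finset.card_univ, nsmul_eq_mul, ← Nat.card_eq_fintype_card] at h1
  simp only [cg_eq, classInner_smul_left, classInner_sum_left, h3, mul_comm (φ _)]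
  rw [← h1, inv_mul_cancel_left₀ (Nat.cast_ne_zero.2 Nat.card_pos.ne')]

theorem ip_cg_one (hF : Fx D w₀ c) (hφ : IsClassFunction Γ φ) : classInner (cg f w₀ Ψ c φ) (RW f w₀ c) = φ 1 := by
  have h1 := ip_cg_RW (f := f) h E hF hφ 1
  rwa [map_one, one_mul] at h1

/-- **isometry** -/
theorem ip_cg (hF : Fx D w₀ c) (hφ : IsClassFunction Γ φ) :
    classInner (cg f w₀ Ψ c φ) (cg f w₀ Ψ c φ') = classInner φ φ' := by
  rw [cg_eq f φ']
  simp only [classInner_smul_right, classInner_sum_right, ip_cg_RW h E hF hφ, map_inv₀, map_natCast,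
    mul_comm (conj (φ' _))]
  rfl

theorem mS_cg (hF : Fx D w₀ c) (hc : Is3 D c) (hφ : IsClassFunction Γ φ) :
    Lie.mS f w₀ (cg f w₀ Ψ c φ) = φ 1 * (ClA.Wc c).index := by
  let _ := lact D
  have h1 : ∀ c', c' ∈ MulAction.orbit D.W c ↔ ∃ v, _root_.Cfsg.Agent.DL.PP.Rel D v c c' := fun c' =>
    ⟨fun ⟨v, hv⟩ => ⟨v, rel_iff.2 hv⟩, fun ⟨v, h⟩ => ⟨v, rel_iff.1 h⟩⟩
  have h2 : (MulAction.orbit D.W c).Finite := Set.finite_range _
  have h3 : ClA.Wc c = MulAction.stabilizer D.W c := Subgroup.ext fun v => rel_iff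
  rw [Lie.mS, h3, MulAction.index_stabilizer, Set.ncard_eq_toFinset_card _ h2, mul_comm, ← nsmul_eq_mul, ← Finset.sum_const,
    finsum_eq_sum_of_support_subset (s := h2.toFinset)]
  · refine Finset.sum_congr rfl fun c' hc' => ?_
    obtain ⟨v, h4⟩ := (h1 c').1 (h2.mem_toFinset.1 hc')
    rw [finsum_eq_single _ (is3_of_rel h4 hc) fun _ h => absurd rfl h,
      ← RW_conj f (show v ∈ CW D w₀ by rw [h.cw_top]; trivial) h4, ip_cg_one h E hF hφ]
  · intro c' hc'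
    have h4 : classInner (cg f w₀ Ψ c φ) (RW f w₀ c') ≠ 0 := fun h => hc' (by simp [h])
    exact h2.mem_toFinset.2 ((h1 c').2 (rel_of_cg h4).2)

/-- an average over a coset -/
theorem cg_Phi (U : Subgroup Γ) (n : Γ) {η : D.W → ℂ} (hη : IsClassFunction D.W η) :
    cg f w₀ Ψ c (fun g => Phi U n g * η (Ψ g)) = avg f (U.map Ψ) (fun u => η (u * Ψ n)) (Ψ n * w₀) c := by
  have := Fintype.ofFinite U
  have := Fintype.ofFinite (U.map Ψ)
  have h1 := avg_Phi U n (r := fun g => η (Ψ g) • RW f (Ψ g * w₀) c) fun g v => by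
    rw [RW_class h E, map_mul, map_mul, map_inv, hη]
  simp only [cg_eq, mul_smul, h1, ClA.avg_eq]
  rw [Nat.card_congr (U.equivMapOfInjective Ψ E.inj).toEquiv]
  congr 1
  refine Fintype.sum_equiv (U.equivMapOfInjective Ψ E.inj).toEquiv _ _ fun u => ?_
  rw [map_mul, mul_assoc]
  rfl

/-- **Levi subgroups**: `U` is the stabiliser of `lam`, `n` normalises `U`, and `U` fixes `x` where `c = ξ ^ x`. -/
theorem gen (hA : Api f) (hF : Fx D w₀ c) {U : Subgroup Γ} {n : Γ} (hn : n ∈ Subgroup.normalizer (U : Set Γ))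
    {lam x : D.R → ℤ} (hU : Wl D lam = U.map Ψ) {ξ : ℂˣ} (hc : c = cx D x ξ) (hx : ∀ u ∈ U, x ᵥ* D.Wm (Ψ u) = x) :
    IsGeneralizedCharacter ↥(GF F G) (cg f w₀ Ψ c (Phi U n)) ∧
      IsGeneralizedCharacter ↥(GF F G) (cg f w₀ Ψ c fun g => Phi U n g * sg D (Ψ g)) := by
  have hr : ∀ a, D.Rt a → ∀ y, D.rf a ∈ Wl D y ↔ D.wt a ⬝ᵥ y = 0 := fun a ha y => by
    show D.Wm (D.rf a) *ᵥ y = y ↔ _
    rw [D.Wm_rf ha, sub_mulVec, one_mulVec, vecMulVec_mulVec, sub_eq_self]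
    refine ⟨fun e => ?_, fun e => by rw [e, MulOpposite.op_zero, zero_smul]⟩
    have h3 := congrArg (D.wt a ⬝ᵥ ·) e
    have h4 : D.wt a ⬝ᵥ D.cor a = 2 := (D.pair_cor ha a).trans (Nodes.Coroot.cpr_self _ _ ha)
    simp only [dotProduct_zero, op_smul_eq_smul, dotProduct_smul, h4, smul_eq_mul] at h3
    omega
  have hL : LeviOK D lam (Ψ n * w₀) c := by
    refine ⟨fun a ha h1 => ?_, hF.mul (E.rel n), ξ, x, fun a ha h1 => ?_, hc⟩
    · have hb : D.Rt (D.act (Ψ n * w₀) (D.g a)) := IsRoot.act (D.g_root a ha) _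
      have h2 := congrArg (· ⬝ᵥ lam) (wt_gw (Ψ n * w₀) ha)
      rw [D.Wm_mul, mul_assoc, h.eq, Matrix.mul_smul, mul_one] at h2
      simp only [← dotProduct_mulVec, smul_mulVec, dotProduct_smul, smul_dotProduct, h1, smul_eq_mul, mul_zero] at h2
      have h3 := (hr _ hb _).2 ((mul_eq_zero.1 h2).resolve_left h.ne_zero)
      refine (hr _ hb _).1 ?_
      have h4 : (Ψ n)⁻¹ * D.rf (D.act (Ψ n * w₀) (D.g a)) * Ψ n ∈ Wl D lam := by
        show D.Wm _ *ᵥ lam = lam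
        rw [D.Wm_mul, D.Wm_mul, ← mulVec_mulVec, ← mulVec_mulVec, h3, mulVec_mulVec, ← D.Wm_mul, inv_mul_cancel, D.Wm_one,
          one_mulVec]
      rw [hU] at h4 ⊢
      obtain ⟨u, hu, e⟩ := h4
      exact ⟨n * u * n⁻¹, (Subgroup.mem_normalizer_iff.1 hn u).1 hu, by simp only [e, mul_assoc, _root_.map_mul, _root_.map_inv, _root_.mul_inv_cancel, _root_.mul_one, _root_.mul_inv_cancel_left]⟩
    · obtain ⟨u, hu, e⟩ : D.rf a ∈ U.map Ψ := hU ▸ (hr a ha lam).2 h1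
      have h2 := hx u hu
      rw [e, D.Wm_rf ha, vecMul_sub, vecMul_one, vecMul_vecMulVec, sub_eq_self] at h2
      have h3 := congrArg (· ⬝ᵥ D.cor a) h2
      have h4 : D.wt a ⬝ᵥ D.cor a = 2 := (D.pair_cor ha a).trans (Nodes.Coroot.cpr_self _ _ ha)
      simp only [smul_dotProduct, h4, zero_dotProduct, smul_eq_mul] at h3
      omega
  constructor
  · have h1 := cg_Phi (f := f) h E U n (η := fun _ => 1) fun _ _ => rfl
    simp only [mul_one] at h1
    rw [show Phi U n = fun g => Phi U n g from rfl, h1, ← hU]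
    exact hA.levi _ _ _ hL
  · have h0 : ∀ a b, sg D (a * b) = sg D a * sg D b := se_mul true
    rw [cg_Phi h E U n (η := sg D) fun g v => by
      rw [h0, h0, mul_right_comm, ← h0, mul_inv_cancel, show sg D 1 = 1 from se_one true, one_mul], ← hU]
    have h1 : avg f (Wl D lam) (fun u => sg D (u * Ψ n)) (Ψ n * w₀) c =
        (((D.Wm (Ψ n)).det : ℤ) : ℂ) • avg f (Wl D lam) (sg D) (Ψ n * w₀) c := by
      have := Fintype.ofFinite (Wl D lam)
      rw [ClA.avg_eq, ClA.avg_eq, smul_comm (((D.Wm (Ψ n)).det : ℤ) : ℂ), Finset.smul_sum (r := (((D.Wm (Ψ n)).det : ℤ) : ℂ))]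
      congr 1
      exact Finset.sum_congr rfl fun u _ => by rw [h0, mul_comm, mul_smul]; rfl
    rw [h1, Int.cast_smul_eq_zsmul]
    exact (Sym.genL _).zsmul_mem (hA.leviSt _ _ _ hL) _

end Cfsg.Agent.KZ.Exc

private theorem dce_01d111d79e6c : _root_.True := by
  try have : _root_.True := by simp only [_root_.Cfsg.Agent.KZ.Exc.cg.congr_simp]
  try have : _root_.True := by simp only [_root_.Cfsg.Agent.KZ.Exc.Phi.eq_1]
  try have : _root_.True := by simp only [_root_.Cfsg.Agent.KZ.Exc.wm.congr_simp]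
  try have : _root_.True := by simp only [_root_.Cfsg.Agent.ChevalleyStructure.CoxeterGeom.rep.eq_1]
  try have : _root_.True := by simp only [_root_.Cfsg.Agent.KZ.Exc.wd.eq_1]
  try have : _root_.True := by simp only [_root_.Cfsg.Agent.KZ.Exc.sgn.eq_1]
  try have : _root_.True := by simp only [_root_.Cfsg.Agent.KZ.Exc.ph.eq_1]
  exact _root_.True.intro
end

-- part: KZ/Exc/EGram
section
set_option linter.all false
open scoped Cfsg.Agent.FastGrp

/-!
# KZ, exceptional groups: inner products of the functions `ph` (helper40)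

`dom_key` : dominant cocharacters; `gram_eq` : the inner product as a sum over an orbit; `orb_sum` : the orbit as a list.
-/

set_option autoImplicit false
set_option linter.unusedSectionVars false

namespace Cfsg.Agent.KZ.Exc.Gr

open CoxeterSystem Cfsg Cfsg.Lie Cfsg.Lie.ChevalleyDatum Matrix
open Cfsg.Agent.ChevalleyStructure Cfsg.Agent.ChevalleyStructure.CoxeterGeom
  Cfsg.Agent.ChevalleyStructure.CoxeterGeomTypes
open Cfsg.Agent.Tits.Roots Cfsg.Agent.Nodes Cfsg.Agent.Nodes.RGDChev Cfsg.Agent.KZ.DatX Cfsg.Agent.Characters.Core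
open scoped ComplexConjugate

variable {C : ChevalleyDatum} {l : ℕ} {M : CoxeterMatrix (Fin l)} (hp : IsType C l M)

/-- the simple reflections -/
abbrev sr' (M : CoxeterMatrix (Fin l)) (i : Fin l) : M.Group := M.toCoxeterSystem.simple i

/-- the length -/
noncomputable abbrev len (w : M.Group) : ℕ := M.toCoxeterSystem.length w

theorem wm_mul_mulVec (v w : M.Group) (y : Fin l → ℤ) : wm hp (v * w) *ᵥ y = wm hp v *ᵥ (wm hp w *ᵥ y) := by
  rw [map_mul, mulVec_mulVec]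

theorem wm_one_mulVec (y : Fin l → ℤ) : wm hp 1 *ᵥ y = y := by rw [map_one, one_mulVec]

theorem apply_eq (w : M.Group) (y : Fin l → ℤ) (i : Fin l) :
    (wm hp w *ᵥ y) i = rep M.toCoxeterSystem hp.isCartan w⁻¹ (Pi.single i 1) ⬝ᵥ y := by
  rw [← vecMul_wm, ← dotProduct_mulVec, single_one_dotProduct]

theorem simple_apply (i : Fin l) (y : Fin l → ℤ) (a : Fin l) :
    (wm hp (sr' M i) *ᵥ y) a = y a - y i * cartanOf C l i a := by rw [wm_simple, sM_mulVec]

theorem simple_self (i : Fin l) (y : Fin l → ℤ) : (wm hp (sr' M i) *ᵥ y) i = -y i := by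
  rw [simple_apply, hp.isCartan.diag]
  ring

theorem simple_mem {y : Fin l → ℤ} {i : Fin l} (h : y i = 0) : sr' M i ∈ St hp y :=
  funext fun a => by rw [simple_apply, h, zero_mul, sub_zero]

theorem simple_simple (i : Fin l) (y : Fin l → ℤ) : wm hp (sr' M i) *ᵥ (wm hp (sr' M i) *ᵥ y) = y := by
  rw [← wm_mul_mulVec, simple_mul_simple_self, wm_one_mulVec]

theorem sgn_simple (i : Fin l) : sgn hp (sr' M i) = -1 := by
  have h : sM C l i = 1 + vecMulVec (-cartanOf C l i) (Pi.single i 1) := by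
    ext a b
    simp [sM, vecMulVec_apply, Pi.single_apply, Matrix.one_apply, sub_eq_add_neg]
  rw [sgn, wm_simple, h, vecMulVec_eq Unit, det_one_add_replicateCol_mul_replicateRow, single_one_dotProduct, Pi.neg_apply,
    hp.isCartan.diag]
  norm_num

theorem len_lt {y : Fin l → ℤ} (hy : 0 ≤ y) {w : M.Group} {i : Fin l} (h : (wm hp w *ᵥ y) i < 0) :
    len (sr' M i * w) < len w := by
  rw [len, len, ← length_inv _ w, ← length_inv, _root_.mul_inv_rev, inv_simple]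
  by_contra h1
  have h2 := nonneg_of_lt M.toCoxeterSystem hp.isCartan w⁻¹ i
    (lt_of_le_of_ne (not_lt.1 h1) (length_mul_simple_ne _ _ _).symm)
  rw [apply_eq] at h
  exact absurd (dotProduct_nonneg_of_nonneg h2 hy) (not_le.2 h)

/-- an element which maps a dominant cocharacter to a dominant one -/
theorem dom_key {y : Fin l → ℤ} (hy : 0 ≤ y) {K : Subgroup M.Group} (hK : ∀ i, y i = 0 → sr' M i ∈ K) (w : M.Group)
    (h : 0 ≤ wm hp w *ᵥ y) : w ∈ K := by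
  induction hn : len w using Nat.strong_induction_on generalizing w with
  | _ n ih =>
    by_cases h1 : w = 1
    · exact h1 ▸ K.one_mem
    obtain ⟨i, hi⟩ := M.toCoxeterSystem.exists_rightDescent_of_ne_one h1
    have h2 := nonpos_of_lt M.toCoxeterSystem hp.isCartan w i hi
    have h3 : y i = rep M.toCoxeterSystem hp.isCartan w (Pi.single i 1) ⬝ᵥ (wm hp w *ᵥ y) := by
      conv_lhs => rw [← wm_one_mulVec hp y, ← inv_mul_cancel w, wm_mul_mulVec, apply_eq, inv_inv]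
    have h4 : y i = 0 := le_antisymm (by
      rw [h3, ← neg_nonneg, ← neg_dotProduct]
      exact dotProduct_nonneg_of_nonneg (neg_nonneg.2 h2) h) (hy i)
    have h5 := ih _ (hn ▸ hi) (w * sr' M i) (by rwa [wm_mul_mulVec, simple_mem hp h4]) rfl
    simpa [mul_assoc] using K.mul_mem h5 (hK i h4)

/-- dominant for the stabiliser of `lam` -/
def DJ (lam y : Fin l → ℤ) : Prop := ∀ i, lam i = 0 → 0 ≤ y i

variable {lam y : Fin l → ℤ} (hl : 0 ≤ lam)
include hl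

theorem domJ_key {u : M.Group} (hu : u ∈ St hp lam) (hy : DJ lam y) (h : DJ lam (wm hp u *ᵥ y)) {K : Subgroup M.Group}
    (hK : ∀ i, lam i = 0 → y i = 0 → sr' M i ∈ K) : u ∈ K := by
  obtain ⟨N, hN⟩ : ∃ N : ℤ, ∀ i, 0 < y i + N ∧ 0 < (wm hp u *ᵥ y) i + N ∧ 0 ≤ N := by
    refine ⟨1 + ∑ i, (|y i| + |(wm hp u *ᵥ y) i|), fun i => ?_⟩
    have h1 := Finset.single_le_sum (f := fun i => |y i| + |(wm hp u *ᵥ y) i|) (fun i _ => by positivity) (Finset.mem_univ i)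
    have h2 := neg_abs_le (y i)
    have h3 := neg_abs_le ((wm hp u *ᵥ y) i)
    have h4 := abs_nonneg (y i)
    have h5 := abs_nonneg ((wm hp u *ᵥ y) i)
    omega
  have key : ∀ (a : ℤ) i, 0 < a + N → lam i ≠ 0 → 0 < a + N * lam i := fun a i h1 h2 => by
    have h3 : 1 ≤ lam i := lt_of_le_of_ne (hl i) (Ne.symm h2)
    nlinarith [(hN i).2.2]
  refine dom_key hp (y := y + N • lam) (fun i => ?_) (fun i hi => ?_) u fun i => ?_
  · by_cases h1 : lam i = 0
    · simpa [h1] using hy i h1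
    · exact (key _ i (hN i).1 h1).le
  · by_cases h1 : lam i = 0
    · exact hK i h1 (by simpa [h1] using hi)
    · exact absurd hi (key _ i (hN i).1 h1).ne'
  · rw [mulVec_add, mulVec_smul, (mem_St hp).1 hu]
    by_cases h1 : lam i = 0
    · simpa [h1] using h i h1
    · exact (key _ i (hN i).2.1 h1).le

theorem domJ_fix {u : M.Group} (hu : u ∈ St hp lam) (hy : DJ lam y) (h : DJ lam (wm hp u *ᵥ y)) : wm hp u *ᵥ y = y :=
  domJ_key hp hl hu hy h (K := St hp y) fun _ _ => simple_mem hp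

theorem St_le {lam' : Fin l → ℤ} (h : ∀ i, lam i = 0 → lam' i = 0) : St hp lam ≤ St hp lam' := fun u hu =>
  dom_key hp hl (fun i hi => simple_mem hp (h i hi)) u (by rwa [(mem_St hp).1 hu])

theorem mem_norm {lam' : Fin l → ℤ} (h : ∀ i, lam i = 0 → lam' i = 0) {n : M.Group} (hn : wm hp n *ᵥ lam' = lam)
    [Finite M.Group] : n ∈ Subgroup.normalizer (St hp lam : Set M.Group) :=
  Subgroup.mem_normalizer_fintype fun u hu => by
    have h1 : wm hp n⁻¹ *ᵥ lam = lam' := by rw [← hn, ← wm_mul_mulVec, inv_mul_cancel, wm_one_mulVec]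
    show wm hp _ *ᵥ lam = lam
    rw [wm_mul_mulVec, h1, wm_mul_mulVec, (mem_St hp).1 (St_le hp hl h hu), hn]

omit hl in
theorem exists_dom (lam : Fin l → ℤ) (hy : 0 ≤ y) (v : M.Group) : ∃ u ∈ St hp lam, DJ lam (wm hp (u * v) *ᵥ y) := by
  induction hn : len v using Nat.strong_induction_on generalizing v with
  | _ n ih =>
    by_cases h : DJ lam (wm hp v *ᵥ y)
    · exact ⟨1, one_mem _, by rwa [one_mul]⟩
    obtain ⟨i, h1, h2⟩ : ∃ i, lam i = 0 ∧ (wm hp v *ᵥ y) i < 0 := by simpa [DJ] using h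
    obtain ⟨u, h3, h4⟩ := ih _ (hn ▸ len_lt hp hy h2) _ rfl
    exact ⟨u * sr' M i, mul_mem h3 (simple_mem hp h1), by rwa [mul_assoc]⟩

/-! ### the inner product as a sum over the group -/

omit hl in
theorem sum_reps {Γ : Type} [Group Γ] [Fintype Γ] (U : Subgroup Γ) [Fintype U] (t : Γ → ℂ) (s : Γ → ℕ) (d : Γ → Prop)
    [DecidablePred d] (ht : ∀ (u : U) v, t (u * v) = t v) (hs : ∀ (u : U) v, s (u * v) = s v)
    (hd : ∀ v, (Finset.univ.filter fun u : U => d (u * v)).card = s v) (h0 : ∀ v, s v ≠ 0) :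
    ∑ v, t v = Nat.card U * ∑ v, if d v then t v / s v else 0 := by
  have h1 : ∀ v, t v = ∑ u : U, if d (u * v) then t (u * v) / s (u * v) else 0 := fun v => by
    simp only [ht, hs]
    rw [← Finset.sum_filter, Finset.sum_const, hd, nsmul_eq_mul, mul_div_cancel₀ _ (Nat.cast_ne_zero.2 (h0 v))]
  have h2 : ∀ u : U, (∑ v, if d (u * v) then t (u * v) / s (u * v) else 0) = ∑ v, if d v then t v / s v else 0 := fun u =>
    Fintype.sum_equiv (Equiv.mulLeft (u : Γ)) _ _ fun _ => rfl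
  rw [Finset.sum_congr rfl fun v _ => h1 v, Finset.sum_comm, Finset.sum_congr rfl fun u _ => h2 u,
    Finset.sum_const, Finset.card_univ, nsmul_eq_mul, Nat.card_eq_fintype_card]

open Classical in
/-- the sum over the elements of the coset which map `y'` to `y` -/
noncomputable def TT [Fintype M.Group] (lam : Fin l → ℤ) (n : M.Group) (η : M.Group →* ℂ) (y y' : Fin l → ℤ) : ℂ :=
  ∑ u : St hp lam, if wm hp (u * n) *ᵥ y' = y then η (u * n) else 0

open Classical in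
/-- the order of the stabiliser -/
noncomputable def ss [Fintype M.Group] (lam y : Fin l → ℤ) : ℕ :=
  (Finset.univ.filter fun u : St hp lam => wm hp u *ᵥ y = y).card

open Classical in
/-- the contribution of a pair -/
noncomputable def HH [Fintype M.Group] (lam : Fin l → ℤ) (n : M.Group) (η : M.Group →* ℂ) (x : (Fin l → ℤ) × (Fin l → ℤ)) : ℂ :=
  if DJ lam x.1 then TT hp lam n η x.1 x.2 / ss hp lam x.1 else 0

variable [Fintype M.Group]

omit hl in
theorem ss_ne (lam y : Fin l → ℤ) : ss hp lam y ≠ 0 := by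
  classical
  exact Finset.card_ne_zero.2 ⟨1, Finset.mem_filter.2 ⟨Finset.mem_univ _, wm_one_mulVec hp y⟩⟩

omit hl in
open Classical in
theorem Phi_eq {μ μ' : Fin l → ℤ} {m : M.Group} (hm : wm hp m *ᵥ μ' = μ) (g : M.Group) :
    Phi (St hp μ) m g = (Nat.card (St hp μ) : ℂ)⁻¹ * ∑ v, if wm hp g *ᵥ (wm hp v *ᵥ μ') = wm hp v *ᵥ μ then 1 else 0 := by
  have h1 : wm hp m⁻¹ *ᵥ μ = μ' := by rw [← hm, ← wm_mul_mulVec, inv_mul_cancel, wm_one_mulVec]
  rw [Phi, div_eq_inv_mul, Nat.card_eq_fintype_card (α := {v : M.Group // v⁻¹ * g * v * m⁻¹ ∈ St hp μ}), Fintype.card_subtype,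
    Finset.sum_boole]
  congr 3
  refine Finset.filter_congr fun v _ => ?_
  rw [mem_St, wm_mul_mulVec, h1, wm_mul_mulVec, wm_mul_mulVec]
  refine ⟨fun h => ?_, fun h => ?_⟩
  · conv_rhs => rw [← h, ← wm_mul_mulVec, mul_inv_cancel, wm_one_mulVec]
  · rw [h, ← wm_mul_mulVec, inv_mul_cancel, wm_one_mulVec]

theorem gram_eq {μ μ' : Fin l → ℤ} (hμ : 0 ≤ μ) {n m : M.Group} (hn : n ∈ Subgroup.normalizer (St hp lam : Set M.Group))
    (hm : wm hp m *ᵥ μ' = μ) (η : M.Group →* ℂ) :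
    (Nat.card M.Group : ℂ)⁻¹ * ∑ g, Phi (St hp lam) n g * (η g * Phi (St hp μ) m g) =
      (Nat.card (St hp μ) : ℂ)⁻¹ * ∑ v, HH hp lam n η (wm hp v *ᵥ μ, wm hp v *ᵥ μ') := by
  classical
  have hη : ∀ g v, η (v * g * v⁻¹) = η g := fun g v => by
    rw [map_mul, map_mul, mul_right_comm, ← map_mul, mul_inv_cancel, map_one, one_mul]
  have h1 := avg_Phi (St hp lam) n (r := fun g => η g * Phi (St hp μ) m g) fun g v => by rw [hη, Phi_class]
  simp only [smul_eq_mul] at h1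
  have hi : ∀ (v : M.Group) (a b : Fin l → ℤ), wm hp v *ᵥ a = wm hp v *ᵥ b ↔ a = b := fun v a b =>
    ⟨fun h => by rw [← wm_one_mulVec hp a, ← inv_mul_cancel v, wm_mul_mulVec, h, ← wm_mul_mulVec, inv_mul_cancel,
      wm_one_mulVec], fun h => by rw [h]⟩
  have h2 := sum_reps (St hp lam) (fun v => TT hp lam n η (wm hp v *ᵥ μ) (wm hp v *ᵥ μ')) (fun v => ss hp lam (wm hp v *ᵥ μ))
    (fun v => DJ lam (wm hp v *ᵥ μ)) (fun u v => ?_) (fun u v => ?_) (fun v => ?_) fun v => ss_ne hp _ _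
  · rw [h1]
    simp only [Phi_eq hp hm, mul_left_comm (η _), ← Finset.mul_sum]
    rw [mul_left_comm]
    congr 1
    simp only [HH]
    rw [inv_mul_eq_iff_eq_mul₀ (Nat.cast_ne_zero.2 Nat.card_pos.ne'), ← h2]
    simp only [Finset.mul_sum, mul_ite, mul_one, mul_zero]
    rw [Finset.sum_comm]
    rfl
  · let u' : St hp lam := ⟨n * u * n⁻¹, (Subgroup.mem_normalizer_iff.1 hn u).1 u.2⟩
    refine (Fintype.sum_equiv ((Equiv.mulLeft u).trans (Equiv.mulRight u'⁻¹)) _ _ fun z => ?_).symm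
    have h3 : ((((Equiv.mulLeft u).trans (Equiv.mulRight u'⁻¹)) z : St hp lam) : M.Group) * n = u * (z * n) * (u : M.Group)⁻¹ := by
      simp [u', mul_assoc]
    have h4 : (u : M.Group) * (z * n) * (u : M.Group)⁻¹ * (u * v) = u * (z * n * v) := by simp [mul_assoc]
    rw [h3, hη, ← wm_mul_mulVec hp _ (u * v), h4, wm_mul_mulVec hp u, wm_mul_mulVec hp u, wm_mul_mulVec hp _ v]
    simp only [hi]
  · refine Finset.card_equiv (MulAut.conj u⁻¹).toEquiv fun z => ?_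
    simp only [Finset.mem_filter, Finset.mem_univ, true_and]
    have h3 : (u : M.Group) * (((MulAut.conj u⁻¹).toEquiv z : St hp lam) * v) = z * (u * v) := by simp [mul_assoc]
    rw [← hi u _ (wm hp v *ᵥ μ), ← wm_mul_mulVec hp _ v, ← wm_mul_mulVec hp _ v, ← wm_mul_mulVec hp u, h3, ← wm_mul_mulVec]
  · obtain ⟨u, h3, h4⟩ := exists_dom hp lam hμ v
    refine Finset.card_equiv (Equiv.mulLeft (⟨u, h3⟩ : St hp lam)⁻¹) fun z => ?_
    simp only [Finset.mem_filter, Finset.mem_univ, true_and]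
    rw [← hi u (wm hp _ *ᵥ _), ← wm_mul_mulVec, ← wm_mul_mulVec, ← wm_mul_mulVec]
    have h5 : u * ((Equiv.mulLeft (⟨u, h3⟩ : St hp lam)⁻¹ z : St hp lam) : M.Group) = z := by simp
    rw [h5]
    refine ⟨fun h => ?_, fun h => h ▸ h4⟩
    have h6 := domJ_fix hp hl (mul_mem z.2 (inv_mem h3)) h4 (by rwa [← wm_mul_mulVec, ← mul_assoc, inv_mul_cancel_right])
    rwa [← wm_mul_mulVec, ← mul_assoc, inv_mul_cancel_right] at h6

/-! ### the contribution of one pair -/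

variable {n u : M.Group} {y' : Fin l → ℤ} (hu : u ∈ St hp lam) (hy : DJ lam y)
include hu hy

theorem HH_ne (η : M.Group →* ℂ) (h : DJ lam (wm hp (u * n) *ᵥ y')) (hne : wm hp (u * n) *ᵥ y' ≠ y) :
    HH hp lam n η (y, y') = 0 := by
  rw [HH, if_pos hy, TT, Finset.sum_eq_zero fun z _ => if_neg fun e => hne ?_, zero_div]
  have h1 : wm hp (z * u⁻¹) *ᵥ (wm hp (u * n) *ᵥ y') = y := by rwa [← wm_mul_mulVec, mul_assoc, inv_mul_cancel_left]
  rw [← h1, domJ_fix hp hl (mul_mem z.2 (inv_mem hu)) h (by rwa [h1])]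

open Classical in
theorem HH_eq (η : M.Group →* ℂ) (h : wm hp (u * n) *ᵥ y' = y) :
    HH hp lam n η (y, y') = η (u * n) * (∑ z : St hp lam, if wm hp z *ᵥ y = y then η z else 0) / ss hp lam y := by
  rw [HH, if_pos hy, TT, Finset.mul_sum]
  congr 1
  refine (Fintype.sum_equiv (Equiv.mulRight (⟨u, hu⟩ : St hp lam)) _ _ fun z => ?_).symm
  show _ = if wm hp (z * u * n) *ᵥ y' = y then η (z * u * n) else 0
  rw [mul_assoc, wm_mul_mulVec, h, map_mul η (z : M.Group), mul_ite, mul_zero, mul_comm]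

theorem HH_one (h : wm hp (u * n) *ᵥ y' = y) : HH hp lam n 1 (y, y') = 1 := by
  classical
  rw [HH_eq hp hl hu hy 1 h]
  simp only [MonoidHom.one_apply, one_mul, Finset.sum_boole]
  exact div_self (Nat.cast_ne_zero.2 (ss_ne hp lam y))

theorem HH_strict (η : M.Group →* ℂ) (h : wm hp (u * n) *ᵥ y' = y) (hs : ∀ i, lam i = 0 → y i ≠ 0) :
    HH hp lam n η (y, y') = η (u * n) := by
  classical
  have h1 : (Finset.univ.filter fun z : St hp lam => wm hp z *ᵥ y = y) = {1} := by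
    refine Finset.eq_singleton_iff_unique_mem.2 ⟨Finset.mem_filter.2 ⟨Finset.mem_univ _, wm_one_mulVec hp y⟩, fun z hz => ?_⟩
    exact Subtype.ext (Subgroup.mem_bot.1 (domJ_key hp hl z.2 hy (by rwa [(Finset.mem_filter.1 hz).2])
      fun i h1 h2 => absurd h2 (hs i h1)))
  rw [HH_eq hp hl hu hy η h, ← Finset.sum_filter, ss, h1]
  simp

theorem HH_wall (η : M.Group →* ℂ) (h : wm hp (u * n) *ᵥ y' = y) {i : Fin l} (h1 : lam i = 0) (h2 : y i = 0)
    (h3 : η (sr' M i) = -1) : HH hp lam n η (y, y') = 0 := by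
  classical
  have h4 : (∑ z : St hp lam, if wm hp z *ᵥ y = y then η z else 0) =
      -∑ z : St hp lam, if wm hp z *ᵥ y = y then η z else 0 := by
    rw [← Finset.sum_neg_distrib]
    refine (Fintype.sum_equiv (Equiv.mulRight (⟨sr' M i, simple_mem hp h1⟩ : St hp lam)) _ _ fun z => ?_).symm
    show _ = if wm hp (z * sr' M i) *ᵥ y = y then η (z * sr' M i) else 0
    rw [wm_mul_mulVec, simple_mem hp h2, map_mul, h3]
    split_ifs <;> simp
  rw [HH_eq hp hl hu hy η h, self_eq_neg.1 h4, mul_zero, zero_div]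

end Cfsg.Agent.KZ.Exc.Gr

private theorem dce_9e40f71b2726 : _root_.True := by
  try have : _root_.True := by simp only [_root_.Cfsg.Agent.KZ.Exc.Gr.HH.congr_simp]
  try have : _root_.True := by simp only [_root_.Cfsg.Agent.KZ.Exc.Gr.ss.eq_1]
  try have : _root_.True := by simp only [_root_.Cfsg.Agent.KZ.Exc.Gr.DJ.eq_1]
  try have : _root_.True := by simp only [_root_.Cfsg.Agent.KZ.Exc.Gr.ss.congr_simp]
  try have : _root_.True := by simp only [_root_.Cfsg.Agent.KZ.Exc.Gr.TT.congr_simp]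
  try have : _root_.True := by simp only [_root_.Cfsg.Agent.KZ.Exc.Gr.TT.eq_1]
  try have : _root_.True := by simp only [_root_.Cfsg.Agent.KZ.Exc.St.congr_simp]
  try have : _root_.True := by simp only [_root_.Cfsg.Agent.KZ.Exc.Gr.len.eq_1]
  try have : _root_.True := by simp only [_root_.Cfsg.Agent.KZ.Exc.Gr.HH.eq_1]
  exact _root_.True.intro
end
end
end
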