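import Cfsg.Agent.KZ.Exc.EBox_m3
import Cfsg.Agent.Lib.FinFast
import Cfsg.Agent.KZ.Exc.EFr
import Cfsg.Agent.H853.ThC.Local_m3
import Cfsg.Agent.KZ.ClD.Fam
import Cfsg.Agent.KZ.TF.Flt_m3
import Cfsg.Agent.KZ.Dat.GlH
import Cfsg.Agent.KZ.Exc.EGram
import Cfsg.Agent.KZ.Loc.Main_m3
import Cfsg.Agent.Characters.Linear
import Cfsg.Agent.KZ.Lie.Loc
import Cfsg.Agent.H366.OC.PlusRow_mg
import Cfsg.Agent.H379.GG.PslRow_m3
import Cfsg.Agent.H356.CY.MultU
import Cfsg.Agent.FastGrp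
import Cfsg.Agent.Prune
set_option linter.all false

section
prune_inst 0x7fa0b8fa0da801dfffff7e33fed0dffc10808fffe6def9437fe0619f0b9f030009c5fb858de010fe0e56e21410387813eb7eceffe063dc7ffffd57b01ffbee0fe5f63508119080240a240fb783e054086f3fddff77ffffffffffffffffffffbefffffbfeffff

-- part: KZ/Exc/EF6A
section
prune_inst 0x1f0501f057fe20000001cc012f2003cb3b7000090104b880090a6034207ce9c60204226014a201d0a100e0c4008340148131000e0c20000000a8440000005012098024400c389015da604818112bb790c02200880000000000000000000041000004010000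
set_option linter.all false
open scoped Cfsg.Agent.FastGrp

/-!
# KZ, the frame of `E₆^ε` (1): the subsystem `A₂³` in `W(E₆)` (helper25)

`Jm i j` : the weights of the three arms; `Ac ε π γ w` : `w` permutes them according to `π`, `γ`; `Ps : S₃³ →* W(E₆)`.
-/

set_option autoImplicit false
set_option linter.unusedSectionVars false

namespace Cfsg.Agent.KZ.Exc.F6

open CoxeterSystem Cfsg Cfsg.Lie Matrix Cfsg.Agent.KZ.DatX Cfsg.Agent.ChevalleyStructure.CoxeterGeom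
  Cfsg.Agent.ChevalleyStructure.CoxeterGeomTypes

/-- the Cartan matrix -/
def C6 : Matrix (Fin 6) (Fin 6) ℤ := !![2, 0, -1, 0, 0, 0; 0, 2, 0, -1, 0, 0; -1, 0, 2, -1, 0, 0; 0, -1, -1, 2, -1, 0;
  0, 0, 0, -1, 2, -1; 0, 0, 0, 0, -1, 2]

theorem car6 (i j : Fin 6) : cartanOf chevE6 6 i j = C6 i j :=
  congrFun₂ (show Matrix.of (cartanOf chevE6 6) = C6 by decide +kernel) i j

/-- the matrices of the elements of the Weyl group -/
abbrev wm6 : W6 →* Matrix (Fin 6) (Fin 6) ℤ := wm hpE6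

/-- a simple reflection acting on a weight -/
def rw6 (x : List ℤ) (i : Fin 6) : List ℤ := x.set i (x.getD i 0 - (x.zipWith (· * ·) (rowsE6.getD i [])).sum)

theorem rw6_ofFn (x : Fin 6 → ℤ) (i : Fin 6) : rw6 (List.ofFn x) i = List.ofFn (x ᵥ* sM chevE6 6 i) := by
  (revert i; simp only [rw6, rowsE6, List.ofFn_succ, vecMul, dotProduct, Fin.sum_univ_succ, sM, car6, C6, _root_.Fin.forall_fin_succ, Fin.isValue, _root_.Fin.succ_zero_eq_one, _root_.Fin.succ_one_eq_two, Fin.reduceSucc, _root_.List.ofFn_zero, _root_.List.getD_eq_getElem?_getD, _root_.List.length_cons, _root_.List.length_nil, _root_.zero_add, Nat.reduceAdd, _root_.Fin.is_lt, _root_.getElem?_pos, _root_.Option.getD_some, Int.reduceNeg, _root_.Matrix.of_apply, _root_.Matrix.cons_val', _root_.Matrix.cons_val_fin_one, ↓reduceIte, _root_.Matrix.cons_val_zero, _root_.Fin.succ_ne_zero, _root_.Matrix.cons_val_succ, _root_.zero_sub, _root_.mul_neg, _root_.mul_ite,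 _root_.MulZeroClass.mul_zero, _root_.Finset.sum_neg_distrib, _root_.Finset.sum_ite_irrel, _root_.Finset.univ_unique, _root_.Fin.default_eq_zero, _root_.Finset.sum_singleton, _root_.Finset.sum_const_zero, _root_.Fin.succ_inj, _root_.zero_ne_one, _root_.one_ne_zero, Fin.reduceEq, _root_.Fin.coe_ofNat_eq_mod, _root_.Nat.zero_mod, _root_.List.getElem_cons_zero, _root_.List.zipWith_cons_cons, _root_.mul_one, _root_.List.zipWith_self, _root_.List.map_nil, _root_.List.sum_cons, _root_.List.sum_nil, _root_.add_zero, _root_.List.set_cons_zero, Int.reduceSub, _root_.neg_neg, _root_.neg_zero, _root_.sub_zero, _root_.List.cons.injEq, _root_.and_true, _root_.Fin.val_succ, _root_.List.getElem_cons_succ, _root_.List.set_cons_succ, _root_.true_and, _root_.ite_self, _root_.left_eq_add, _root_.neg_eq_zero, _root_.ite_eq_right_iff, _root_.Fin.val_eq_zero, _root_.IsEmpty.forall_iff]) <;> (repeat' with_reducible apply And.intro)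 <;> ring

theorem foldl_ofFn (L : List (Fin 6)) (x : Fin 6 → ℤ) : L.foldl rw6 (List.ofFn x) = List.ofFn (x ᵥ* wm6 (wd _ L)) := by
  induction L generalizing x with
  | nil => rw [wd, wordProd_nil, map_one, vecMul_one]; rfl
  | cons i L ih => rw [List.foldl_cons, rw6_ofFn, ih, wd, wd, wordProd_cons, map_mul, wm_simple, vecMul_vecMul]

theorem mem_scanl (L : List (Fin 6)) (x : Fin 6 → ℤ) : ∀ y ∈ L.scanl rw6 (List.ofFn x), ∃ w, y = List.ofFn (x ᵥ* wm6 w) := by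
  induction L generalizing x with
  | nil => simpa only [_root_.List.ofFn_succ, _root_.Fin.isValue, _root_.Fin.succ_zero_eq_one, _root_.Fin.succ_one_eq_two, _root_.Fin.reduceSucc, _root_.List.ofFn_zero, _root_.List.scanl_nil, _root_.List.mem_cons, _root_.List.not_mem_nil, _root_.or_false, _root_.forall_eq, _root_.List.cons.injEq, _root_.and_true] using ⟨1, by simp⟩
  | cons i L ih =>
    rw [List.scanl_cons, List.forall_mem_cons, rw6_ofFn]
    refine ⟨⟨1, by simp⟩, fun y hy => ?_⟩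
    obtain ⟨w, rfl⟩ := ih _ y hy
    exact ⟨_ * w, by rw [map_mul, wm_simple, vecMul_vecMul]⟩

/-- the weights `2 a + b`, `b - a`, `-a - 2 b` for the arms `(a, b) = (α₀, α₂)`, `(α₅, α₄)`, `(-θ, α₁)` -/
def Jm : Fin 3 → Fin 3 → Fin 6 → ℤ := ![![![2, 0, 1, 0, 0, 0], ![-1, 0, 1, 0, 0, 0], ![-1, 0, -2, 0, 0, 0]],
  ![![0, 0, 0, 0, 1, 2], ![0, 0, 0, 0, 1, -1], ![0, 0, 0, 0, -2, -1]],
  ![![-2, -3, -4, -6, -4, -2], ![1, 3, 2, 3, 2, 1], ![1, 0, 2, 3, 2, 1]]]

theorem inj6 {y : Fin 6 → ℤ} (h : ∀ i (j : Fin 2), Jm i j.castSucc ⬝ᵥ y = 0) : y = 0 := by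
  simp only [Fin.forall_fin_succ, Jm, dotProduct, Fin.sum_univ_succ] at h
  funext i
  fin_cases i <;> simp only [_root_.Int.reduceNeg, _root_.Fin.isValue, _root_.Fin.castSucc_zero, _root_.Matrix.cons_val', _root_.Matrix.cons_val_zero, _root_.Matrix.cons_val_fin_one, _root_.Fin.succ_zero_eq_one, _root_.Matrix.cons_val_one, _root_.MulZeroClass.zero_mul, _root_.Fin.succ_one_eq_two, _root_.Matrix.cons_val, _root_.one_mul, _root_.Fin.reduceSucc, _root_.Finset.univ_eq_empty, _root_.Matrix.cons_val_succ, _root_.Finset.sum_const_zero, _root_.add_zero, _root_.zero_add, _root_.Fin.castSucc_one, _root_.neg_mul, _root_.Fin.castSucc_succ, _root_.Nat.reduceAdd, _root_.IsEmpty.forall_iff, _root_.and_true, _root_.Finset.sum_empty, _root_.Finset.sum_neg_distrib, _root_.neg_zero, _root_.Fin.zero_eta, _root_.Pi.zero_apply, _root_.Fin.mk_one, _root_.Fin.reduceFinMk] at h ⊢ <;> omega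

/-- `S₃³` -/
abbrev G3 : Type := S3 × S3 × S3

/-- the components -/
def cp (γ : G3) : Fin 3 → S3 := ![γ.1, γ.2.1, γ.2.2]

theorem cp_mul (γ δ : G3) (i : Fin 3) : cp (γ * δ) i = cp γ i * cp δ i := by fin_cases i <;> rfl

/-- the action on the arms -/
def Ac (ε : ℤ) (π : S3) (γ : G3) (w : W6) : Prop := ∀ i j, Jm (π i) (cp γ i j) ᵥ* wm6 w = ε • Jm i j

theorem ac_wd {ε : ℤ} {π : S3} {γ : G3} (L : List (Fin 6))
    (h : ∀ i j, L.foldl rw6 (List.ofFn (Jm (π i) (cp γ i j))) = List.ofFn (ε • Jm i j)) : Ac ε π γ (wd _ L) :=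
  fun i j => List.ofFn_injective ((foldl_ofFn L _).symm.trans (h i j))

theorem Ac.mul {ε ε' : ℤ} {π π' : S3} {γ γ' δ : G3} {w w' : W6} (h : Ac ε π γ w) (h' : Ac ε' π' γ' w')
    (hδ : ∀ i, cp δ i = cp γ (π' i) * cp γ' i) : Ac (ε * ε') (π * π') δ (w * w') := fun i j => by
  rw [map_mul, ← vecMul_vecMul, hδ, Equiv.Perm.mul_apply, Equiv.Perm.mul_apply, h, smul_vecMul, h', mul_smul]

theorem Ac.uniq {ε : ℤ} {π : S3} {γ : G3} {w w' : W6} (h : Ac ε π γ w) (h' : Ac ε π γ w') : w = w' := by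
  refine wm_inj hpE6 (sub_eq_zero.1 (Matrix.ext fun a b => congrFun (inj6 (y := fun a => (wm6 w - wm6 w') a b) fun i j => ?_) a))
  obtain ⟨i, rfl⟩ := π.surjective i
  obtain ⟨j', e⟩ := (cp γ i).surjective j.castSucc
  have h1 := congrFun (vecMul_sub (wm6 w) (wm6 w') (Jm (π i) (cp γ i j'))) b
  rw [h, h', sub_self, e] at h1
  exact h1

private noncomputable def _root_.Cfsg.Agent.LsF.f297548_0 : {f // @Cfsg.Agent.KZ.Exc.F6.rw6 = f} := ⟨_, by first | (delta Cfsg.Agent.KZ.Exc.F6.rw6; rewrite [Cfsg.Agent.LsF.imul_pat, Cfsg.Agent.LsF.isub_pat, Cfsg.Agent.LsF.zipWith_eq, Cfsg.Agent.LsF.sum_eq, Cfsg.Agent.LsF.getD_eq, Cfsg.Agent.LsF.set_eq, Cfsg.Agent.LsF.instIAdd_eq]; exact rfl) | exact rfl⟩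
private noncomputable def _root_.Cfsg.Agent.LsF.f297548_1 : {f // @Cfsg.Agent.KZ.Exc.F6.Jm = f} := ⟨_, by first | (delta Cfsg.Agent.KZ.Exc.F6.Jm; rewrite [Cfsg.Agent.LsF.ineg_pat, Cfsg.Agent.LsF.vecCons_eq]; exact rfl) | exact rfl⟩
private noncomputable def _root_.Cfsg.Agent.LsF.f297548_2 : {f // @Cfsg.Agent.KZ.Exc.F6.cp = f} := ⟨_, by first | (delta Cfsg.Agent.KZ.Exc.F6.cp; rewrite [Cfsg.Agent.LsF.vecCons_eq]; exact rfl) | exact rfl⟩
theorem exists_ac (γ : G3) : ∃ w, Ac 1 1 γ w := by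
  let K : Submonoid G3 :=
    { carrier := {γ | ∃ w, Ac 1 1 γ w}
      one_mem' := ⟨_, ac_wd [] (by decide +kernel)⟩
      mul_mem' := fun ⟨_, h⟩ ⟨_, h'⟩ => ⟨_, (h.mul h' (cp_mul _ _) :)⟩ }
  have h : ∀ φ : S3 →* G3, φ (Equiv.swap 0 1) ∈ K → φ (Equiv.swap 1 2) ∈ K → ∀ g, φ g ∈ K := fun φ h1 h2 g => by
    have h3 : ∀ g : S3, ∃ L ∈ [[], [0], [1], [0, 1], [1, 0], [0, 1, 0]],
        g = (L.map ![Equiv.swap 0 1, Equiv.swap 1 2]).prod := by decide +kernel
    obtain ⟨L, -, rfl⟩ := h3 g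
    rw [map_list_prod, List.map_map]
    refine list_prod_mem fun x hx => ?_
    obtain ⟨i, -, rfl⟩ := List.mem_map.1 hx
    fin_cases i
    exacts [h1, h2]
  have h1 := h (MonoidHom.inl _ _) ⟨_, ac_wd [0] (by decide +kernel)⟩ ⟨_, ac_wd [2] (by decide +kernel)⟩ γ.1
  have h2 := h ((MonoidHom.inr _ _).comp (MonoidHom.inl _ _)) ⟨_, ac_wd [5] (by decide +kernel)⟩
    ⟨_, ac_wd [4] (by decide +kernel)⟩ γ.2.1
  have h3 := h ((MonoidHom.inr _ _).comp (MonoidHom.inr _ _))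
    ⟨_, ac_wd [1, 3, 2, 0, 4, 3, 1, 2, 3, 4, 5, 4, 3, 1, 2, 0, 3, 2, 4, 3, 1] (by (refine of_decide_eq_true ?_; (try (rewrite [Cfsg.Agent.LsF.f297548_0.2, Cfsg.Agent.LsF.f297548_1.2, Cfsg.Agent.LsF.f297548_2.2, Cfsg.Agent.LsF.foldl_eq, Cfsg.Agent.LsF.instIDecEq_eq, Cfsg.Agent.LsF.dFinEq_eq, Cfsg.Agent.LsF.dListEq_eq, Cfsg.Agent.LsF.dForallFin_eq, Cfsg.Agent.LsF.ofFn_eq, Cfsg.Agent.LsF.decide_eq])); decide +kernel))⟩
    ⟨_, ac_wd [1] (by decide +kernel)⟩ γ.2.2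
  have h4 := mul_mem h1 (mul_mem h2 h3)
  rwa [show _ * _ = γ by ext1 <;> simp only [_root_.MonoidHom.inl_apply, _root_.MonoidHom.coe_comp, _root_.Function.comp_apply, _root_.MonoidHom.inr_apply, _root_.Prod.mk_mul_mk, _root_.mul_one, _root_.one_mul, _root_.Prod.mk.eta]] at h4

/-- the reflection subgroup `W(A₂³)` -/
noncomputable def Ps : G3 →* W6 := MonoidHom.mk' (fun γ => (exists_ac γ).choose) fun γ δ =>
  (exists_ac _).choose_spec.uniq (((exists_ac γ).choose_spec.mul (exists_ac δ).choose_spec (cp_mul γ δ) :))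

theorem ac_Ps (γ : G3) : Ac 1 1 γ (Ps γ) := (exists_ac γ).choose_spec

theorem Jm_Ps (γ : G3) (i j : Fin 3) : Jm i j ᵥ* wm6 (Ps γ) = Jm i ((cp γ i)⁻¹ j) := by
  simpa using ac_Ps γ i ((cp γ i)⁻¹ j)

theorem Ps_inj : Function.Injective Ps := (injective_iff_map_eq_one _).2 fun γ h => by
  have h1 : ∀ i j j', Jm i j = Jm i j' → j = j' := by decide +kernel
  have h2 : ∀ i, cp γ i = 1 := fun i => Equiv.ext fun j => h1 i _ _ (by simpa only [h, _root_.Equiv.Perm.coe_one, _root_.id_eq, _root_.map_one, _root_.Matrix.vecMul_one, _root_.one_smul] using ac_Ps γ i j)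
  exact Prod.ext (h2 0) (Prod.ext (h2 1) (h2 2))

theorem Ac.conj {ε : ℤ} {π : S3} {w : W6} (h : Ac ε π 1 w) {γ δ : G3} (hδ : ∀ i, cp δ (π i) = cp γ i) :
    Ps δ * w = w * Ps γ := by
  have h1 : ∀ i, cp 1 i = 1 := by decide
  have h2 := (ac_Ps δ).mul h (δ := γ) fun i => by rw [h1, mul_one, hδ]
  have h3 := h.mul (ac_Ps γ) (δ := γ) fun i => by rw [h1, one_mul]
  rw [one_mul, one_mul] at h2
  rw [mul_one, mul_one] at h3
  exact h2.uniq h3

theorem exists_rot : ∃ r, Ac 1 (finRotate 3) 1 r :=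
  ⟨_, ac_wd [0, 2, 3, 1, 4, 3, 2, 0, 5, 4, 3, 1, 2, 3, 4, 5] (by decide +kernel)⟩

private noncomputable def _root_.Cfsg.Agent.LsF.f297548_3 : {f // @Cfsg.Agent.KZ.DatX.pwL = f} := ⟨_, by first | (delta Cfsg.Agent.KZ.DatX.pwL; rewrite [Cfsg.Agent.LsF.flatten_eq, Cfsg.Agent.LsF.replicate_eq]; exact rfl) | exact rfl⟩
theorem exists_neg : ∃ v, Ac (-1) (Equiv.swap 0 1) 1 v := ⟨_, ac_wd (pwL [0, 3, 5, 1, 2, 4] 6) (by (refine of_decide_eq_true ?_; (try (rewrite [Cfsg.Agent.LsF.f297548_0.2, Cfsg.Agent.LsF.f297548_1.2, Cfsg.Agent.LsF.f297548_2.2, Cfsg.Agent.LsF.f297548_3.2, Cfsg.Agent.LsF.ineg_pat, Cfsg.Agent.LsF.foldl_eq, Cfsg.Agent.LsF.instIDecEq_eq, Cfsg.Agent.LsF.dFinEq_eq, Cfsg.Agent.LsF.dListEq_eq, Cfsg.Agent.LsF.dForallFin_eq, Cfsg.Agent.LsF.ofFn_eq, Cfsg.Agent.LsF.decide_eq])); decide +kernel))⟩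

/-! ### congruences -/

/-- congruence modulo `3` -/
def M3 (x y : Fin 6 → ℤ) : Prop := ∃ z : Fin 6 → ℤ, x = y + (3 : ℤ) • z

theorem m3_iff {x y : Fin 6 → ℤ} : M3 x y ↔ ∀ j, 3 ∣ x j - y j :=
  ⟨fun ⟨z, h⟩ j => ⟨z j, by simp [h]⟩, fun h => by
    choose z hz using h
    exact ⟨z, funext fun j => by simpa [sub_eq_iff_eq_add'] using hz j⟩⟩

theorem M3.vecMul {x y : Fin 6 → ℤ} (h : M3 x y) (A : Matrix (Fin 6) (Fin 6) ℤ) : M3 (x ᵥ* A) (y ᵥ* A) :=
  h.elim fun z e => ⟨z ᵥ* A, by rw [e, add_vecMul, smul_vecMul]⟩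

theorem M3.trans {x y z : Fin 6 → ℤ} (h : M3 x y) (h' : M3 y z) : M3 x z :=
  m3_iff.2 fun j => by simpa only [_root_.sub_add_sub_cancel] using dvd_add (m3_iff.1 h j) (m3_iff.1 h' j)

theorem m3_Jm : ∀ i j j', M3 (Jm i j) (Jm i j') := by simp only [m3_iff]; decide +kernel

private noncomputable def _root_.Cfsg.Agent.LsF.f297548_4 : {f // @Cfsg.Lie.ChevalleyDatum.cartan = f} := ⟨_, by first | (delta Cfsg.Lie.ChevalleyDatum.cartan; rewrite [Cfsg.Agent.LsF.agetD_eq]; exact rfl) | exact rfl⟩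
private noncomputable def _root_.Cfsg.Agent.LsF.f297548_5 : {f // @Cfsg.Lie.ChevalleyDatum.simple = f} := ⟨_, by first | (delta Cfsg.Lie.ChevalleyDatum.simple; rewrite [Cfsg.Agent.LsF.agetD_eq]; exact rfl) | exact rfl⟩
private noncomputable def _root_.Cfsg.Agent.LsF.f297548_6 : {f // @Cfsg.Agent.ChevalleyStructure.CoxeterGeomTypes.cartanOf = f} := ⟨_, by first | (delta Cfsg.Agent.ChevalleyStructure.CoxeterGeomTypes.cartanOf; rewrite [Cfsg.Agent.LsF.f297548_4.2, Cfsg.Agent.LsF.f297548_5.2]; exact rfl) | exact rfl⟩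
private noncomputable def _root_.Cfsg.Agent.LsF.f297548_7 : {f // @Cfsg.Agent.KZ.DatX.sM = f} := ⟨_, by first | (delta Cfsg.Agent.KZ.DatX.sM; rewrite [Cfsg.Agent.LsF.f297548_6.2, Cfsg.Agent.LsF.isub_pat, Cfsg.Agent.LsF.dFinEq_eq, Cfsg.Agent.LsF.ite_eq]; exact rfl) | exact rfl⟩
theorem m3_cl (w : W6) : M3 ((Jm 0 0 - Jm 2 0) ᵥ* wm6 w) (Jm 0 0 - Jm 2 0) := by
  obtain ⟨L, rfl⟩ := CoxeterMatrix.E₆.toCoxeterSystem.wordProd_surjective w
  induction L with
  | nil => exact ⟨0, by simp⟩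
  | cons i L ih =>
    have h : ∀ i, M3 ((Jm 0 0 - Jm 2 0) ᵥ* sM chevE6 6 i) (Jm 0 0 - Jm 2 0) := by simp only [m3_iff]; (refine of_decide_eq_true ?_; (try (rewrite [Cfsg.Agent.LsF.vecMulF_pat, Cfsg.Agent.LsF.psub_pat, Cfsg.Agent.LsF.f297548_1.2, Cfsg.Agent.LsF.f297548_7.2, Cfsg.Agent.LsF.iadd_pat, Cfsg.Agent.LsF.imul_pat, Cfsg.Agent.LsF.isub_pat, Cfsg.Agent.LsF.dForallFin_eq, Cfsg.Agent.LsF.idDvd_eq, Cfsg.Agent.LsF.decide_eq])); decide +kernel)
    rw [wordProd_cons, map_mul, wm_simple, ← vecMul_vecMul]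
    exact ((h i).vecMul _).trans ih

/-- a walk through the orbit modulo `3` -/
def walk : List (Fin 6) := [3, 1, 2, 3, 0, 2, 4, 5, 2, 5, 0, 5, 3, 1, 5, 1, 2, 5, 1, 5, 3, 5, 4, 0, 2, 4, 2, 5, 2, 3, 4, 1, 3,
  3, 4, 5, 1, 2, 1, 0, 1, 5, 4, 1, 0, 1, 4, 1, 0, 3, 0, 1, 0, 2, 1, 5, 1, 4, 1, 3, 3, 2, 4, 0, 4, 1, 4, 0, 4, 3, 0, 2, 4, 5, 2,
  0, 5, 0, 3, 0, 1, 0, 5, 1, 0, 1, 4, 1, 0, 1, 3, 0, 2, 5, 4, 2, 0, 4, 0, 3, 0, 1, 0, 4, 1, 0, 1, 5, 1, 0, 1, 2, 1, 5, 1, 4, 1,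
  5, 1, 3, 5, 4, 1, 0, 4, 2, 5, 1, 5, 2, 5, 1, 0, 5, 3, 2, 1, 2, 0, 1, 5, 4, 1, 4, 0, 1, 2, 1, 4, 1, 3, 3, 2, 1, 3, 0, 2, 4, 5,
  2, 5, 0, 5, 3, 1, 5, 1, 0, 5, 1, 5, 4, 1, 5, 1, 2, 1, 5, 1, 0, 1, 5, 4, 1, 4, 3, 0, 2, 5, 4, 2, 4, 0, 4, 3, 0, 1, 0, 2, 3, 3,
  1, 4, 5, 1, 5, 2, 3, 1, 3, 0, 3, 2, 1, 2, 3, 5, 0, 1, 5, 0, 5, 3, 5, 0, 5, 4, 1, 4, 0, 3, 2, 4, 2, 0, 4, 1, 4, 0, 4, 2, 4, 3]

/-- the residues as a number -/
def key (x : List ℤ) : ℕ := Nat.ofDigits 3 (x.map fun a => (a % 3).toNat)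

private noncomputable def _root_.Cfsg.Agent.LsF.f297548_8 : {f // @Cfsg.Agent.KZ.Exc.F6.key = f} := ⟨_, by first | (delta Cfsg.Agent.KZ.Exc.F6.key List.brecOn List.brecOn.go Nat.ofDigits Nat.ofDigits._f; rewrite [Cfsg.Agent.LsF.nadd_pat, Cfsg.Agent.LsF.nmul_pat, Cfsg.Agent.LsF.imod_pat, Cfsg.Agent.LsF.map_eq, Cfsg.Agent.LsF.toNat_eq]; (try delta Nat.ofDigits.match_1); (try delta List.casesOn); first | dsimp -zeta only | exact rfl) | exact rfl⟩
theorem le_index {H : Subgroup W6} (hH : ∀ h ∈ H, M3 (Jm 2 0 ᵥ* wm6 h) (Jm 2 0)) : 240 ≤ H.index := by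
  have : Finite W6 := Nat.finite_of_card_ne_zero (by rw [card_W_E6]; decide)
  let φ : W6 ⧸ H → ℕ := Quotient.lift (fun w => key (List.ofFn (Jm 2 0 ᵥ* wm6 w⁻¹))) fun a b h => by
    have h1 := m3_iff.1 ((hH _ (QuotientGroup.leftRel_apply.1 h)).vecMul (wm6 b⁻¹))
    rw [vecMul_vecMul, ← map_mul, mul_inv_cancel_right] at h1
    simp only [key, List.map_ofFn]
    congr 2
    funext j
    have := h1 j
    simp only [Function.comp_apply]
    omega
  have h1 : ((walk.scanl rw6 (List.ofFn (Jm 2 0))).map key).dedup.length = 240 := by (refine of_decide_eq_true ?_; (try (rewrite [Cfsg.Agent.LsF.f297548_8.2, Cfsg.Agent.LsF.f297548_0.2, Cfsg.Agent.LsF.f297548_1.2, Cfsg.Agent.LsF.dedup_eq, Cfsg.Agent.LsF.instDecEq_eq, Cfsg.Agent.LsF.map_eq, Cfsg.Agent.LsF.ofFn_eq, Cfsg.Agent.LsF.length_eq, Cfsg.Agent.LsF.decide_eq])); decide +kernel)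
  have := Fintype.ofFinite (W6 ⧸ H)
  rw [← h1, ← List.card_toFinset, Subgroup.index, Nat.card_eq_fintype_card]
  refine le_trans (Finset.card_le_card fun n hn => ?_) (Finset.card_image_le (s := Finset.univ) (f := φ))
  obtain ⟨y, hy, rfl⟩ := List.mem_map.1 (List.mem_toFinset.1 hn)
  obtain ⟨w, rfl⟩ := mem_scanl _ _ y hy
  exact Finset.mem_image.2 ⟨(w⁻¹ : W6), Finset.mem_univ _, congrArg (fun w => key (List.ofFn (Jm 2 0 ᵥ* wm6 w))) (inv_inv w)⟩

/-! ### stabilisers -/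

/-- the weight with the coordinates `s` -/
def xs (s : Fin 3 → Fin 3 → ℤ) : Fin 6 → ℤ := ∑ i, ∑ j, s i j • Jm i j

theorem xs_Ps (s : Fin 3 → Fin 3 → ℤ) (γ : G3) : xs s ᵥ* wm6 (Ps γ) = xs fun i j => s i (cp γ i j) := by
  simp only [xs, sum_vecMul, smul_vecMul, Jm_Ps]
  exact Finset.sum_congr rfl fun i _ => (Equiv.sum_comp (cp γ i) _).symm.trans (by simp only [_root_.Equiv.Perm.coe_inv, _root_.Equiv.symm_apply_apply, _root_.zsmul_eq_mul])

theorem xs_inj {s t : Fin 3 → Fin 3 → ℤ} (h : xs s = xs t) (h' : ∀ i, ∑ j, s i j = ∑ j, t i j) : s = t := by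
  simp only [funext_iff, Fin.forall_fin_succ, xs, Jm, Fin.sum_univ_succ] at h h' ⊢
  simp only [_root_.Fin.isValue, _root_.Int.reduceNeg, _root_.Matrix.cons_val', _root_.Matrix.cons_val_zero, _root_.Matrix.cons_val_fin_one, _root_.Matrix.smul_cons, _root_.Int.zsmul_eq_mul, _root_.MulZeroClass.mul_zero, _root_.mul_one, _root_.Matrix.smul_empty, _root_.Fin.succ_zero_eq_one, _root_.Matrix.cons_val_one, _root_.mul_neg, _root_.Fin.succ_one_eq_two, _root_.Matrix.cons_val, _root_.Finset.univ_eq_empty, _root_.Matrix.cons_val_succ, _root_.Finset.sum_empty, _root_.add_zero, _root_.Matrix.add_cons, _root_.Matrix.head_cons, _root_.Matrix.tail_cons, _root_.Matrix.empty_add_empty, _root_.zero_add, _root_.Pi.add_apply, _root_.Fin.reduceSucc, _root_.IsEmpty.forall_iff, _root_.and_true] at h h' ⊢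
  omega

theorem xs_m3 {s : Fin 3 → Fin 3 → ℤ} (h0 : 3 ∣ ∑ j, s 0 j) (h1 : 3 ∣ ∑ j, s 1 j) (h2 : 3 ∣ ∑ j, s 2 j - 1) :
    M3 (xs s) (Jm 2 0) := by
  simp only [m3_iff, Fin.forall_fin_succ, xs, Jm, Fin.sum_univ_succ] at h0 h1 h2 ⊢
  simp only [_root_.Fin.isValue, _root_.Fin.succ_zero_eq_one, _root_.Fin.succ_one_eq_two, _root_.Finset.univ_eq_empty, _root_.Finset.sum_empty, _root_.add_zero, _root_.Int.reduceNeg, _root_.Matrix.cons_val', _root_.Matrix.cons_val_zero, _root_.Matrix.cons_val_fin_one, _root_.Matrix.smul_cons, _root_.Int.zsmul_eq_mul, _root_.MulZeroClass.mul_zero, _root_.mul_one, _root_.Matrix.smul_empty, _root_.Matrix.cons_val_one, _root_.mul_neg, _root_.Matrix.cons_val, _root_.Matrix.cons_val_succ, _root_.Matrix.add_cons, _root_.Matrix.head_cons, _root_.Matrix.tail_cons, _root_.Matrix.empty_add_empty, _root_.zero_add, _root_.Pi.add_apply, _root_.sub_neg_eq_add, _root_.dvd_add_self_right, _root_.Int.dvd_add_mul_self,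 _root_.dvd_neg, _root_.dvd_mul_left, _root_.Fin.reduceSucc, _root_.IsEmpty.forall_iff, _root_.and_true, _root_.true_and] at h0 h1 h2 ⊢
  omega

/-- the stabiliser of a triple -/
def Sb (s : Fin 3 → ℤ) : Subgroup S3 where
  carrier := {g | ∀ j, s (g j) = s j}
  one_mem' _ := rfl
  mul_mem' ha hb j := (ha _).trans (hb j)
  inv_mem' {a} ha j := by simpa using (ha (a⁻¹ j)).symm

theorem fix_Ps (s : Fin 3 → Fin 3 → ℤ) (γ : G3) :
    xs s ᵥ* wm6 (Ps γ) = xs s ↔ γ ∈ (Sb (s 0)).prod ((Sb (s 1)).prod (Sb (s 2))) := by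
  rw [xs_Ps]
  refine ⟨fun h => ?_, fun h => congrArg xs (funext fun i => funext fun j => ?_)⟩
  · have h1 := xs_inj h fun i => Equiv.sum_comp (cp γ i) _
    exact ⟨congrFun (congrFun h1 0), congrFun (congrFun h1 1), congrFun (congrFun h1 2)⟩
  · fin_cases i
    exacts [h.1 j, h.2.1 j, h.2.2 j]

/-! ### determinants -/

/-- the reflection representation -/
def rh (g : S3) : Matrix (Fin 2) (Fin 2) ℤ := Matrix.of fun j => ![![1, 0], ![0, 1], ![-1, -1]] (g⁻¹ j.castSucc)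

theorem det_Ps (a b : ℤ) (γ : G3) :
    (a • wm6 (Ps γ) - b • 1).det = ∏ i, (a ^ 2 * nuZ 1 (cp γ i) - a * b * nuZ 2 (cp γ i) + b ^ 2) := by
  let e : Fin 2 × Fin 3 ≃ Fin 6 := finProdFinEquiv
  let B : Matrix (Fin 2 × Fin 3) (Fin 2 × Fin 3) ℤ := Matrix.of fun x y => Jm x.2 x.1.castSucc (e y)
  have h1 : B.det ≠ 0 := fun h => by
    obtain ⟨v, h1, h2⟩ := Matrix.exists_mulVec_eq_zero_iff.2 h
    have h3 := inj6 (y := v ∘ e.symm) fun i j => by
      refine Eq.trans ?_ (congrFun h2 (j, i))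
      rw [mulVec, dotProduct, dotProduct, ← e.sum_comp]
      simp [B]
    exact h1 (funext fun x => by simpa using congrFun h3 (e x))
  have h2 : B * (wm6 (Ps γ)).submatrix e e = blockDiagonal (fun i => rh (cp γ i)) * B := by
    ext ⟨j, i⟩ y
    have h2 : ∀ (g : S3) i (j : Fin 2) c, Jm i (g⁻¹ j.castSucc) c = ∑ j', rh g j j' * Jm i j'.castSucc c := by
      decide +kernel
    have h3 := congrFun (Jm_Ps γ i j.castSucc) (e y)
    rw [h2, vecMul, dotProduct, ← e.sum_comp] at h3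
    simpa only [B, Matrix.mul_apply, Fintype.sum_prod_type, blockDiagonal_apply, _root_.Matrix.of_apply, _root_.Matrix.submatrix_apply, _root_.Fin.sum_univ_two, _root_.Fin.isValue, _root_.ite_mul, _root_.MulZeroClass.zero_mul, _root_.Finset.sum_ite_eq, _root_.Finset.mem_univ, ↓ _root_.reduceIte, _root_.Fin.castSucc_zero, _root_.Fin.castSucc_one] using h3
  have h3 : B * (a • wm6 (Ps γ) - b • 1).submatrix e e = blockDiagonal (fun i => a • rh (cp γ i) - b • 1) * B := by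
    have h3 : (fun i => a • rh (cp γ i) - b • 1) = a • (fun i => rh (cp γ i)) - b • 1 := rfl
    rw [h3, blockDiagonal_sub, blockDiagonal_smul, blockDiagonal_smul, blockDiagonal_one, sub_mul, smul_mul, smul_mul, ← h2,
      one_mul, ← Matrix.mul_smul]
    conv_rhs => rw [← mul_one (b • B), smul_mul, ← Matrix.mul_smul, ← mul_sub, ← submatrix_one_equiv e]
    rfl
  have h4 := congrArg det h3
  rw [det_mul, det_mul, det_submatrix_equiv_self, det_blockDiagonal, mul_comm] at h4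
  rw [mul_right_cancel₀ h1 h4]
  refine Finset.prod_congr rfl fun i _ => ?_
  have h5 : ∀ g : S3, nuZ 1 g = rh g 0 0 * rh g 1 1 - rh g 0 1 * rh g 1 0 ∧ nuZ 2 g = rh g 0 0 + rh g 1 1 := by
    decide +kernel
  rw [det_fin_two, (h5 _).1, (h5 _).2]
  simp only [Matrix.sub_apply, Matrix.smul_apply, one_apply_eq, one_apply_ne zero_ne_one, one_apply_ne one_ne_zero,
    smul_eq_mul]
  ring

end Cfsg.Agent.KZ.Exc.F6

private theorem dce_fe9d00e815d7 : _root_.True := by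
  try have : _root_.True := by simp only [_root_.Cfsg.Agent.KZ.Exc.F6.Jm.eq_1]
  try have : _root_.True := by simp only [_root_.Cfsg.Agent.KZ.DatX.rowsE6.eq_1]
  try have : _root_.True := by simp only [_root_.Cfsg.Agent.KZ.Exc.F6.rw6.eq_1]
  try have : _root_.True := by simp only [_root_.Cfsg.Agent.KZ.Exc.F6.key.eq_1]
  try have : _root_.True := by simp only [_root_.Cfsg.Agent.KZ.Exc.F6.xs.eq_1]
  try have : _root_.True := by simp only [_root_.Cfsg.Agent.KZ.Exc.F6.C6.eq_1]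
  exact _root_.True.intro
end

-- part: KZ/Exc/ECvp
section
prune_inst 0x2200880000000000000000000000000004010000
set_option linter.all false
open scoped Cfsg.Agent.FastGrp

/-!
# KZ, the groups `E₆^ε`, `E₇`, `E₈` (scalar case): the counting function and Bessel's inequality (helper37)

* `exists_mu`, `exists_mu_sc` : one member from each orbit on which the sum of the multiplicities is prime to `3`;
* `lt_one`, `lt_two`, `lt_three` : lower bounds for the norm from `Bd`.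
-/

set_option autoImplicit false
set_option linter.unusedSectionVars false

namespace Cfsg.Agent.KZ.Exc

open Cfsg Cfsg.Lie Matrix Cfsg.Agent.DL Cfsg.Agent.DL.PP Cfsg.Agent.KZ.Lie Cfsg.Agent.KZ.DatX Cfsg.Agent.KZ.Cl
  Cfsg.Agent.Characters.Core
open scoped ComplexConjugate

section Mu

variable {H : Type} [Group H] [Fintype H] {M : Ideal AlgInt}

namespace Cvp

/-- conjugacy of irreducible characters under a group of automorphisms -/
def orbS (X : Subgroup (MulAut H)) : Setoid (IrrCharacter H) where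
  r χ χ' := ∃ σ ∈ X, ∀ g, χ.1 (σ g) = χ'.1 g
  iseqv :=
    ⟨fun _ => ⟨1, X.one_mem, fun _ => rfl⟩, fun ⟨σ, h1, h2⟩ => ⟨σ⁻¹, X.inv_mem h1, fun g => by rw [← h2]; simp⟩,
      fun ⟨σ, h1, h2⟩ ⟨τ, h3, h4⟩ => ⟨σ * τ, X.mul_mem h1 h3, fun g => by rw [← h4, ← h2]; rfl⟩⟩

theorem ip_aut {ψ χ χ' : H → ℂ} (σ : MulAut H) (h1 : ∀ g, ψ (σ g) = ψ g) (h2 : ∀ g, χ (σ g) = χ' g) :
    classInner ψ χ' = classInner ψ χ := by
  rw [classInner, classInner]
  congr 1
  exact Fintype.sum_equiv σ.toEquiv _ _ fun g => by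
    rw [← h1 g, ← h2 g]
    rfl

theorem bmod_cases (z : ℤ) : z.bmod 3 = 0 ∨ z.bmod 3 * z.bmod 3 = 1 := by
  have h : z.bmod 3 = 0 ∨ z.bmod 3 = 1 ∨ z.bmod 3 = -1 := by
    rw [Int.bmod_def]
    split_ifs <;> omega
  rcases h with h | h | h <;> simp [h]

theorem dvd_bmod (z : ℤ) : 3 ∣ z.bmod 3 - z := by
  rw [Int.bmod_def]
  split_ifs <;> omega

end Cvp

open Cvp

/-- One member from each orbit on which the sum of the values of `m` is prime to `3`. -/
theorem exists_mu (hM : IsPModular 3 M) (X : Subgroup (MulAut H)) (m : (H → ℂ) →+ ℂ)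
    (hm : ∀ χ : IrrCharacter H, ∃ z : ℤ, m χ = z ∧ (¬ Mem M χ → 3 ∣ z)) :
    ∃ (R : Finset (IrrCharacter H)) (μ : H → ℂ), (∀ χ ∈ R, Mem M χ) ∧
      (∀ χ ∈ R, ∀ χ' ∈ R, ∀ σ ∈ X, (∀ g, χ.1 (σ g) = χ'.1 g) → χ = χ') ∧ classInner μ μ = R.card ∧
      ∀ ψ, IsGeneralizedCharacter H ψ → (∀ σ ∈ X, ∀ g, ψ (σ g) = ψ g) → ∀ z : ℤ, m ψ = z →
        ∃ y : ℤ, classInner μ ψ = y ∧ 3 ∣ y - z := by
  classical
  have : Finite (IrrCharacter H) := finite_irr
  have := Fintype.ofFinite (IrrCharacter H)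
  choose z hz hz' using hm
  let rp : IrrCharacter H → IrrCharacter H := fun χ => (Quotient.mk (orbS X) χ).out
  have hr : ∀ χ, (orbS X).r (rp χ) χ := fun χ => Quotient.mk_out (s := orbS X) χ
  let Z : IrrCharacter H → ℤ := fun x => ∑ χ with rp χ = x, z χ
  let c : IrrCharacter H → ℤ := fun x => (Z x).bmod 3
  have hc : ∀ x, c x ≠ 0 → ∃ χ, rp χ = x ∧ Mem M χ := fun x hx => by
    by_contra hn
    have h1 : 3 ∣ Z x := Finset.dvd_sum fun χ hχ => hz' χ fun h => hn ⟨χ, (Finset.mem_filter.1 hχ).2, h⟩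
    exact hx (Int.dvd_iff_bmod_eq_zero.1 (by exact_mod_cast h1))
  refine ⟨Finset.univ.filter fun x => c x ≠ 0, ∑ x, (c x : ℂ) • (x : H → ℂ), fun x hx => ?_, fun x hx x' hx' σ h1 h2 => ?_, ?_,
    fun ψ hψ hi w hw => ?_⟩
  · obtain ⟨χ, rfl, h1⟩ := hc x (Finset.mem_filter.1 hx).2
    obtain ⟨σ, -, h2⟩ := hr χ
    rwa [show χ = Res.tr σ (rp χ) from Subtype.ext (funext fun g => (h2 g).symm), Res.mem_tr hM] at h1
  · obtain ⟨χ, rfl, -⟩ := hc x (Finset.mem_filter.1 hx).2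
    obtain ⟨χ', rfl, -⟩ := hc x' (Finset.mem_filter.1 hx').2
    have h3 : Quotient.mk (orbS X) (rp χ) = Quotient.mk (orbS X) (rp χ') := Quotient.sound ⟨σ, h1, h2⟩
    rw [Quotient.out_eq, Quotient.out_eq] at h3
    exact congrArg Quotient.out h3
  · rw [classInner_sum_smul_sum_smul, Finset.card_filter, Nat.cast_sum]
    refine Finset.sum_congr rfl fun x _ => ?_
    rw [map_intCast, ← Int.cast_mul]
    by_cases h : c x = 0
    · simp [h]
    · rw [(bmod_cases (Z x)).resolve_left h, if_pos h]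
      simp
  · obtain ⟨a, rfl⟩ := isGeneralizedCharacter_iff.1 hψ
    have ha : ∀ χ, a (rp χ) = a χ := fun χ => by
      obtain ⟨σ, h1, h2⟩ := hr χ
      have h3 := ip_aut σ (hi σ h1) h2
      rw [classInner_sum_zsmul_irr, classInner_sum_zsmul_irr] at h3
      exact_mod_cast h3.symm
    refine ⟨∑ x, c x * a x, ?_, ?_⟩
    · simp only [← Int.cast_smul_eq_zsmul ℂ, classInner_sum_smul_sum_smul, map_intCast, Int.cast_sum, Int.cast_mul]
    · have h1 : w = ∑ x, Z x * a x := by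
        simp only [map_sum, map_zsmul, hz] at hw
        simp only [zsmul_eq_mul] at hw
        have h2 : w = ∑ χ, a χ * z χ := by exact_mod_cast hw.symm
        rw [h2, ← Finset.sum_fiberwise Finset.univ rp]
        refine Finset.sum_congr rfl fun x _ => ?_
        rw [Finset.sum_mul]
        exact Finset.sum_congr rfl fun χ hχ => by rw [← (Finset.mem_filter.1 hχ).2, ha, mul_comm]
      rw [h1, ← Finset.sum_sub_distrib]
      exact Finset.dvd_sum fun x _ => by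
        rw [← sub_mul]
        exact (dvd_bmod _).mul_right _

end Mu

section Sc

variable {p : ℕ} [Fact p.Prime] {k : Type} [Field k] [CharP k p] {Y : Type} [Group Y] {N : Type} [Fintype N]
  [DecidableEq N] {ρ : Y →* GL N k} {F : MulAut Y} {G : Subgroup Y} [IsAlgClosed k] {D : Datum p ρ F G}
  {f : Fr D} [Fintype ↥(GF F G)] {w₀ : D.W} {Q : ℤ} {M : Ideal AlgInt}

open Classical in
theorem mS_eq_sum (hA : Api f) (w₀ : D.W) : ∃ s : Finset (Lbl D), ∀ χ : ↥(GF F G) → ℂ,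
    Lie.mS f w₀ χ = ∑ c ∈ s, classInner χ (RW f w₀ c) := by
  have h1 : {c : Lbl D | Fx D w₀ c}.Finite := finite_Fx D w₀
  refine ⟨h1.toFinset.filter (Is3 D), fun χ => ?_⟩
  rw [Lie.mS, finsum_eq_sum_of_support_subset (s := h1.toFinset.filter (Is3 D))]
  · exact Finset.sum_congr rfl fun c hc => finsum_eq_single _ (Finset.mem_filter.1 hc).2 fun _ h => absurd rfl h
  · intro c hc
    rw [Finset.coe_filter]
    refine ⟨h1.mem_toFinset.2 ?_, ?_⟩ <;> by_contra hn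
    · exact hc (by simp [hA.zero w₀ c hn, classInner_zero_right])
    · exact hc (by simp [hn])

/-- `mS` as an additive map -/
noncomputable def mSh (hA : Api f) (w₀ : D.W) : (↥(GF F G) → ℂ) →+ ℂ :=
  AddMonoidHom.mk' (Lie.mS f w₀) fun a b => by
    obtain ⟨s, hs⟩ := mS_eq_sum hA w₀
    simp only [hs, classInner_add_left, Finset.sum_add_distrib]

theorem mS_int (hA : Api f) {χ : ↥(GF F G) → ℂ} (hχ : IsGeneralizedCharacter _ χ) : ∃ z : ℤ, Lie.mS f w₀ χ = z := by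
  obtain ⟨s, hs⟩ := mS_eq_sum hA w₀
  have h1 : ∀ c, ∃ z : ℤ, classInner χ (RW f w₀ c) = z := fun c => by
    obtain ⟨a, b, ha, hb, rfl⟩ := hχ
    obtain ⟨a', b', ha', hb', e⟩ := hA.gen w₀ c
    obtain ⟨n1, e1⟩ := classInner_isNat ha ha'
    obtain ⟨n2, e2⟩ := classInner_isNat ha hb'
    obtain ⟨n3, e3⟩ := classInner_isNat hb ha'
    obtain ⟨n4, e4⟩ := classInner_isNat hb hb'
    refine ⟨n1 - n2 - (n3 - n4), ?_⟩
    rw [e, classInner_sub_left, classInner_sub_right, classInner_sub_right, e1, e2, e3, e4]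
    push_cast
    rfl
  choose z hz using h1
  exact ⟨∑ c ∈ s, z c, by simp only [hs, hz, Int.cast_sum]⟩

/-- `exists_mu` for the membership test -/
theorem exists_mu_mc (hc : Mc f w₀) (hr : RegC D w₀) (hA : Api f) (hM : IsPModular 3 M) (X : Subgroup (MulAut ↥(GF F G))) :
    ∃ (R : Finset (IrrCharacter ↥(GF F G))) (μ : ↥(GF F G) → ℂ), (∀ χ ∈ R, Mem M χ) ∧
      (∀ χ ∈ R, ∀ χ' ∈ R, ∀ σ ∈ X, (∀ g, χ.1 (σ g) = χ'.1 g) → χ = χ') ∧ classInner μ μ = R.card ∧
      ∀ ψ, IsGeneralizedCharacter ↥(GF F G) ψ → (∀ σ ∈ X, ∀ g, ψ (σ g) = ψ g) → ∀ z : ℤ, Lie.mS f w₀ ψ = z →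
        ∃ y : ℤ, classInner μ ψ = y ∧ 3 ∣ y - z :=
  exists_mu hM X (mSh hA w₀) fun χ => by
    obtain ⟨z, hz⟩ := mS_int (w₀ := w₀) hA ⟨χ.1, 0, isIrr_isCharacter χ.2, isCharacter_zero, (sub_zero _).symm⟩
    exact ⟨z, hz, fun h => not_not.1 fun h3 => h ((hc.all hr M hM χ z hz).2 h3)⟩

/-- `exists_mu` in the scalar case -/
theorem exists_mu_sc (h : Sc D w₀ Q) (hA : Api f) (hp : p ≠ 3) (hM : IsPModular 3 M) (X : Subgroup (MulAut ↥(GF F G))) :
    ∃ (R : Finset (IrrCharacter ↥(GF F G))) (μ : ↥(GF F G) → ℂ), (∀ χ ∈ R, Mem M χ) ∧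
      (∀ χ ∈ R, ∀ χ' ∈ R, ∀ σ ∈ X, (∀ g, χ.1 (σ g) = χ'.1 g) → χ = χ') ∧ classInner μ μ = R.card ∧
      ∀ ψ, IsGeneralizedCharacter ↥(GF F G) ψ → (∀ σ ∈ X, ∀ g, ψ (σ g) = ψ g) → ∀ z : ℤ, Lie.mS f w₀ ψ = z →
        ∃ y : ℤ, classInner μ ψ = y ∧ 3 ∣ y - z :=
  exists_mu_mc (h.mc f hp) h.regC hA hM X

end Sc

section Bessel

variable {H : Type} [Group H] [Fintype H] {μ : H → ℂ}

namespace Cvp

end Cvp

open Cvp

end Bessel

end Cfsg.Agent.KZ.Exc

private theorem dce_aa7aa36243d6 : _root_.True := by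
  try have : _root_.True := by simp only [_root_.Cfsg.Agent.KZ.Lie.mS.congr_simp]
  exact _root_.True.intro
end

-- part: KZ/Exc/EGram7
section
set_option linter.all false
open scoped Cfsg.Agent.FastGrp

/-!
# KZ, exceptional groups: `gram7` (helper40)
-/

set_option autoImplicit false

namespace Cfsg.Agent.KZ.Exc

open Cfsg.Agent.KZ.DatX Cfsg.Agent.KZ.Exc.Gr

/-- the twisted cocharacters -/
def lam7' : Fin 5 → Fin 7 → ℤ := ![![0, 0, 0, 0, 0, 0, 0], ![0, 0, 0, 0, 0, 0, 1], ![0, 0, 0, 0, 0, 0, -1],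
  ![1, 0, 0, 0, 0, 0, 0], ![-1, 0, 0, 0, 0, 0, 0]]

private noncomputable def _root_.Cfsg.Agent.LsF.fd9c651_0 : {f // @Cfsg.Agent.KZ.Exc.Gr.fn = f} := ⟨_, by first | (delta Cfsg.Agent.KZ.Exc.Gr.fn; rewrite [Cfsg.Agent.LsF.nadd_pat]; (try delta Nat.casesOn); exact rfl) | exact rfl⟩
private noncomputable def _root_.Cfsg.Agent.LsF.fd9c651_1 : {f // @Cfsg.Agent.KZ.Exc.Gr.fz = f} := ⟨_, by first | (delta Cfsg.Agent.KZ.Exc.Gr.fz; rewrite [Cfsg.Agent.LsF.fd9c651_0.2]; (try delta Cfsg.Agent.KZ.Exc.Gr.fz.match_1); (try delta Int.casesOn); exact rfl) | exact rfl⟩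
private noncomputable def _root_.Cfsg.Agent.LsF.fd9c651_2 : {f // @Cfsg.Agent.KZ.Exc.Gr.fl = f} := ⟨_, by first | (delta Cfsg.Agent.KZ.Exc.Gr.fl List.brecOn List.brecOn.go Cfsg.Agent.KZ.Exc.Gr.fl._f; rewrite [Cfsg.Agent.LsF.fd9c651_1.2]; (try delta Cfsg.Agent.KZ.Exc.Gr.fl.match_1); (try delta List.casesOn); first | dsimp -zeta only | exact rfl) | exact rfl⟩
private noncomputable def _root_.Cfsg.Agent.LsF.fd9c651_3 : {f // @Cfsg.Agent.KZ.DatX.refL = f} := ⟨_, by first | (delta Cfsg.Agent.KZ.DatX.refL; rewrite [Cfsg.Agent.LsF.imul_pat, Cfsg.Agent.LsF.isub_pat, Cfsg.Agent.LsF.zipWith_eq, Cfsg.Agent.LsF.getD_eq]; exact rfl) | exact rfl⟩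
private noncomputable def _root_.Cfsg.Agent.LsF.fd9c651_4 : {f // @Cfsg.Agent.KZ.Exc.Gr.kids = f} := ⟨_, by first | (delta Cfsg.Agent.KZ.Exc.Gr.kids; rewrite [Cfsg.Agent.LsF.fd9c651_2.2, Cfsg.Agent.LsF.fd9c651_3.2, Cfsg.Agent.LsF.all_eq, Cfsg.Agent.LsF.foldr_eq, Cfsg.Agent.LsF.take_eq, Cfsg.Agent.LsF.getD_eq, Cfsg.Agent.LsF.idecLe_eq, Cfsg.Agent.LsF.idecLt_eq, Cfsg.Agent.LsF.dBoolEq_eq, Cfsg.Agent.LsF.ite_eq, Cfsg.Agent.LsF.decide_eq]; exact rfl) | exact rfl⟩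
private noncomputable def _root_.Cfsg.Agent.LsF.fd9c651_5 : {f // @Cfsg.Agent.KZ.Exc.Gr.lev = f} := ⟨_, by first | (delta Cfsg.Agent.KZ.Exc.Gr.lev; rewrite [Cfsg.Agent.LsF.fd9c651_4.2, Cfsg.Agent.LsF.foldr_eq]; exact rfl) | exact rfl⟩
private noncomputable def _root_.Cfsg.Agent.LsF.fd9c651_6 : {f // @Cfsg.Agent.KZ.Exc.Gr.empL = f} := ⟨_, by first | (delta Cfsg.Agent.KZ.Exc.Gr.empL Nat.brecOn.go Nat.brecOn Cfsg.Agent.KZ.Exc.Gr.empL._f; rewrite [Cfsg.Agent.LsF.fd9c651_5.2, Cfsg.Agent.LsF.isEmpty_eq]; (try delta Cfsg.Agent.KZ.Exc.Gr.allL.match_1); (try delta Nat.casesOn); first | dsimp -zeta only | exact rfl) | exact rfl⟩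
private noncomputable def _root_.Cfsg.Agent.LsF.fd9c651_7 : {f // @Cfsg.Agent.KZ.Exc.Gr.sumL = f} := ⟨_, by first | (delta Cfsg.Agent.KZ.Exc.Gr.sumL List.brecOn List.brecOn.go Cfsg.Agent.KZ.Exc.Gr.sumL._f; rewrite [Cfsg.Agent.LsF.fd9c651_1.2, Cfsg.Agent.LsF.iadd_pat]; (try delta Cfsg.Agent.KZ.Exc.Gr.sumL.match_1); (try delta List.casesOn); first | dsimp -zeta only | exact rfl) | exact rfl⟩
private noncomputable def _root_.Cfsg.Agent.LsF.fd9c651_8 : {f // @Cfsg.Agent.KZ.Exc.Gr.allL = f} := ⟨_, by first | (delta Cfsg.Agent.KZ.Exc.Gr.allL Nat.brecOn.go Nat.brecOn Cfsg.Agent.KZ.Exc.Gr.allL._f; rewrite [Cfsg.Agent.LsF.fd9c651_5.2, Cfsg.Agent.LsF.lappend_pat]; (try delta Cfsg.Agent.KZ.Exc.Gr.allL.match_1); (try delta Nat.casesOn); first | dsimp -zeta only | exact rfl) | exact rfl⟩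
private noncomputable def _root_.Cfsg.Agent.LsF.fd9c651_9 : {f // @Cfsg.Agent.KZ.Exc.Gr.djL = f} := ⟨_, by first | (delta Cfsg.Agent.KZ.Exc.Gr.djL; rewrite [Cfsg.Agent.LsF.instIBEq_pat, Cfsg.Agent.LsF.or_eq, Cfsg.Agent.LsF.all_eq, Cfsg.Agent.LsF.getD_eq, Cfsg.Agent.LsF.bne_eq, Cfsg.Agent.LsF.idecLe_eq, Cfsg.Agent.LsF.decide_eq]; exact rfl) | exact rfl⟩
private noncomputable def _root_.Cfsg.Agent.LsF.fd9c651_10 : {f // @Cfsg.Agent.KZ.DatX.app = f} := ⟨_, by first | (delta Cfsg.Agent.KZ.DatX.app; rewrite [Cfsg.Agent.LsF.fd9c651_3.2, Cfsg.Agent.LsF.foldr_eq]; exact rfl) | exact rfl⟩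
private noncomputable def _root_.Cfsg.Agent.LsF.fd9c651_11 : {f // @Cfsg.Agent.KZ.Exc.Gr.dom = f} := ⟨_, by first | (delta Cfsg.Agent.KZ.Exc.Gr.dom Cfsg.Agent.KZ.Exc.Gr.dom._f Nat.brecOn.go Nat.brecOn; rewrite [Cfsg.Agent.LsF.fd9c651_2.2, Cfsg.Agent.LsF.fd9c651_3.2, Cfsg.Agent.LsF.fd9c651_1.2, Cfsg.Agent.LsF.ineg_pat, Cfsg.Agent.LsF.ibeq_pat, Cfsg.Agent.LsF.and_eq, Cfsg.Agent.LsF.find?_eq, Cfsg.Agent.LsF.getD_eq, Cfsg.Agent.LsF.idecLt_eq, Cfsg.Agent.LsF.decide_eq]; (try delta Cfsg.Agent.KZ.Exc.Gr.dom.match_3); (try delta Cfsg.Agent.KZ.Exc.Gr.dom.match_1); (try delta Nat.casesOn Option.casesOn); first | dsimp -zeta only | exact rfl) | exact rfl⟩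
private noncomputable def _root_.Cfsg.Agent.LsF.fd9c651_12 : {f // @Cfsg.Agent.KZ.Exc.Gr.dn = f} := ⟨_, by first | (delta Cfsg.Agent.KZ.Exc.Gr.dn; rewrite [Cfsg.Agent.LsF.fd9c651_2.2, Cfsg.Agent.LsF.fd9c651_10.2, Cfsg.Agent.LsF.fd9c651_11.2, Cfsg.Agent.LsF.ineg_pat, Cfsg.Agent.LsF.length_eq]; exact rfl) | exact rfl⟩
private noncomputable def _root_.Cfsg.Agent.LsF.fd9c651_13 : {f // @Cfsg.Agent.KZ.Exc.Gr.okL = f} := ⟨_, by first | (delta Cfsg.Agent.KZ.Exc.Gr.okL; rewrite [Cfsg.Agent.LsF.fd9c651_9.2, Cfsg.Agent.LsF.fd9c651_12.2, Cfsg.Agent.LsF.or_eq, Cfsg.Agent.LsF.not_eq]; exact rfl) | exact rfl⟩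
private noncomputable def _root_.Cfsg.Agent.LsF.fd9c651_14 : {f // @Cfsg.Agent.KZ.Exc.Gr.stL = f} := ⟨_, by first | (delta Cfsg.Agent.KZ.Exc.Gr.stL; rewrite [Cfsg.Agent.LsF.instIBEq_pat, Cfsg.Agent.LsF.or_eq, Cfsg.Agent.LsF.all_eq, Cfsg.Agent.LsF.getD_eq, Cfsg.Agent.LsF.bne_eq]; exact rfl) | exact rfl⟩
private noncomputable def _root_.Cfsg.Agent.LsF.fd9c651_15 : {f // @Cfsg.Agent.KZ.Exc.Gr.hh = f} := ⟨_, by first | (delta Cfsg.Agent.KZ.Exc.Gr.hh; rewrite [Cfsg.Agent.LsF.fd9c651_9.2, Cfsg.Agent.LsF.fd9c651_12.2, Cfsg.Agent.LsF.fd9c651_14.2, Cfsg.Agent.LsF.instIDecEq_eq, Cfsg.Agent.LsF.dBoolEq_eq, Cfsg.Agent.LsF.dListEq_eq, Cfsg.Agent.LsF.ite_eq]; exact rfl) | exact rfl⟩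
private noncomputable def _root_.Cfsg.Agent.LsF.fd9c651_16 : {f // @Cfsg.Agent.KZ.Exc.Gr.chk = f} := ⟨_, by first | (delta Cfsg.Agent.KZ.Exc.Gr.chk; rewrite [Cfsg.Agent.LsF.fd9c651_2.2, Cfsg.Agent.LsF.fd9c651_6.2, Cfsg.Agent.LsF.fd9c651_7.2, Cfsg.Agent.LsF.fd9c651_8.2, Cfsg.Agent.LsF.fd9c651_13.2, Cfsg.Agent.LsF.fd9c651_15.2, Cfsg.Agent.LsF.ibeq_pat, Cfsg.Agent.LsF.and_eq, Cfsg.Agent.LsF.or_eq, Cfsg.Agent.LsF.all_eq, Cfsg.Agent.LsF.instIDecEq_eq, Cfsg.Agent.LsF.dFinLt_eq, Cfsg.Agent.LsF.dListEq_eq, Cfsg.Agent.LsF.finRange_eq, Cfsg.Agent.LsF.ofFn_eq, Cfsg.Agent.LsF.ite_eq, Cfsg.Agent.LsF.decide_eq]; exact rfl) | exact rfl⟩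
private noncomputable def _root_.Cfsg.Agent.LsF.fd9c651_17 : {f // @Cfsg.Agent.KZ.Exc.lam7 = f} := ⟨_, by first | (delta Cfsg.Agent.KZ.Exc.lam7; rewrite [Cfsg.Agent.LsF.vecCons_eq]; exact rfl) | exact rfl⟩
private noncomputable def _root_.Cfsg.Agent.LsF.fd9c651_18 : {f // @Cfsg.Agent.KZ.Exc.lam7' = f} := ⟨_, by first | (delta Cfsg.Agent.KZ.Exc.lam7'; rewrite [Cfsg.Agent.LsF.ineg_pat, Cfsg.Agent.LsF.vecCons_eq]; exact rfl) | exact rfl⟩
private noncomputable def _root_.Cfsg.Agent.LsF.fd9c651_19 : {f // @Cfsg.Agent.KZ.Exc.n7 = f} := ⟨_, by first | (delta Cfsg.Agent.KZ.Exc.n7; rewrite [Cfsg.Agent.LsF.vecCons_eq]; exact rfl) | exact rfl⟩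
private noncomputable def _root_.Cfsg.Agent.LsF.fd9c651_20 : {f // @Cfsg.Agent.KZ.Exc.p7 = f} := ⟨_, by first | (delta Cfsg.Agent.KZ.Exc.p7; rewrite [Cfsg.Agent.LsF.vecCons_eq]; exact rfl) | exact rfl⟩
private noncomputable def _root_.Cfsg.Agent.LsF.fd9c651_21 : {f // @Cfsg.Agent.KZ.Exc.d7 = f} := ⟨_, by first | (delta Cfsg.Agent.KZ.Exc.d7; rewrite [Cfsg.Agent.LsF.vecCons_eq]; exact rfl) | exact rfl⟩
set_option maxRecDepth 100000 in
theorem chk7 : ∀ j, chk rowsE7 [0, 1, 2, 3, 4, 5, 6] lam7 lam7' n7 p7 (fun _ _ => 0) d7 40 j = true := by (refine of_decide_eq_true ?_; (try (rewrite [Cfsg.Agent.LsF.fd9c651_16.2, Cfsg.Agent.LsF.fd9c651_17.2, Cfsg.Agent.LsF.fd9c651_18.2, Cfsg.Agent.LsF.fd9c651_19.2, Cfsg.Agent.LsF.fd9c651_20.2, Cfsg.Agent.LsF.fd9c651_21.2, Cfsg.Agent.LsF.dBoolEq_eq, Cfsg.Agent.LsF.dForallFin_eq, Cfsg.Agent.LsF.decide_eq])); decide +kernel)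

theorem gram7 : Gram7 :=
  haveI : Finite W7 := Nat.finite_of_card_ne_zero (by rw [card_W_E7]; decide)
  gram_of_chk hpE7 isRows_E7 (by decide) (by decide +kernel) (by decide +kernel) chk7

end Cfsg.Agent.KZ.Exc
end

-- part: KZ/Exc/EF6B
section
prune_inst 0x1c4500e045c6200000000c000320000043000000010400000b8020004010b1220804020000400080a100a080020040100021000a0400000000a8440000004000088201000c1c900550204810112b8210002200880000000000000000000041000004010000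
set_option linter.all false
open scoped Cfsg.Agent.FastGrp

/-!
# KZ, the frame of `E₆^ε` (2): `in6` (helper25)

`Ty σ φ` : the functions on `S₃` which come from Levi subgroups; `rig` : the `27` orthonormal functions; `deg_eq` : the degrees.
-/

set_option autoImplicit false
set_option linter.unusedSectionVars false

namespace Cfsg.Agent.KZ.Exc

open Cfsg Cfsg.Lie Matrix Cfsg.Agent.DL Cfsg.Agent.DL.PP Cfsg.Agent.DL.Uni Cfsg.Agent.KZ.Lie Cfsg.Agent.KZ.DatX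
  Cfsg.Agent.KZ.Cl Cfsg.Agent.Characters.Core
  Cfsg.Agent.ChevalleyStructure.CoxeterGeom Cfsg.Agent.ChevalleyStructure.CoxeterGeomTypes

namespace F6

open EFr

/-! ### the invariant labels -/

theorem inv_lab {d : Fin 6 → ℂˣ} (h : ∀ i z, chr (sM chevE6 6 i *ᵥ z) d = chr z d) :
    ∃ t < 3, ∀ j, d j = (om ^ (Jm 0 0 - Jm 2 0) j) ^ t := by
  have h1 : ∀ i, chr (C6 i) d = 1 := fun i => by
    have e : ∀ i, sM chevE6 6 i *ᵥ Pi.single i 1 = Pi.single i 1 - C6 i := by decide +kernel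
    simpa [e, Ex.chr_sub] using h i (Pi.single i 1)
  have h2 : ∀ y : Fin 6 → ℤ, chr (∑ i, y i • C6 i) d = 1 := fun y => by
    simp only [Ex.chr_sum, Ex.chr_smul, h1, _root_.one_zpow, Finset.prod_const_one]
  have e1 : ∑ i, (Jm 0 0 - Jm 2 0) i • C6 i = Pi.single 0 3 := by decide +kernel
  have e2 : ∀ j, ∑ i, (![![-4, -3, -5, -6, -4, -2], ![-3, -1, -3, -3, -2, -1], ![-5, -3, -5, -6, -4, -2],
      ![-6, -3, -6, -6, -4, -2], ![-4, -2, -4, -4, -2, -1], ![-2, -1, -2, -2, -1, 0]] : Fin 6 → Fin 6 → ℤ) j i • C6 i =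
      Pi.single j 1 - Pi.single 0 ((Jm 0 0 - Jm 2 0) j) := by decide +kernel
  have h3 := h2 (Jm 0 0 - Jm 2 0)
  rw [e1, Ex.chr_single] at h3
  obtain ⟨t, h4, h5⟩ := om_prim.eq_pow_of_mem_rootsOfUnity (ξ := d 0) ((mem_rootsOfUnity _ _).2 (by exact_mod_cast h3))
  refine ⟨t, h4, fun j => ?_⟩
  have h6 := (congrArg (chr · d) (e2 j)).symm.trans (h2 _)
  rw [Ex.chr_sub, Ex.chr_single, Ex.chr_single, mul_inv_eq_one, zpow_one, ← h5] at h6
  rw [h6, ← zpow_natCast, ← zpow_natCast, ← _root_.zpow_mul, ← _root_.zpow_mul, mul_comm]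

/-! ### the types -/

/-- the functions on one arm -/
def Ty (σ : ℤ) (φ : S3 → ℂ) : Prop :=
  ∃ s n, 3 ∣ ∑ j, s j - σ ∧ n ∈ Subgroup.normalizer (Sf s : Set S3) ∧ Phi (Sf s) n = φ

theorem ty0 : Ty 0 (nu 0) := ⟨0, 1, by simp, one_mem _, by rw [Sf_top rfl rfl, Phi_top_one]⟩

theorem ty1 {σ : ℤ} (h : 0 ≤ σ) : Ty σ (nu 0 + nu 2) ∧ Ty σ (nu 0 - nu 1) ∧ Ty σ (nu 0 + nu 1 - nu 2) := by
  have e : Sf ![0, 1, σ + 2] = ⊥ := Sf_bot (by simp) (by simp; omega) (by simp; omega)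
  have h1 : 3 ∣ ∑ j, ![0, 1, σ + 2] j - σ := ⟨1, by simp [Fin.sum_univ_succ]; ring⟩
  exact ⟨⟨![0, 0, σ + 3], 1, ⟨1, by simp [Fin.sum_univ_succ]⟩, one_mem _, Phi_two (.inl ⟨rfl, by simp; omega⟩)⟩,
    ⟨_, t01, h1, e ▸ mem_normalizer_bot _, e ▸ Phi_bot_t01⟩, _, _, h1, e ▸ mem_normalizer_bot _, e ▸ Phi_bot_cyc⟩

/-- the signs -/
def ep : Fin 3 → ℤ := ![1, 1, -1]

theorem all1 {A : AddSubgroup (S3 → ℂ)} {σ : ℤ} (hσ : 0 ≤ σ) (h : ∀ φ, Ty σ φ → φ ∈ A) (i : Fin 3) :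
    nu i - ep i • nu 0 ∈ A ∧ (3 : ℤ) • nu i ∈ A := by
  obtain ⟨h1, h2, h3⟩ := ty1 hσ
  have h4 : ∀ i, nu i - ep i • nu 0 ∈ A := fun i => by
    fin_cases i
    · simp [ep]
    · simpa [ep] using A.neg_mem (h _ h2)
    · simpa [ep, add_comm] using h _ h1
  have h5 := A.add_mem (A.zsmul_mem (h4 i) 3) (A.zsmul_mem (A.add_mem (h _ h1) (A.add_mem (h _ h2) (h _ h3))) (ep i))
  exact ⟨h4 i, (congrArg (· ∈ A) (by module)).mp h5⟩

theorem all0 {A : AddSubgroup (S3 → ℂ)} (h : ∀ φ, Ty 0 φ → φ ∈ A) (i : Fin 3) : nu i ∈ A := by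
  simpa using A.add_mem (all1 le_rfl h i).1 (A.zsmul_mem (h _ ty0) (ep i))

/-- the tensor product -/
def tn (a b e : S3 → ℂ) (γ : G3) : ℂ := a γ.1 * (b γ.2.1 * e γ.2.2)

theorem tn_class (i j l : Fin 3) : IsClassFunction G3 (tn (nu i) (nu j) (nu l)) :=
  class_prod (nu_class i) (class_prod (nu_class j) (nu_class l))

theorem ip_tn (x y : Fin 3 × Fin 3 × Fin 3) :
    classInner (tn (nu x.1) (nu x.2.1) (nu x.2.2)) (tn (nu y.1) (nu y.2.1) (nu y.2.2)) = if x = y then 1 else 0 := by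
  refine (ip_prod (nu x.1) (nu y.1) (fun g : S3 × S3 => nu x.2.1 g.1 * nu x.2.2 g.2)
    fun g => nu y.2.1 g.1 * nu y.2.2 g.2).trans ?_
  rw [ip_prod, ip_nu, ip_nu, ip_nu]
  simp only [Prod.ext_iff, ite_and]
  split_ifs <;> simp

theorem cong3 {P : AddSubgroup (G3 → ℂ)} (h : ∀ a b e, Ty 0 a → Ty 0 b → Ty 1 e → tn a b e ∈ P) (i j l : Fin 3) :
    tn (nu i) (nu j) (nu l - ep l • nu 0) ∈ P ∧ tn (nu i) (nu j) ((3 : ℤ) • nu l) ∈ P := by
  have h1 : ∀ b e, Ty 0 b → Ty 1 e → tn (nu i) b e ∈ P := fun b e hb he =>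
    AddSubgroup.mem_comap.1 (all0 (A := P.comap (AddMonoidHom.mk' (tn · b e) fun _ _ => funext fun _ => by
      simp [tn, add_mul])) (fun a ha => AddSubgroup.mem_comap.2 (h a b e ha hb he)) i)
  have h2 : ∀ e, Ty 1 e → tn (nu i) (nu j) e ∈ P := fun e he =>
    AddSubgroup.mem_comap.1 (all0 (A := P.comap (AddMonoidHom.mk' (tn (nu i) · e) fun _ _ => funext fun _ => by
      simp [tn, mul_add, add_mul])) (fun b hb => AddSubgroup.mem_comap.2 (h1 b e hb he)) j)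
  have h3 := all1 (A := P.comap (AddMonoidHom.mk' (tn (nu i) (nu j)) fun _ _ => funext fun _ => by simp [tn, mul_add]))
    zero_le_one (fun e he => AddSubgroup.mem_comap.2 (h2 e he)) l
  exact ⟨AddSubgroup.mem_comap.1 h3.1, AddSubgroup.mem_comap.1 h3.2⟩

/-- **rigidity** -/
theorem rig {H : Type} [Group H] [Fintype H] {T : (G3 → ℂ) →ₗ[ℂ] H → ℂ}
    (h : ∀ a b e, Ty 0 a → Ty 0 b → Ty 1 e → IsGeneralizedCharacter H (T (tn a b e)))
    (hr : ∀ a b e, IsGeneralizedCharacter H (T (tn a b e)) → IsGeneralizedCharacter H (T (tn b e a)))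
    (hi : ∀ φ φ', IsClassFunction G3 φ → classInner (T φ) (T φ') = classInner φ φ') (ν : Fin 3) :
    IsGeneralizedCharacter H (T (nu3 ν)) := by
  let P : AddSubgroup (G3 → ℂ) := (Sym.genL H).comap T.toAddMonoidHom
  have h1 := cong3 (P := P) h
  have h2 : ∀ i j l, tn (nu i) (nu j) (nu l) - (ep i * ep j * ep l) • tn (nu 0) (nu 0) (nu 0) ∈ P := fun i j l => by
    have h3 := P.add_mem (h1 i j l).1 (P.zsmul_mem (P.add_mem (hr _ _ _ (h1 0 i j).1 : _ ∈ P)
      (P.zsmul_mem (hr _ _ _ (hr _ _ _ (h1 0 0 i).1) : _ ∈ P) (ep j))) (ep l))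
    refine (congrArg (· ∈ P) (funext fun γ => ?_)).mp h3
    simp only [tn, Pi.add_apply, Pi.sub_apply, Pi.smul_apply]
    simp only [zsmul_eq_mul, Int.cast_mul]
    ring
  let e : Fin 27 ≃ Fin 3 × Fin 3 × Fin 3 := (Fintype.equivFinOfCardEq (by simp)).symm
  have h3 : tn (nu 0) (nu 0) (nu 0) ∈ P := by
    refine TAB.Eng.gen_of_sq (l := 3) (by decide) (by decide) (fun n => T (tn (nu (e n).1) (nu (e n).2.1) (nu (e n).2.2))) _
      (fun n n' => by rw [hi _ _ (tn_class _ _ _), ip_tn]; simp) ?_ fun n => ?_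
    · have e1 : tn (nu 0) (nu 0) ((3 : ℤ) • nu 0) = (3 : ℂ) • tn (nu 0) (nu 0) (nu 0) := funext fun γ => by
        simp only [tn, Pi.smul_apply, zsmul_eq_mul, smul_eq_mul, Int.cast_ofNat]
        ring
      have h3 : IsGeneralizedCharacter H (T _) := (h1 0 0 0).2
      rwa [e1, map_smul] at h3
    · have h3 : IsGeneralizedCharacter H (T _) := h2 (e n).1 (e n).2.1 (e n).2.2
      have h4 : ∀ i j l, ep i * ep j * ep l = 1 ∨ ep i * ep j * ep l = -1 := by decide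
      refine (h4 (e n).1 (e n).2.1 (e n).2.2).imp (fun h5 => ?_) fun h5 => ?_
      · rwa [h5, one_smul, map_sub] at h3
      · rwa [h5, neg_one_zsmul, sub_neg_eq_add, map_add] at h3
  have h4 := P.add_mem (h2 ν ν ν) (P.zsmul_mem h3 (ep ν * ep ν * ep ν))
  rwa [sub_add_cancel] at h4

/-! ### the degrees -/

theorem arith {m x Q : ℤ} {P : ℕ} (hQ : 3 ∣ Q - 1) (h1 : Q ≠ 1) (hP : P ≠ 0)
    (hv : P.factorization 3 = ((Q - 1).natAbs ^ 6 * 51840).factorization 3) (hx : ¬ 3 ∣ x)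
    (h : m * ((Q ^ 2 - 1) * (Q ^ 3 - 1)) ^ 3 = 3 * (P * x)) : ∃ n, m = 3 * n ∧ 3 ∣ n ∧ ¬ 9 ∣ n := by
  obtain ⟨u, hu⟩ := hQ
  have h0 : (Q - 1).natAbs ^ 6 * 51840 ≠ 0 := by simp [sub_eq_zero, h1]
  have e1 := Nat.ordProj_mul_ordCompl_eq_self P 3
  have e2 := Nat.ordProj_mul_ordCompl_eq_self ((Q - 1).natAbs ^ 6 * 51840) 3
  have d1 := Nat.not_dvd_ordCompl Nat.prime_three hP
  have d2 := Nat.not_dvd_ordCompl Nat.prime_three h0
  rw [← hv] at e2 d2
  generalize P / _ = P' at e1 d1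
  generalize (_ * 51840) / _ = K at e2 d2
  generalize hj : 3 ^ P.factorization 3 = j at e1 e2
  have hj0 : (j : ℤ) ≠ 0 := by rw [← hj]; positivity
  have e3 : (j : ℤ) * K = (Q - 1) ^ 6 * 51840 := by
    have := congrArg (Nat.cast : ℕ → ℤ) e2
    push_cast at this
    rwa [Even.pow_abs (by decide)] at this
  have h2 : m * (K * ((3 * u + 2) * (3 * (u ^ 2 + u) + 1)) ^ 3) = 9 * (640 * (P' * x)) := by
    refine mul_left_cancel₀ hj0 ?_
    rw [← e1, Nat.cast_mul, eq_add_of_sub_eq hu] at h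
    rw [hu] at e3
    linear_combination (m * ((3 * u + 2) * (3 * (u ^ 2 + u) + 1)) ^ 3) * e3 + 1920 * h
  have p3 := Int.prime_three
  have h3 : ¬ 3 ∣ K * ((3 * u + 2) * (3 * (u ^ 2 + u) + 1)) ^ 3 := fun h3 =>
    (p3.dvd_or_dvd h3).elim (fun h4 => d2 (by exact_mod_cast h4)) fun h4 =>
      (p3.dvd_or_dvd (p3.dvd_of_dvd_pow h4)).elim (by omega) (by omega)
  obtain ⟨m', rfl⟩ : 3 ^ 2 ∣ m := p3.pow_dvd_of_dvd_mul_right 2 h3 ⟨_, h2⟩
  refine ⟨3 * m', by ring, dvd_mul_right _ _, fun h4 => ?_⟩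
  have h5 : (3 : ℤ) ∣ 640 * (P' * x) := by
    rw [← mul_left_cancel₀ (by decide) ((mul_assoc _ _ _).symm.trans h2)]
    exact Dvd.dvd.mul_right (by omega) _
  exact (p3.dvd_or_dvd h5).elim (by decide) fun h6 => (p3.dvd_or_dvd h6).elim (fun h7 => d1 (by exact_mod_cast h7)) hx

/-- the degrees of the unipotent characters of `A₂` -/
def dq (Q : ℤ) : Fin 3 → ℤ := ![1, Q ^ 3, Q ^ 2 + Q]

variable {p : ℕ} [Fact p.Prime] {k : Type} [Field k] [CharP k p] [IsAlgClosed k]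

section deg

variable {Y : Type} [Group Y] {N : Type} [Fintype N] [DecidableEq N] {ρ : Y →* GL N k} {F : MulAut Y} {G : Subgroup Y}
  {D : Datum p ρ F G} {f : Fr D} [Fintype ↥(GF F G)] {w₀ : D.W} {Q : ℤ} {Ψ : G3 →* D.W} {c : Lbl D}

theorem deg_eq (h : Sc D w₀ Q) (hA : Api f) (E : Fm Ψ c) (hF : Fx D w₀ c)
    (hd : ∀ (a b : ℤ) γ, (a • D.Wm (Ψ γ) - b • 1).det = ∏ i, (a ^ 2 * nuZ 1 (cp γ i) - a * b * nuZ 2 (cp γ i) + b ^ 2))
    (ν : Fin 3) : cg f w₀ Ψ c (nu3 ν) 1 * (((Q ^ 2 - 1) * (Q ^ 3 - 1)) ^ 3 : ℤ) =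
      pc' p (GF F G) * (sgZ D w₀ * dq Q ν ^ 3 : ℤ) := by
  let d : S3 → ℤ := fun g => Q ^ 2 * nuZ 1 g - Q * 1 * nuZ 2 g + 1 ^ 2
  let e : S3 → ℤ := fun g => ∑ μ, dq Q μ * nuZ μ g
  have h0 : ∀ g, |d g| = nuZ 1 g * d g ∧ e g * d g = (Q ^ 2 - 1) * (Q ^ 3 - 1) ∧ nuZ 1 g ≠ 0 := fun g => by
    have h0 : ∀ g, nuZ 0 g = 1 ∧ (nuZ 1 g = 1 ∧ nuZ 2 g = 2 ∨ nuZ 1 g = -1 ∧ nuZ 2 g = 0 ∨ nuZ 1 g = 1 ∧ nuZ 2 g = -1) := by
      decide +kernel
    have h1 : 1 ≤ Q ∨ Q ≤ -1 := by have := h.dvd; omega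
    simp only [d, e, dq, Fin.sum_univ_three, cons_val_zero, cons_val_one, cons_val_two, head_cons, tail_cons]
    obtain ⟨h2, ⟨h3, h4⟩ | ⟨h3, h4⟩ | ⟨h3, h4⟩⟩ := h0 g <;> rw [h2, h3, h4] <;> refine ⟨?_, by ring, by decide⟩
    · rw [one_mul, abs_of_nonneg (by linarith only [sq_nonneg (Q - 1)])]
    · rw [neg_one_mul, abs_of_nonpos (by rcases h1 with h1 | h1 <;> nlinarith only [h1])]
    · rw [one_mul, abs_of_nonneg (by linarith only [sq_nonneg (Q + 1), _root_.sq_nonneg (Q + 1 : ℤ), _root_.sq_nonneg (Q : ℤ)])]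
  have h1 : ∀ γ, RW f (Ψ γ * w₀) c 1 * (((Q ^ 2 - 1) * (Q ^ 3 - 1)) ^ 3 : ℤ) =
      pc' p (GF F G) * sg D w₀ * (∏ i, e (cp γ i) : ℤ) := fun γ => by
    have h1 := hA.deg _ _ (hF.mul (E.rel γ))
    have h2 := hd Q 1 γ
    have h3 := hd 1 0 γ
    simp only [one_smul, zero_smul, sub_zero, one_pow, one_mul, mul_zero, zero_mul, add_zero, ne_eq, OfNat.ofNat_ne_zero,
      not_false_eq_true, zero_pow] at h3
    rw [one_smul] at h2
    rw [ordT, h.Wm_mul, mul_inv_cancel_right, h2, Nat.cast_natAbs, Finset.abs_prod,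
      Finset.prod_congr rfl fun i _ => (h0 _).1, Finset.prod_mul_distrib, sg_mul, sg, h3, Int.cast_mul, mul_left_comm,
      mul_assoc] at h1
    have h4 := mul_left_cancel₀ (Int.cast_ne_zero.2 (Finset.prod_ne_zero_iff.2 fun i _ => (h0 _).2.2)) h1
    rw [mul_comm _ (sg D w₀), ← h4, mul_assoc, ← Int.cast_mul, mul_comm (∏ _, _), ← Finset.prod_mul_distrib,
      Finset.prod_congr rfl fun i _ => (h0 _).2.1, Finset.prod_const, Finset.card_fin]
  have h2 : ∑ g, nu ν g * e g = 6 * dq Q ν := by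
    have h2 : ∀ ν ν' : Fin 3, ∑ g : S3, nuZ ν g * nuZ ν' g = if ν = ν' then 6 else 0 := by decide +kernel
    have h3 : ∑ g, nuZ ν g * e g = 6 * dq Q ν := by
      simp only [e, Finset.mul_sum, mul_left_comm (nuZ ν _)]
      rw [Finset.sum_comm]
      simp only [← Finset.mul_sum, h2]
      simp [mul_comm]
    simp only [nu]
    exact_mod_cast h3
  have h3 : ∀ γ, nu3 ν γ * (∏ i, e (cp γ i) : ℤ) = tn (fun g => nu ν g * e g) (fun g => nu ν g * e g) (fun g => nu ν g * e g) γ :=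
    fun γ => by simp [nu3, tn, cp, Fin.prod_univ_three]; ring
  simp only [cg_eq, Pi.smul_apply, Finset.sum_apply, smul_eq_mul, mul_assoc, Finset.sum_mul, h1, mul_left_comm (nu3 ν _), h3]
  simp only [tn, Fintype.sum_prod_type, ← Finset.mul_sum, ← Finset.sum_mul, h2, Nat.card_eq_fintype_card, Fintype.card_prod,
    Fintype.card_perm, Fintype.card_fin, Lie.sg_eq]
  norm_num only [Nat.factorial, _root_.Int.cast_mul, _root_.Int.cast_pow]
  ring

end deg

end F6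

open F6 EFr in
/-- **The frame of `E₆^ε`.** -/
theorem in6 {p : ℕ} [Fact p.Prime] {k : Type} [Field k] [CharP k p] [IsAlgClosed k] {Mx : Matrix (Fin 6) (Fin 6) ℤ}
    (hG6 : Gram6) (X : XF hpE6 p k Mx) (f : Fr X.D) [Fintype ↥(GF X.F ⊤)] [Fintype W6] {w₀ : X.D.W} {Q : ℤ}
    (h : Sc X.D w₀ Q) (hp : p ≠ 3) (hA : Api f) : Nonempty (In6 f w₀) := by
  obtain ⟨h1, h2⟩ := range_eq hpE6 Ps_inj (x := Jm 2 0) (fun γ => m3_iff.1 (by rw [Jm_Ps]; exact m3_Jm _ _ _))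
    (F6.le_index fun _ hv => m3_iff.2 hv) (by rw [card_W_E6]; simp only [Fintype.card_perm, Nat.factorial, _root_.Nat.card_eq_fintype_card, _root_.Fintype.card_prod, _root_.Fintype.card_fin, _root_.Nat.succ_eq_add_one, _root_.Nat.reduceAdd, _root_.zero_add, _root_.mul_one, _root_.Nat.reduceMul])
  have E := fm_of X Ps_inj h1
  have hF := fx_cx h (Jm 2 0)
  obtain ⟨r, hr⟩ := exists_rot
  obtain ⟨v, hv⟩ := exists_neg
  have h3 : _root_.Cfsg.Agent.DL.PP.Rel X.D r (cx X.D (Jm 2 0) om) (cx X.D (Jm 2 0) om * cx X.D (Jm 0 0 - Jm 2 0) om) :=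
    (cx_mul (D := X.D) _ _ om).symm ▸ (EFr.rel_iff X (x' := Jm 2 0 + (Jm 0 0 - Jm 2 0))).2 fun i => by
      rw [add_sub_cancel, show Jm 0 0 ᵥ* _ = _ from hr 2 0]; simp
  have h4 : ∀ γ : G3, Ps (γ.2.2, γ.1, γ.2.1) * r = r * Ps γ := fun γ => hr.conj fun i => by fin_cases i <;> rfl
  have h5 : ∀ a b e, Ty 0 a → Ty 0 b → Ty 1 e →
      IsGeneralizedCharacter _ (cg (D := X.D) f w₀ Ps (cx X.D (Jm 2 0) om) (tn a b e)) := by
    rintro _ _ _ ⟨s0, n0, a0, b0, rfl⟩ ⟨s1, n1, a1, b1, rfl⟩ ⟨s2, n2, a2, b2, rfl⟩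
    have h5 := (gen_lev X sy6 h hA E (mem_normalizer_prod b0 (mem_normalizer_prod b1 b2)) (x := xs ![s0, s1, s2])
      (m3_iff.1 (xs_m3 (by simpa only [_root_.Fin.isValue, _root_.Matrix.cons_val', _root_.Matrix.cons_val_fin_one, _root_.Matrix.cons_val_zero, _root_.sub_zero] using a0) (by simpa using a1) a2)) fun γ => ?_).1
    · exact (congrArg (fun φ => IsGeneralizedCharacter _ (cg (D := X.D) f w₀ Ps _ φ)) (funext fun γ =>
        (Phi_prod _ _ _ γ.1 _ γ.2).trans (congrArg _ (Phi_prod _ _ _ γ.2.1 _ γ.2.2)))).mp h5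
    · have e : ∀ s, Sf s = Sb s := fun s => Subgroup.ext fun _ => inv_mem_iff (H := Sb s)
      rw [EFr.fix_iff hpE6 sy6, mem_Sw, fix_Ps, e, e, e]
      rfl
  have hQ : Q ≠ 1 := fun e => ordT_ne (D := X.D) w₀ (by rw [h.ordT_eq, e]; rfl)
  refine ⟨⟨_, cx X.D (Jm 0 0 - Jm 2 0) om, Ps, MonoidHom.id _, E, fm_one, cube_cx _, cube_cx _, fun e => ?_,
    fun u => (EFr.rel_iff X).2 (m3_iff.1 (m3_cl u)), fun d hd => ?_, (congrArg _ (Wc_cx X _)).trans h2, ⟨r, h3, h4⟩,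
    ⟨v, ⟨fun γ => (γ.2.1, γ.1, γ.2.2), fun γ => (γ.2.1, γ.1, γ.2.2), fun _ => rfl, fun _ => rfl⟩, ?_,
      fun γ => hv.conj fun i => by fin_cases i <;> rfl, fun ν γ => mul_left_comm _ _ _⟩, gen_one X h hA hG6.norm,
    fun ⟨l, hl⟩ => rig h5 (fun a b e h6 => ?_) fun _ _ => ip_cg h E hF, fun ν => ?_⟩⟩
  · exact absurd ((cx_eq_iff (D := X.D)).1 (e.trans (cx_zero om).symm) (0 : Fin 6)) (by decide : ¬ (3 : ℤ) ∣ (Jm 0 0 - Jm 2 0 - 0) 0)
  · obtain ⟨t, h6, h7⟩ := inv_lab (d := d) fun i z => X.Wm_simple i ▸ hd _ z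
    obtain rfl : d = cx X.D (Jm 0 0 - Jm 2 0) om ^ t := funext h7
    interval_cases t
    exacts [.inl rfl, .inr (.inl (pow_one _)), .inr (.inr (eq_inv_of_mul_eq_one_left ((pow_succ _ 2).symm.trans (cube_cx _))))]
  · exact (cx_inv (D := X.D) _ om).symm ▸ (EFr.rel_iff X (x' := -Jm 2 0)).2 fun i => by
      rw [neg_vecMul, show Jm 2 0 ᵥ* _ = _ from hv 2 0]; simp
  · have h7 := cg_rel (f := f) (φ := tn a b e) h h3
      ⟨fun γ : G3 => (γ.2.2, γ.1, γ.2.1), fun γ => (γ.2.1, γ.2.2, γ.1), fun _ => rfl, fun _ => rfl⟩ h4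
    have h8 : tn b e a = _ := funext fun γ => (mul_rotate' (a γ.2.2) _ _).symm
    exact (congrArg _ ((congrArg _ h8).trans (h7.trans (funext (cg_twist hl))))).mpr
      (Characters.Brauer.isGeneralizedCharacter_mul (gen_of_char (Characters.Linear.isCharacter_hom l)) h6)
  · obtain ⟨m, hm⟩ := OddOrderCharacters.VChar.gen_apply_one (cong3 (P := (Sym.genL _).comap
      (cg (D := X.D) f w₀ Ps (cx X.D (Jm 2 0) om)).toAddMonoidHom) h5 ν ν ν).2
    have e1 : tn (nu ν) (nu ν) ((3 : ℤ) • nu ν) = (3 : ℂ) • nu3 ν := funext fun γ => by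
      simp only [tn, nu3, Pi.smul_apply, zsmul_eq_mul, smul_eq_mul, Int.cast_ofNat]
      ring
    rw [e1, LinearMap.toAddMonoidHom_coe, map_smul, Pi.smul_apply, smul_eq_mul] at hm
    have h6 := congrArg (3 * ·) (deg_eq h hA E hF (fun a b γ => Wm_eq hpE6 X _ ▸ det_Ps a b γ) ν)
    simp only [← mul_assoc, hm] at h6
    refine (arith (m := m) (x := sgZ X.D w₀ * dq Q ν ^ 3) (P := pc' p (GF X.F ⊤)) h.dvd hQ
      (fun e => not_dvd_pc' (p := p) _ (e ▸ dvd_zero p)) ?_ (fun h7 => ?_) (by rw [← mul_assoc]; exact_mod_cast h6)).imp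
      fun n h7 => ⟨mul_left_cancel₀ three_ne_zero (by rw [hm, h7.1]; push_cast; rfl), h7.2⟩
    · refine (congrArg (· 3) (Nat.factorization_ordCompl _ p)).trans ((Finsupp.erase_ne hp.symm).trans ((h.cardC hp).trans ?_))
      rw [h.ordT_eq, h.cw_top, Subgroup.card_top, show Nat.card X.D.W = _ from card_W_E6,
        show Fintype.card X.D.R = 6 from Fintype.card_fin 6]
    · have h8 := h.dvd
      refine (Int.prime_three.dvd_or_dvd h7).elim (by rcases sgZ_sign X.D w₀ with e | e <;> rw [e] <;> decide) fun h9 => ?_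
      have h9 := Int.prime_three.dvd_of_dvd_pow h9
      fin_cases ν
      · exact absurd h9 (by decide : ¬ (3 : ℤ) ∣ 1)
      · have := Int.prime_three.dvd_of_dvd_pow (show 3 ∣ Q ^ 3 from h9)
        omega
      · have := Int.prime_three.dvd_or_dvd (show 3 ∣ Q * (Q + 1) from (congrArg _ (by ring)).mp (show 3 ∣ Q ^ 2 + Q from h9))
        omega

end Cfsg.Agent.KZ.Exc

private theorem dce_103507b488ed : _root_.True := by
  try have : _root_.True := by simp only [_root_.Cfsg.Agent.KZ.Exc.F6.cp.eq_1]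
  try have : _root_.True := by simp only [_root_.Cfsg.Agent.KZ.Exc.nu3.eq_1]
  try have : _root_.True := by simp only [_root_.Cfsg.Agent.KZ.Exc.F6.ep.eq_1]
  try have : _root_.True := by simp only [_root_.Cfsg.Agent.KZ.Exc.F6.tn.eq_1]
  try have : _root_.True := by simp only [_root_.Cfsg.Agent.KZ.Exc.F6.dq.eq_1]
  exact _root_.True.intro
end

-- part: KZ/Exc/ELo6A
section
prune_inst 0x2200880000000000000000000000000004010000
set_option linter.all false
open scoped Cfsg.Agent.FastGrp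

/-!
# KZ, `E₆^ε`: four members and three triples, the general part (helper63)

* `disj`, `two_eq`, `exists_not_dvd` : generalized characters of norm at most two;
* `Fam` : four members and three triples of members of `S`, `Fam.lo`;
* `Src` : generalized characters of `G ^ F` which give such a family, `Src.fam`.
-/

set_option autoImplicit false
set_option linter.unusedSectionVars false

namespace Cfsg.Agent.KZ.Exc.Lo6

open Cfsg Cfsg.Agent.DL Cfsg.Agent.DL.PP Cfsg.Agent.KZ.Lie Cfsg.Agent.Characters.Core Cfsg.Agent.KZ.Red Cfsg.Agent.KZ.Res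
  Cfsg.Agent.CharactersDeep.AbelianQuotient
open scoped ComplexConjugate

/-! ### integer vectors -/

section Int

variable {ι : Type} [Fintype ι]

theorem sq_le (a : ι → ℤ) (s : Finset ι) : ∑ i ∈ s, a i * a i ≤ ∑ i, a i * a i :=
  Finset.sum_le_sum_of_subset_of_nonneg (Finset.subset_univ s) fun _ _ _ => mul_self_nonneg _

theorem one_le_sq {x : ℤ} (h : x ≠ 0) : 1 ≤ x * x := mul_self_pos.2 h

theorem two_eq_int {a : ι → ℤ} (h : ∑ i, a i * a i ≤ 2) {i j k : ι} (hi : a i ≠ 0) (hj : a j ≠ 0) (hk : a k ≠ 0) :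
    i = j ∨ i = k ∨ j = k := by
  classical
  by_contra hn
  push Not at hn
  have h1 := sq_le a {i, j, k}
  rw [Finset.sum_insert (by simp [hn.1, hn.2.1]), Finset.sum_pair hn.2.2] at h1
  have := one_le_sq hi
  have := one_le_sq hj
  have := one_le_sq hk
  omega

theorem even_of {a t : ι → ℤ} (h : ∑ i, a i * a i ≤ 4) {i : ι} (hi : a i = 2 ∨ a i = -2) : 2 ∣ ∑ j, t j * a j := by
  classical
  refine Finset.dvd_sum fun j _ => Dvd.dvd.mul_left ?_ _
  by_cases hj : i = j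
  · subst hj
    rcases hi with e | e <;> simp [e]
  · by_contra h1
    have h2 := sq_le a {i, j}
    rw [Finset.sum_pair hj] at h2
    have := one_le_sq (x := a j) fun e => h1 (e ▸ dvd_zero 2)
    rcases hi with e | e <;> rw [e] at h2 <;> omega

theorem disj_int {a b t : ι → ℤ} (ha : ∑ i, a i * a i ≤ 2) (hb : ∑ i, b i * b i ≤ 2) (hab : ∑ i, a i * b i = 0)
    (h1 : ∑ i, t i * a i = 0) (h2 : ¬ 2 ∣ ∑ i, t i * b i) (i : ι) : a i = 0 ∨ b i = 0 := by
  by_contra hn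
  push Not at hn
  have h3 : ∀ {c : ι → ℤ}, ∑ i, c i * c i ≤ 2 → c i ≠ 0 → c i = 1 ∨ c i = -1 := fun {c} h h0 => by
    have h4 := sq_le c {i}
    rw [Finset.sum_singleton] at h4
    have h5 : c i ≤ 1 := by nlinarith
    have h6 : -1 ≤ c i := by nlinarith
    omega
  have h4 : ∀ ε : ℤ, ε * ε = 1 → (ε * a i + b i = 2 ∨ ε * a i + b i = -2) → False := fun ε hε h => by
    have h5 := even_of (a := fun j => ε * a j + b j) (t := t) (by
      have e : ∑ j, (ε * a j + b j) * (ε * a j + b j) =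
          ε * ε * ∑ j, a j * a j + 2 * ε * ∑ j, a j * b j + ∑ j, b j * b j := by
        simp only [Finset.mul_sum, ← Finset.sum_add_distrib]
        exact Finset.sum_congr rfl fun _ _ => by ring
      rw [e, hε, hab]
      omega) h
    have e : ∑ j, t j * (ε * a j + b j) = ε * ∑ j, t j * a j + ∑ j, t j * b j := by
      simp only [Finset.mul_sum, ← Finset.sum_add_distrib]
      exact Finset.sum_congr rfl fun _ _ => by ring
    rw [e, h1, mul_zero, zero_add] at h5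
    exact h2 h5
  rcases h3 ha hn.1 with e | e <;> rcases h3 hb hn.2 with e' | e'
  exacts [h4 1 rfl (by omega), h4 (-1) rfl (by omega), h4 (-1) rfl (by omega), h4 1 rfl (by omega)]

end Int

/-! ### generalized characters -/

section Gen

variable {H : Type} [Group H] [Fintype H] {u v t : H → ℂ}

theorem exists_co [Fintype (IrrCharacter H)] : ∃ co : (H → ℂ) → IrrCharacter H → ℤ,
    (∀ v, IsGeneralizedCharacter H v → ∀ χ, classInner v χ.1 = co v χ) ∧
    ∀ u v, IsGeneralizedCharacter H u → IsGeneralizedCharacter H v → classInner u v = (∑ χ, co u χ * co v χ : ℤ) := by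
  classical
  let co : (H → ℂ) → IrrCharacter H → ℤ := fun v =>
    if h : IsGeneralizedCharacter H v then (isGeneralizedCharacter_iff.1 h).choose else 0
  have h1 : ∀ v, IsGeneralizedCharacter H v → v = ∑ χ : IrrCharacter H, (co v χ : ℂ) • χ.1 := fun v h => by
    simp only [co, dif_pos h, Int.cast_smul_eq_zsmul]
    exact (isGeneralizedCharacter_iff.1 h).choose_spec
  refine ⟨co, fun v h χ => ?_, fun u v hu hv => ?_⟩
  · nth_rewrite 1 [h1 v h]
    exact classInner_sum_smul_irr _ χ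
  · nth_rewrite 1 [h1 u hu, h1 v hv]
    rw [classInner_sum_smul_sum_smul]
    simp

theorem two_eq (hv : IsGeneralizedCharacter H v) {n : ℤ} (h : classInner v v = n) (hn : n ≤ 2) {a b c : IrrCharacter H}
    (ha : classInner v a.1 ≠ 0) (hb : classInner v b.1 ≠ 0) (hc : classInner v c.1 ≠ 0) : a = b ∨ a = c ∨ b = c := by
  have := @Fintype.ofFinite _ (finite_irr (G := H))
  obtain ⟨co, h1, h2⟩ := exists_co (H := H)
  rw [h2 v v hv hv, Int.cast_inj] at h
  rw [h1 v hv, Int.cast_ne_zero] at ha hb hc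
  exact two_eq_int (h.le.trans hn) ha hb hc

theorem disj (hu : IsGeneralizedCharacter H u) (hv : IsGeneralizedCharacter H v) (ht : IsGeneralizedCharacter H t)
    {m n o : ℤ} (h : classInner u u = m) (hm : m ≤ 2) (h' : classInner v v = n) (hn : n ≤ 2) (huv : classInner u v = 0)
    (htu : classInner t u = 0) (htv : classInner t v = o) (ho : ¬ 2 ∣ o) {χ : IrrCharacter H}
    (h3 : classInner u χ.1 ≠ 0) (h4 : classInner v χ.1 ≠ 0) : False := by
  have := @Fintype.ofFinite _ (finite_irr (G := H))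
  obtain ⟨co, h1, h2⟩ := exists_co (H := H)
  rw [h2 _ _ hu hu, Int.cast_inj] at h
  rw [h2 _ _ hv hv, Int.cast_inj] at h'
  rw [h2 _ _ hu hv, Int.cast_eq_zero] at huv
  rw [h2 _ _ ht hu, Int.cast_eq_zero] at htu
  rw [h2 _ _ ht hv, Int.cast_inj] at htv
  rw [h1 _ hu, Int.cast_ne_zero] at h3
  rw [h1 _ hv, Int.cast_ne_zero] at h4
  exact (disj_int (h.le.trans hm) (h'.le.trans hn) huv htu (htv ▸ ho) χ).elim h3 h4

theorem exists_not_dvd (hv : IsGeneralizedCharacter H v) (ht : IsGeneralizedCharacter H t) {m : ℤ}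
    (h : classInner v t = m) (hm : ¬ 3 ∣ m) :
    ∃ χ : IrrCharacter H, classInner v χ.1 ≠ 0 ∧ ∃ z : ℤ, classInner χ.1 t = z ∧ ¬ 3 ∣ z := by
  have := @Fintype.ofFinite _ (finite_irr (G := H))
  obtain ⟨co, h1, h2⟩ := exists_co (H := H)
  rw [h2 _ _ hv ht, Int.cast_inj] at h
  by_contra hn
  push Not at hn
  refine hm (h ▸ Finset.dvd_sum fun χ _ => ?_)
  by_cases h3 : co v χ = 0
  · rw [h3, zero_mul]
    exact dvd_zero 3
  · refine Dvd.dvd.mul_left (hn χ (by rwa [h1 v hv, Int.cast_ne_zero]) _ ?_) _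
    rw [← classInner_conj_symm, h1 t ht, map_intCast]

theorem gen_lin (l : H →* ℂˣ) (hv : IsGeneralizedCharacter H v) : IsGeneralizedCharacter H ((fun g => (l g : ℂ)) * v) :=
  Characters.Brauer.isGeneralizedCharacter_mul
    (Characters.Brauer.isGeneralizedCharacter_of_isCharacter (Characters.Linear.isCharacter_hom l)) hv

end Gen

/-! ### the count -/

section Count

variable {M : Ideal AlgInt}

/-- the coarse index -/
def cs : Fin 4 ⊕ Fin 3 × Fin 3 → Fin 4 ⊕ Fin 3 := Sum.map id Prod.fst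

/-- four members and three triples -/
structure Fam (M : Ideal AlgInt) (S : Type) [Group S] where
  ψ : Fin 4 ⊕ Fin 3 × Fin 3 → IrrCharacter S
  mem : ∀ j, Mem M (ψ j)
  inj : ∀ i, Function.Injective fun t => ψ (.inr (i, t))
  sim : ∀ (σ : MulAut S) j j', (∀ x, (ψ j).1 (σ x) = (ψ j').1 x) → cs j = cs j'
  perm : ∀ (σ : MulAut S) i t, ∃ t', ∀ x, (ψ (.inr (i, t))).1 (σ x) = (ψ (.inr (i, t'))).1 x
  fix : ∀ (σ : MulAut S) (s : S), σ ^ 3 = MulAut.conj s → ∀ i, Fixes σ (ψ (.inl i))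

namespace Fam

variable {S : Type} [Group S] [Finite S] (E : Fam M S)

include E in
theorem p4 : P4 M S :=
  p4_of_fam (fun i : Fin 4 => E.ψ (.inl i)) (by simp) (fun _ => E.mem _)
    (fun i j e => Sum.inl_injective (E.sim 1 (.inl i) (.inl j) fun x => congrFun (congrArg Subtype.val e) x)) E.fix

theorem exists_perm (σ : MulAut S) (i : Fin 3) : ∃ a : Fin 3 → Fin 3, Function.Injective a ∧
    ∀ t x, (E.ψ (.inr (i, t))).1 (σ x) = (E.ψ (.inr (i, a t))).1 x := by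
  choose a h using E.perm σ i
  refine ⟨a, fun t t' e => E.inj i (Subtype.ext (funext fun x => ?_)), h⟩
  obtain ⟨x, rfl⟩ := σ.surjective x
  show (E.ψ (.inr (i, t))).1 (σ x) = (E.ψ (.inr (i, t'))).1 (σ x)
  rw [h, h, e]

/-- transport -/
def congr (hM : IsPModular 3 M) {T : Type} [Group T] [Finite T] (e : T ≃* S) : Fam M T where
  ψ j := tr e (E.ψ j)
  mem j := (mem_tr hM e).2 (E.mem j)
  inj i := (tr e).injective.comp (E.inj i)
  sim σ j j' h := E.sim (MulAut.congr e σ) j j' fun y => by simpa [tr_apply] using h (e.symm y)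
  perm σ i t := (E.perm (MulAut.congr e σ) i t).imp fun t' h x => by simpa [tr_apply] using h (e x)
  fix σ s h i := (fixes_tr e).2 (E.fix _ (e s) (by rw [← map_pow, h, congr_conj]) i)

end Fam

theorem ten_le_of_fam {A : Type} [Group A] [Finite A] {N : Subgroup A} [N.Normal] (hM : IsPModular 3 M)
    (h3 : ¬ 3 ∣ N.index) (E : Fam M ↥N) : 10 ≤ k0 M A := by
  have key : ∀ (i : Fin 3) (g : A) (a : Fin 3 → Fin 3),
      (∀ t x, (E.ψ (.inr (i, t))).1 (MulAut.conjNormal g x) = (E.ψ (.inr (i, a t))).1 x) → a (a (a 0)) = 0 → a 0 = 0 :=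
    fun i g a h e => by
    have h1 : Fixes (MulAut.conjNormal g : MulAut ↥N) (E.ψ (.inr (i, 0))) :=
      fixes_of_cube h3 (s := ⟨g ^ N.index, N.pow_index_mem g⟩) (by rw [← map_pow, ← conjNormal_coe]) fun x => by
        rw [pow_three, MulAut.mul_apply, MulAut.mul_apply, h, h, h, e]
    exact E.inj i (Subtype.ext (funext fun x => (h 0 x).symm.trans (h1 x)))
  have h1 : ∀ i : Fin 3, ∃ t, ¬ GConj N (E.ψ (.inr (i, 0))) (E.ψ (.inr (i, t))) := fun i => by
    by_contra hn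
    push Not at hn
    obtain ⟨g, hg⟩ := hn 1
    obtain ⟨g', hg'⟩ := hn 2
    obtain ⟨a, ha, h1⟩ := E.exists_perm (MulAut.conjNormal g) i
    obtain ⟨b, hb, h2⟩ := E.exists_perm (MulAut.conjNormal g') i
    have e1 : a 0 = 1 := E.inj i (Subtype.ext (funext fun x => (h1 0 x).symm.trans (hg x)))
    have e2 : b 0 = 2 := E.inj i (Subtype.ext (funext fun x => (h2 0 x).symm.trans (hg' x)))
    rcases ClD.cyc3 a b ha hb e1 e2 with h | h | ⟨h, h'⟩
    · exact absurd ((key i g a h1 h).symm.trans e1) (by decide)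
    · exact absurd ((key i g' b h2 h).symm.trans e2) (by decide)
    · exact h (key i (g * g') (fun t => b (a t)) (fun t x => by rw [map_mul, MulAut.mul_apply, h1, h2]) h')
  choose t h1 using h1
  let ι : Fin 4 ⊕ Fin 3 × Bool → Fin 4 ⊕ Fin 3 × Fin 3 := Sum.map id fun j => (j.1, if j.2 then t j.1 else 0)
  have := orb' hM h3 (fun j => E.ψ (ι j)) (fun _ => E.mem _) fun i j h => by
    obtain ⟨g, hg⟩ := id h
    have h2 := E.sim _ _ _ hg
    rcases i with i | ⟨i, b⟩ <;> rcases j with j | ⟨j, b'⟩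
    · exact congrArg _ (Sum.inl_injective h2)
    · exact absurd h2 Sum.inl_ne_inr
    · exact absurd h2 Sum.inr_ne_inl
    · obtain rfl : i = j := Sum.inr_injective h2
      cases b <;> cases b'
      · rfl
      · exact absurd h (h1 i)
      · exact absurd (gconj_symm h) (h1 i)
      · rfl
  simpa using this

theorem lo_of_fam {S : Type} [Group S] [Finite S] (h : ∀ M, IsPModular 3 M → Nonempty (Fam M S)) : Lo S := by
  rintro M hM A _ _ N h1 ⟨e⟩ (h2 | h2) <;> have := h1.normal <;> obtain ⟨E⟩ := h M hM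
  · exact ten_le_of_fam hM h2 (E.congr hM e)
  · exact le_trans (by decide) (twelve_le hM h1.cent h2 (E.congr hM e).p4)

theorem fixes_of_two {S : Type} [Group S] {σ : MulAut S} {s : S} (h : σ ^ 3 = MulAut.conj s) {ψ : IrrCharacter S}
    (h1 : (∀ x, ψ.1 x = ψ.1 (σ x)) ∨ (∀ x, ψ.1 x = ψ.1 ((σ * σ) x)) ∨ ∀ x, ψ.1 (σ x) = ψ.1 ((σ * σ) x)) : Fixes σ ψ := by
  rcases h1 with h1 | h1 | h1
  · exact fun x => (h1 x).symm
  · intro x
    rw [h1 (σ x), ← MulAut.mul_apply, ← pow_three', h]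
    exact fixes_conj s ψ x
  · intro x
    obtain ⟨y, rfl⟩ := σ.surjective x
    exact (h1 y).symm

end Count

/-! ### the source -/

variable {p : ℕ} [Fact p.Prime] {k : Type} [Field k] [CharP k p] {Y : Type} [Group Y] {N : Type} [Fintype N]
  [DecidableEq N] {ρ : Y →* GL N k} {F : MulAut Y} {G : Subgroup Y} [IsAlgClosed k] {D : Datum p ρ F G}
  {f : Fr D} [Fintype ↥(GF F G)] {Adm : Matrix D.R D.R ℤ → Prop} {S : Type} [Group S] {w₀ : D.W} {Q : ℤ}

theorem exists_mS (hA : Api f) (w₀ : D.W) :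
    ∃ r, IsGeneralizedCharacter ↥(GF F G) r ∧ ∀ χ, mS f w₀ χ = classInner χ r := by
  classical
  have : Finite {c : Lbl D // Fx D w₀ c} := Nat.finite_of_card_ne_zero (by rw [hA.card]; exact ordT_ne w₀)
  have h1 : {c : Lbl D | Fx D w₀ c}.Finite := this
  refine ⟨∑ c ∈ h1.toFinset.filter (Is3 D), RW f w₀ c, (Sym.genL _).sum_mem fun c _ => hA.gen w₀ c, fun χ => ?_⟩
  rw [Lie.mS, classInner_sum_right, Finset.sum_filter, finsum_eq_sum_of_support_subset (s := h1.toFinset)]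
  · exact Finset.sum_congr rfl fun c _ => finsum_eq_if
  · intro c hc
    by_contra h2
    exact hc (by simp [hA.zero w₀ c (by simpa using h2), classInner_zero_right])

variable (f w₀) in
/-- generalized characters of `G ^ F` of norm at most two -/
structure Src (s : Sit D Adm S) where
  v : Fin 4 ⊕ Fin 3 → ↥(GF F G) → ℂ
  t : Fin 4 ⊕ Fin 3 → ↥(GF F G) → ℂ
  gen : ∀ j, IsGeneralizedCharacter _ (v j)
  gen' : ∀ j, IsGeneralizedCharacter _ (t j)
  norm : ∀ j, ∃ n : ℤ, classInner (v j) (v j) = n ∧ n ≤ 2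
  odd : ∀ j, ∃ n : ℤ, classInner (t j) (v j) = n ∧ ¬ 2 ∣ n
  aut : ∀ α A (h : Au D α A), Adm A → ∀ j g, v j (h.aut g) = v j g
  orth : ∀ l : Lin s.H1, ∀ i j, (i ≠ j ∨ (l.1 ≠ 1 ∧ i.isLeft)) →
    classInner ((fun g => (l.1 g : ℂ)) * v i) (v j) = 0 ∧ classInner (t j) ((fun g => (l.1 g : ℂ)) * v i) = 0
  ms : ∀ i, ∃ m : ℤ, mS f w₀ (v (.inl i)) = m ∧ ¬ 3 ∣ m
  one : ∀ i, classInner (v (.inr i)) (v (.inr i)) = 1
  tw : ∀ l : Lin s.H1, ∀ i g, l.1 g * v (.inr i) g = v (.inr i) g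
  deg : ∀ i, ∃ n : ℤ, v (.inr i) 1 = n ∧ ¬ 9 ∣ n

namespace Src

variable {s : Sit D Adm S} (E : Src f w₀ s) {M : Ideal AlgInt}

theorem sep (l : Lin s.H1) {i j : Fin 4 ⊕ Fin 3} (h : i ≠ j ∨ (l.1 ≠ 1 ∧ i.isLeft)) {χ χ' : IrrCharacter ↥(GF F G)}
    (h1 : classInner (E.v i) χ.1 ≠ 0) (h2 : classInner (E.v j) χ'.1 ≠ 0) (e : ∀ g, χ'.1 g = l.1 g * χ.1 g) : False := by
  obtain ⟨m, h3, h4⟩ := E.norm i
  obtain ⟨n, h5, h6⟩ := E.norm j
  obtain ⟨o, h7, h8⟩ := E.odd j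
  refine disj (gen_lin l.1 (E.gen i)) (E.gen j) (E.gen' j) ((classInner_linear_mul _ _ _).trans h3) h4 h5 h6
    (E.orth l i j h).1 (E.orth l i j h).2 h7 h8 ?_ h2
  rwa [show χ'.1 = (fun g => (l.1 g : ℂ)) * χ.1 from funext e, classInner_linear_mul]

theorem ip_aut {α : MulAut Y} {A : Matrix D.R D.R ℤ} (h : Au D α A) (hA : Adm A) (j : Fin 4 ⊕ Fin 3)
    (χ : IrrCharacter ↥(GF F G)) : classInner (E.v j) (tr h.aut χ).1 = classInner (E.v j) χ.1 := by
  rw [← Characters.Clifford.classInner_comp_mulEquiv h.aut (E.v j) χ.1,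
    show E.v j ∘ h.aut = E.v j from funext (E.aut α A h hA j)]
  rfl

include E in
theorem fam (hA : Api f) (h : Sca s w₀ Q) (hG : Gp6 s) (hM : IsPModular 3 M) : Nonempty (Fam M S) := by
  have := s.finite
  have := s.normal
  have hz : ∀ (χ : IrrCharacter ↥(GF F G)) (z : ↥s.H0), s.π z = 1 → χ.1 ⟨z, s.le z.2⟩ = χ.1 1 := fun χ z e => by
    obtain rfl : z = 1 := h.inj (e.trans (map_one _).symm)
    rfl
  have h1 : ∀ i, ∃ (χ : IrrCharacter ↥(GF F G)) (ψ : IrrCharacter S), classInner (E.v (.inl i)) χ.1 ≠ 0 ∧ Mem M ψ ∧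
      s.Dn χ ψ := fun i => by
    obtain ⟨r, h1, h2⟩ := exists_mS hA w₀
    obtain ⟨m, h3, h4⟩ := E.ms i
    obtain ⟨χ, h5, z, h6, h7⟩ := exists_not_dvd (E.gen _) h1 ((h2 _).symm.trans h3) h4
    obtain ⟨ψ, h8⟩ := s.desc hM (((h.sc.mc f h.hp).all h.sc.regC M hM χ z ((h2 _).trans h6)).2 h7) (hz χ)
      fun l hl e => by_contra fun h8 => E.sep ⟨l, s.lin_iff.1 hl⟩ (.inr ⟨h8, rfl⟩) h5 h5 fun g => (e g).symm
    exact ⟨χ, ψ, h5, h8⟩
  have h2 : ∀ i, ∃ (χ : IrrCharacter ↥(GF F G)) (ψ : Fin 3 → IrrCharacter S), classInner (E.v (.inr i)) χ.1 ≠ 0 ∧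
      (∀ χ' : IrrCharacter ↥(GF F G), classInner (E.v (.inr i)) χ'.1 ≠ 0 → χ' = χ) ∧ Function.Injective ψ ∧
      (∀ x : ↥s.H0, χ.1 ⟨x, s.le x.2⟩ = ∑ t, (ψ t).1 (s.π x)) ∧ ∀ t, s.Ov χ (ψ t) ∧ Mem M (ψ t) := fun i => by
    obtain ⟨χ, ε, h1, h2⟩ : ∃ (χ : IrrCharacter ↥(GF F G)) (ε : ℤ), (ε = 1 ∨ ε = -1) ∧ E.v (.inr i) = (ε : ℂ) • χ.1 := by
      rcases isIrr_of_generalized (E.gen _) (E.one i) with h | h
      · exact ⟨⟨_, h⟩, 1, .inl rfl, by simp⟩
      · exact ⟨⟨_, h⟩, -1, .inr rfl, by simp⟩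
    have hε : (ε : ℂ) ≠ 0 := by rcases h1 with rfl | rfl <;> simp
    obtain ⟨ψ, h3, h4, h5⟩ := s.split3 (hz χ) (by
      rw [← hG.idx, ← card_lin s.comm1]
      refine Nat.card_congr (Equiv.subtypeEquivRight fun l => ⟨fun hl => s.lin_iff.1 hl.1, fun hl =>
        ⟨s.lin_iff.2 hl, fun g => mul_left_cancel₀ hε ?_⟩⟩)
      have h3 := E.tw ⟨l, hl⟩ i g
      rwa [h2, Pi.smul_apply, smul_eq_mul, mul_left_comm] at h3)
    refine ⟨χ, ψ, ?_, fun χ' h6 => ?_, h3, h4, fun t => ⟨(h5 t).1, ?_⟩⟩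
    · rwa [h2, classInner_smul_left, classInner_irr_self χ.2, mul_one]
    · by_contra h7
      rw [h2, classInner_smul_left, classInner_irr_ne χ.2 χ'.2 fun e => h7 (Subtype.ext e.symm), mul_zero] at h6
      exact h6 rfl
    · obtain ⟨P⟩ : Nonempty (Sylow 3 S) := inferInstance
      refine Tool.mem_of_cent hM P (hG.cent P) fun h6 => ?_
      obtain ⟨n, h7, h8⟩ := E.deg i
      rw [h2, Pi.smul_apply, smul_eq_mul, Blocks.Basic.irr_one_eq_charDegree χ.2, ← (h5 t).2] at h7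
      have h9 : ε * (3 * charDegree (ψ t).1 : ℕ) = n := by exact_mod_cast h7
      obtain ⟨a, ha⟩ := h6
      exact h8 ⟨ε * a, by rw [← h9, ha]; push_cast; ring⟩
  choose χ ψ h1 h3 h4 using h1
  choose χ' ψ' h2 h5 h6 h7 h8 using h2
  have h9 : ∀ j : Fin 4 ⊕ Fin 3 × Fin 3, classInner (E.v (cs j)) (Sum.elim χ χ' (cs j)).1 ≠ 0 ∧
      s.Ov (Sum.elim χ χ' (cs j)).1 (Sum.elim ψ (fun j => ψ' j.1 j.2) j).1 := by
    rintro (i | ⟨i, t⟩)
    exacts [⟨h1 i, (h4 i).ov⟩, ⟨h2 i, (h8 i t).1⟩]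
  refine ⟨⟨Sum.elim ψ fun j => ψ' j.1 j.2, ?_, h6, fun σ j j' e => ?_, fun σ i t => ?_, fun σ x e i => ?_⟩⟩
  · rintro (i | ⟨i, t⟩)
    exacts [h3 i, (h8 i t).2]
  · obtain ⟨α, A, a, ha, -, h10⟩ := s.exists_aut σ
    have h11 := h10 _ _ (h9 j).2
    rw [funext e] at h11
    obtain ⟨l, hl, h12⟩ := Sit.Ov.twist (χ := tr a.aut _) h11 (h9 j').2
    by_contra hn
    exact E.sep ⟨l, s.lin_iff.1 hl⟩ (.inl hn) (by rw [E.ip_aut a ha]; exact (h9 j).1) (h9 j').1 h12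
  · obtain ⟨α, A, a, ha, -, h10⟩ := s.exists_aut σ
    have h11 : s.Ov (tr a.aut (χ' i)).1 (tr σ (ψ' i t)).1 := h10 _ _ (h8 i t).1
    rw [h5 i (tr a.aut (χ' i)) (by rw [E.ip_aut a ha]; exact h2 i), s.ov_iff] at h11
    have := Fintype.ofFinite ↥s.H1
    rw [Res.over_iff, show (fun n : ↥s.H1 => (χ' i).1 n) = ∑ t, (pull s.π1 s.π1_surj (ψ' i t)).1 from
      funext fun n => (h7 i ⟨n.1, n.2⟩).trans (by rw [Finset.sum_apply]; rfl), classInner_sum_left] at h11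
    obtain ⟨t', -, h12⟩ := Finset.exists_ne_zero_of_sum_ne_zero h11
    have h13 : ψ' i t' = tr σ (ψ' i t) := pull_inj _ s.π1_surj (by_contra fun h13 =>
      h12 (classInner_irr_ne (pull _ _ _).2 (pull _ _ _).2 fun e => h13 (Subtype.ext e)))
    exact ⟨t', fun x => (congrFun (congrArg Subtype.val h13) x).symm⟩
  · obtain ⟨α, A, a, ha, h10, -⟩ := s.exists_aut σ
    obtain ⟨α', A', a', ha', h11, -⟩ := s.exists_aut (σ * σ)
    obtain ⟨n, h12, h13⟩ := E.norm (.inl i)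
    have h14 : s.Dn (tr a.aut (χ i)).1 _ := h10 _ _ (h4 i)
    have h15 : s.Dn (tr a'.aut (χ i)).1 _ := h11 _ _ (h4 i)
    refine fixes_of_two e ((two_eq (E.gen _) h12 h13 (h1 i) (b := tr a.aut (χ i)) (c := tr a'.aut (χ i))
      (by rw [E.ip_aut a ha]; exact h1 i) (by rw [E.ip_aut a' ha']; exact h1 i)).imp (fun e => ?_)
      (Or.imp (fun e => ?_) fun e => ?_))
    · exact congrFun ((h4 i).unique (e ▸ h14))
    · exact congrFun ((h4 i).unique (e ▸ h15))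
    · exact congrFun (h14.unique (e ▸ h15))

end Src

end Cfsg.Agent.KZ.Exc.Lo6
end

-- part: KZ/Exc/ELo6
section
prune_inst 0x2200880000000000000000000000000004010000
set_option linter.all false
open scoped Cfsg.Agent.FastGrp

/-!
# KZ, `E₆^ε` with `3 ∣ q - ε`: the lower bound (helper63)

`lo6` : four unipotent members which restrict irreducibly to `S`, and three members of the series of the label `c` which
split into three constituents.
-/

set_option autoImplicit false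
set_option linter.unusedSectionVars false

namespace Cfsg.Agent.KZ.Exc

open Cfsg Cfsg.Agent.DL Cfsg.Agent.DL.PP Cfsg.Agent.KZ.Lie Cfsg.Agent.Characters.Core Cfsg.Agent.KZ.Red Cfsg.Agent.KZ.Res
  Cfsg.Agent.CharactersDeep.AbelianQuotient
open scoped ComplexConjugate

namespace Lo6

/-! ### the functions on `W(E₆)` -/

/-- type or dual -/
def bb : Fin 4 → Bool := ![false, true, false, true]

/-- the coefficient -/
def ee : Fin 4 → ℤ := ![0, 0, 1, 1]

/-- the index of the leading term -/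
def aa (n : Fin 8) (i : Fin 4) : Fin 8 × Bool := (if ee i = 0 then 0 else n, bb i)

/-- the functions -/
noncomputable def uu (n : Fin 8) (i : Fin 4) : W6 → ℂ := ph6 (aa n i) - (ee i : ℂ) • ph6 (0, bb i)

/-- the inner products -/
def ipZ (n m : Fin 8) (i j : Fin 4) : ℤ := G6 (aa n i) (aa m j) - ee i * G6 (0, bb i) (aa m j) -
  ee j * (G6 (aa n i) (0, bb j) - ee i * G6 (0, bb i) (0, bb j))

theorem uu_class (n : Fin 8) (i : Fin 4) : IsClassFunction W6 (uu n i) := fun g v => by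
  simp only [uu, Pi.sub_apply, Pi.smul_apply, ph_class _ _ _ _ g v]

theorem ip_uu [Fintype W6] (hg : Gram6) (n m : Fin 8) (i j : Fin 4) : classInner (uu n i) (uu m j) = ipZ n m i j := by
  simp only [uu, ipZ, classInner_sub_left, classInner_sub_right, classInner_smul_left, classInner_smul_right, hg.ip,
    map_intCast]
  push_cast
  ring

theorem uu_one (hg : Gram6) (i : Fin 4) : uu 1 i 1 = (d6 (aa 1 i).1 - ee i * d6 0 : ℤ) := by
  simp only [uu, Pi.sub_apply, Pi.smul_apply, hg.one, smul_eq_mul]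
  push_cast
  rfl

theorem tab : ∀ i : Fin 4, ipZ 1 1 i i ≤ 2 ∧ ¬ 2 ∣ ipZ 2 1 i i ∧ ¬ 3 ∣ d6 (aa 1 i).1 - ee i * d6 0 ∧
    ∀ j, i ≠ j → ipZ 1 1 i j = 0 ∧ ipZ 2 1 j i = 0 := by decide +kernel

theorem zpow_cube {X : Type} [Group X] {c : X} (h : c ^ 3 = 1) {n : ℤ} (hn : ¬ 3 ∣ n) : c ^ n = c ∨ c ^ n = c⁻¹ := by
  have h3 : ∀ m : ℤ, c ^ (3 * m) = 1 := fun m => by rw [zpow_mul, zpow_ofNat, h, one_zpow]
  rcases (by omega : 3 ∣ n - 1 ∨ 3 ∣ n + 1) with ⟨m, hm⟩ | ⟨m, hm⟩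
  · exact .inl (by rw [show n = 3 * m + 1 by omega, zpow_add_one, h3, one_mul])
  · exact .inr (by rw [show n = 3 * m - 1 by omega, zpow_sub_one, h3, one_mul])

/-! ### the generalized characters -/

variable {p : ℕ} [Fact p.Prime] {k : Type} [Field k] [CharP k p] {Y : Type} [Group Y] {N : Type} [Fintype N]
  [DecidableEq N] {ρ : Y →* GL N k} {F : MulAut Y} {G : Subgroup Y} [IsAlgClosed k] {D : Datum p ρ F G}
  {f : Fr D} [Fintype ↥(GF F G)] {Adm : Matrix D.R D.R ℤ → Prop} {S : Type} [Group S] {w₀ : D.W} {Q : ℤ} [Fintype W6]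
  (I : In6 f w₀) {s : Sit D Adm S}

/-- the unipotent functions -/
noncomputable def xx (n : Fin 8) (i : Fin 4) : ↥(GF F G) → ℂ := cg f w₀ I.Ψ' 1 (uu n i)

/-- the functions of the label `c` -/
noncomputable def yy (ν : Fin 3) : ↥(GF F G) → ℂ := cg f w₀ I.Ψ I.c (nu3 ν)

theorem gen_xx (n : Fin 8) (i : Fin 4) : IsGeneralizedCharacter ↥(GF F G) (xx I n i) := by
  rw [xx, uu, map_sub, map_smul, Int.cast_smul_eq_zsmul]
  exact (Sym.genL _).sub_mem (I.gen' _) ((Sym.genL _).zsmul_mem (I.gen' _) _)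

theorem c_ne : I.c ≠ 1 := fun e => by
  have h := I.idx
  rw [e, ClA.Wc_one, Subgroup.index_top] at h
  omega

theorem ip_xy (n : Fin 8) (i : Fin 4) (ν : Fin 3) : classInner (xx I n i) (yy I ν) = 0 := ip_cg_ne (c_ne I)

theorem ip_yx (n : Fin 8) (i : Fin 4) (ν : Fin 3) : classInner (yy I ν) (xx I n i) = 0 := by
  rw [← classInner_conj_symm, ip_xy, map_zero]

theorem ip_tw (hA : Api f) (l : Lin s.H1) (hl : l.1 ≠ 1) (n m : Fin 8) (i j : Fin 4) :
    classInner (xx I m j) ((fun g => (l.1 g : ℂ)) * xx I n i) = 0 := by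
  obtain ⟨d, -, -, -, h1, h2⟩ := s.exists_lbl hA (s.lin_iff.2 l.2)
  rw [show (fun g => (l.1 g : ℂ)) * xx I n i = cg f w₀ I.Ψ' (1 * d) (uu n i) from funext fun g => (cg_twist h2 g).symm]
  exact ip_cg_ne fun e => hl (eq_one_of_pow_one ((h1 1).2 (by rw [← e, one_mul, pow_one])))

variable (h : Sc D w₀ Q)
include h

theorem fx_c : Fx D w₀ I.c := by
  obtain ⟨m, hm⟩ := h.dvd
  rw [ClA.fx_sc h, hm, zpow_mul, zpow_ofNat, I.cube, one_zpow]

theorem ip_xx (hg : Gram6) (n m : Fin 8) (i j : Fin 4) : classInner (xx I n i) (xx I m j) = ipZ n m i j :=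
  (ip_cg h I.fm' (fx_one _) (uu_class n i)).trans (ip_uu hg n m i j)

theorem ip_yy (ν ν' : Fin 3) : classInner (yy I ν) (yy I ν') = if ν = ν' then 1 else 0 :=
  (ip_cg h I.fm (fx_c I h) (nu3_class ν)).trans (ip_nu3 ν ν')

theorem tw_yy (hA : Api f) (l : Lin s.H1) (ν : Fin 3) (g : ↥(GF F G)) : l.1 g * yy I ν g = yy I ν g := by
  obtain ⟨d, -, h1, -, -, h2⟩ := s.exists_lbl hA (s.lin_iff.2 l.2)
  obtain ⟨r, h3, h4⟩ := I.rot
  have h5 : ∀ {c c' : Lbl D}, Rel D r c c' → cg f w₀ I.Ψ c' (nu3 ν) = cg f w₀ I.Ψ c (nu3 ν) := fun {c c'} e => by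
    rw [← cg_rel h e ⟨fun γ => (γ.2.2, γ.1, γ.2.1), fun γ => (γ.2.1, γ.2.2, γ.1), fun _ => rfl, fun _ => rfl⟩ h4]
    exact congrArg _ (funext fun γ => (mul_rotate' (nu ν γ.2.2) _ _).trans rfl)
  rw [yy, ← cg_twist h2 g]
  rcases I.cl_all d h1 with rfl | rfl | rfl
  · rw [mul_one]
  · rw [h5 h3]
  · rw [inv_eq_of_mul_eq_one_right ((pow_three _).symm.trans I.cl_cube), ← mul_assoc,
      h5 (ClA.rel_mul h3 (I.cl_rel r)), h5 h3]

theorem aut_yy (hA : Api f) {α : MulAut Y} {A : Matrix D.R D.R ℤ} (ha : Au D α A) {v : D.W} {a : ℤ}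
    (hv : D.Wm v * A = a • (1 : Matrix D.R D.R ℤ)) (h3 : ¬ 3 ∣ a) (ν : Fin 3) (g : ↥(GF F G)) :
    yy I ν (ha.aut g) = yy I ν g := by
  rw [yy, cg_aut hA I.fm ha hv (fun e => h3 (e ▸ dvd_zero 3)) (fx_c I h)]
  rcases zpow_cube I.cube h3 with e | e <;> rw [e]
  obtain ⟨r, b, h4, h5, h6⟩ := I.inv
  rw [← cg_rel h h4 b h5, funext (h6 ν)]

omit h in
/-- the source -/
noncomputable def src (hg : Gram6) (h : Sca s w₀ Q) (hG : Gp6 s) (hA : Api f) : Src f w₀ s where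
  v := Sum.elim (xx I 1) (yy I)
  t := Sum.elim (xx I 2) (yy I)
  gen := by
    rintro (i | ν)
    exacts [gen_xx I 1 i, I.gen_of hA hG.idx ν]
  gen' := by
    rintro (i | ν)
    exacts [gen_xx I 2 i, I.gen_of hA hG.idx ν]
  norm := by
    rintro (i | ν)
    exacts [⟨_, ip_xx I h.sc hg 1 1 i i, (tab i).1⟩, ⟨1, (ip_yy I h.sc ν ν).trans (by simp), by decide⟩]
  odd := by
    rintro (i | ν)
    exacts [⟨_, ip_xx I h.sc hg 2 1 i i, (tab i).2.1⟩, ⟨1, (ip_yy I h.sc ν ν).trans (by simp), by decide⟩]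
  aut α A ha hA' j g := by
    obtain ⟨a, u, h1, h2⟩ := h.adm A hA'
    have h3 : D.Wm u⁻¹ * A = a • (1 : Matrix D.R D.R ℤ) := by
      rw [h2, Matrix.mul_smul, ← D.Wm_mul, inv_mul_cancel, D.Wm_one]
    rcases j with i | ν
    · exact (cg_aut hA I.fm' ha h3 (fun e => h1 (e ▸ dvd_zero 3)) (fx_one _) g).trans (by rw [one_zpow]; rfl)
    · exact aut_yy I h.sc hA ha h3 h1 ν g
  orth l := by
    have h1 : ∀ ν, (fun g => (l.1 g : ℂ)) * yy I ν = yy I ν := fun ν => funext (tw_yy I h.sc hA l ν)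
    rintro (i | ν) (j | ν') hn <;> simp only [Sum.elim_inl, Sum.elim_inr, h1]
    · by_cases hl : l.1 = 1
      · have h2 := (tab i).2.2.2 j fun e => hn.elim (fun h2 => h2 (congrArg _ e)) fun h2 => h2.1 hl
        rw [show (fun g => (l.1 g : ℂ)) * xx I 1 i = xx I 1 i from funext fun g => by simp [hl], ip_xx I h.sc hg,
          ip_xx I h.sc hg, h2.1, h2.2, Int.cast_zero]
        exact ⟨rfl, rfl⟩
      · exact ⟨by rw [← classInner_conj_symm, ip_tw I hA l hl, map_zero], ip_tw I hA l hl _ _ _ _⟩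
    · rw [← h1 ν', classInner_linear_mul, classInner_linear_mul]
      exact ⟨ip_xy I _ _ _, ip_yx I _ _ _⟩
    · exact ⟨ip_yx I _ _ _, ip_xy I _ _ _⟩
    · have h2 : ν ≠ ν' := fun e => hn.elim (fun h2 => h2 (congrArg _ e)) fun h2 => by simpa using h2.2
      rw [ip_yy I h.sc, ip_yy I h.sc, if_neg h2, if_neg h2.symm]
      exact ⟨rfl, rfl⟩
  ms i := ⟨_, (mS_cg h.sc I.fm' (fx_one _) ⟨0, one_pow _⟩ (uu_class 1 i)).trans (by
    rw [ClA.Wc_one, Subgroup.index_top, Nat.cast_one, mul_one, uu_one hg]), (tab i).2.2.1⟩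
  one ν := (ip_yy I h.sc ν ν).trans (if_pos rfl)
  tw l ν g := tw_yy I h.sc hA l ν g
  deg ν := (I.deg ν).imp fun _ h => ⟨h.1, h.2.2⟩

end Lo6

/-- **The lower bound for `E₆^ε(q)`, `3 ∣ q - ε`.** -/
theorem lo6 {p : ℕ} [Fact p.Prime] {k : Type} [Field k] [CharP k p] {Y : Type} [Group Y] {N : Type} [Fintype N]
    [DecidableEq N] {ρ : Y →* GL N k} {F : MulAut Y} {G : Subgroup Y} [IsAlgClosed k] {D : Datum p ρ F G}
    {f : Fr D} [Fintype ↥(GF F G)] {Adm : Matrix D.R D.R ℤ → Prop} {S : Type} [Group S] {s : Sit D Adm S} {w₀ : D.W}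
    {Q : ℤ} [Fintype W6] (hg : Gram6) (I : In6 f w₀) (h : Sca s w₀ Q) (hG : Gp6 s) (hA : Api f) : Lo S :=
  have := s.finite
  Lo6.lo_of_fam fun _ hM => (Lo6.src I hg h hG hA).fam hA h hG hM

end Cfsg.Agent.KZ.Exc

private theorem dce_184fdf7a4438 : _root_.True := by
  try have : _root_.True := by simp only [_root_.Cfsg.Agent.KZ.Exc.ph.congr_simp]
  try have : _root_.True := by simp only [_root_.Cfsg.Agent.KZ.Exc.Lo6.xx.eq_1]
  try have : _root_.True := by simp only [_root_.Cfsg.Agent.KZ.Exc.Lo6.ipZ.eq_1]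
  try have : _root_.True := by simp only [_root_.Cfsg.Agent.KZ.Exc.Lo6.yy.eq_1]
  try have : _root_.True := by simp only [_root_.Cfsg.Agent.KZ.Exc.Lo6.uu.eq_1]
  exact _root_.True.intro
end

-- part: KZ/Exc/ENab
section
prune_inst 0x4c05006255cc00000001c800250000280210000020040080090460004090e9062a00020014400190a100a888820000000020000a0400000000a8444000005000088a24604f3c9015da604878032ba610002200880000000000000000000041000004010000
set_option linter.all false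
open scoped Cfsg.Agent.FastGrp

/-!
# KZ, the groups `E₆^ε`, `E₇`, `E₈` (scalar case): `27 ≤ |P : P'|` (helper15)

`nab6`, `nab7`, `nab8`.
-/

set_option autoImplicit false
set_option linter.unusedSectionVars false

namespace Cfsg.Agent.KZ.Exc

namespace ENab

open Cfsg Matrix Cfsg.Agent.DL Cfsg.Agent.DL.PP Cfsg.Agent.KZ.Lie Cfsg.Agent.KZ.DatX Cfsg.Agent.KZ.Cl
  Cfsg.Agent.ChevalleyStructure.CoxeterGeom Cfsg.Agent.Tits.Roots

theorem three_le {A : Type} [Group A] [Finite A] {N₀ : Subgroup A} [N₀.Normal] {P : Sylow 3 A}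
    (h : ¬ (P : Subgroup A) ≤ N₀) : 3 ≤ out N₀ P := by
  have : Fact (Nat.Prime 3) := ⟨Nat.prime_three⟩
  have h1 := P.2.map (QuotientGroup.mk' N₀)
  have : Nontrivial ↥((P : Subgroup A).map (QuotientGroup.mk' N₀)) := (Subgroup.nontrivial_iff_ne_bot _).2 fun e =>
    h (by rwa [Subgroup.map_eq_bot_iff, QuotientGroup.ker_mk'] at e)
  have := h1.isNilpotent
  obtain ⟨x, -, hx⟩ := SetLike.exists_of_lt
    (Group.IsSolvable.commutator_lt_top_of_nontrivial ↥((P : Subgroup A).map (QuotientGroup.mk' N₀)))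
  simpa only [out, _root_.ge_iff_le, _root_.Subgroup.index_top, _root_.mul_one] using ClD.three_mul_le h1 le_top (Subgroup.mem_top x) hx

theorem nine_le {H : Type} [Group H] [Finite H] (h : 3 ^ 2 ∣ Nat.card H) (R : Sylow 3 H) : 9 ≤ nab R := by
  have : Fact (Nat.Prime 3) := ⟨Nat.prime_three⟩
  rcases Alt.nine_le_or R.2 with h1 | h1
  · exact h1
  · rw [nab, h1]
    exact Nat.le_of_dvd Nat.card_pos (R.pow_dvd_card_of_pow_dvd_card h)

variable {p : ℕ} [Fact p.Prime] {k : Type} [Field k] [CharP k p] {Y : Type} [Group Y] {N : Type} [Fintype N]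
  [DecidableEq N] {ρ : Y →* GL N k} {F : MulAut Y} {G : Subgroup Y} [IsAlgClosed k] {D : Datum p ρ F G}

/-- a central element of order dividing three of the Weyl group is trivial -/
theorem cen_eq_one {z : D.W} (h : ∀ u, z * u = u * z) (h3 : z ^ 3 = 1) : z = 1 := by
  have key : ∀ i, D.act z (sr i) = sr i := fun i => by
    have ha : D.Rt (sr i) := isRoot_sr D.cs D.h i
    have hb : D.Rt (D.act z (sr i)) := ha.act z
    have h1 := D.act_rf_self hb
    rw [D.rf_act' z ha, h, mul_inv_cancel_right, D.act_rf ha] at h1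
    generalize Nodes.Coroot.cpr D.cs D.h (D.act z (sr i)) (sr i) = n at h1
    have h2 : (2 : ℤ) • D.act z (sr i) = n • sr i := by
      rw [two_smul, ← sub_eq_zero, ← sub_eq_zero.2 h1]
      abel
    have h4 : (8 : ℤ) • D.act (z ^ 3) (sr i) = (n * n * n) • sr i := by
      have e : D.act (z ^ 3) (sr i) = D.act z (D.act z (D.act z (sr i))) := by
        rw [pow_succ', pow_two]
        simp only [Datum.act, rep_mul_apply]
      have l : ∀ (m : ℤ) x, D.act z (m • x) = m • D.act z x := fun m x => map_zsmul _ m x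
      have h5 := congrArg (D.act z) h2
      have h6 := congrArg (D.act z) (congrArg (D.act z) h2)
      simp only [l] at h5 h6
      rw [e]
      linear_combination (exp := 1) (4 : ℤ) • h6 + (2 * n) • h5 + (n * n) • h2
    rw [h3, Datum.act, map_one, Module.End.one_apply] at h4
    have h5 := congrFun h4 i
    simp only [sr, Pi.smul_apply, Pi.single_eq_same, smul_eq_mul, mul_one] at h5
    obtain rfl : n = 2 := by
      have : n ^ 3 = 2 ^ 3 := by linarith only [h5]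
      exact (Odd.pow_inj (by decide)).1 this
    exact smul_right_injective _ two_ne_zero h2
  refine rep_injective D.cs D.h (LinearMap.ext fun b => ?_)
  rw [map_one, pi_eq_sum_univ' b, map_sum, map_sum]
  exact Finset.sum_congr rfl fun i _ => by rw [map_smul, map_smul]; exact congrArg _ (key i)

variable {Adm : Matrix D.R D.R ℤ → Prop} {S : Type} [Group S] {s : Sit D Adm S} {w₀ : D.W} {Q : ℤ}

theorem admC (h : Sca s w₀ Q) : AdmC D Adm w₀ := fun _ A _ _ => ⟨1, by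
  rw [h.sc.eq, Matrix.mul_smul, Matrix.smul_mul, mul_one, one_mul]⟩

theorem inn (h : Sca s w₀ Q) : Lie.Inn D Adm w₀ where
  cen z _ hz h3 := cen_eq_one (fun u => hz u (by rw [h.sc.cw_top]; trivial)) h3
  sq := by
    rintro _ ⟨⟨v, A, h1, rfl⟩, -, -⟩
    obtain ⟨a, u, -, rfl⟩ := h.adm A h1
    refine ⟨v * u * (v * u), by rw [h.sc.cw_top]; trivial, fun x _ => ?_⟩
    rw [Matrix.mul_smul, ← D.Wm_mul, smul_mul_smul_comm, ← D.Wm_mul, Matrix.mul_smul, Matrix.smul_mul, ← D.Wm_mul, ← D.Wm_mul,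
      inv_mul_cancel_right]

theorem rel_inv' {u : D.W} {c c' : Lbl D} (h : _root_.Cfsg.Agent.DL.PP.Rel D u c c') : _root_.Cfsg.Agent.DL.PP.Rel D u c⁻¹ c'⁻¹ := fun v => by rw [map_inv, map_inv, h]

variable {f : Fr D} [Fintype ↥(GF F G)]

/-- **the generic theorem** -/
theorem nab_gen (h : Sca s w₀ Q) (hA : Api f) (h9 : 3 ^ 2 ∣ Nat.card D.W) {c : Lbl D} (hc : c ^ 3 = 1)
    (hne : ClA.Wc c ≠ ⊤) {U : Subgroup D.W} (hi : ¬ 3 ∣ U.index) (hS : SplE ↥U)
    (hU : ∀ u ∈ U, ∃ cl, s.Tw f cl ∧ _root_.Cfsg.Agent.DL.PP.Rel D u c (c * cl)) : Nab S := by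
  rintro A _ _ N₀ hN ⟨e⟩ P
  have := hN.normal
  have := s.finite
  obtain ⟨L⟩ := exists_loc s hA h.hp (h.sc.cardC h.hp) (admC h) h.sc.regC (.inl h.sc.cw_top) A N₀ e P
  have hT : ∀ u, u ∈ CW D w₀ := fun u => by rw [h.sc.cw_top]; trivial
  obtain ⟨R, hR⟩ := exists_sylow_le (K := U.subgroupOf (CW D w₀)) (by
    rw [← Subgroup.relIndex, h.sc.cw_top, Subgroup.relIndex_top_right]
    exact hi)
  have h1 := nine_le (by rwa [h.sc.cw_top, Subgroup.card_top]) R
  by_cases hP : (P : Subgroup A) ≤ N₀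
  · have fx : ∀ {d : Lbl D}, d ^ 3 = 1 → Fx D w₀ d := fun {d} hd => (ClA.fx_sc h.sc).2 (by
      obtain ⟨m, hm⟩ := h.sc.dvd
      rw [hm, _root_.zpow_mul, show d ^ (3 : ℤ) = 1 from (zpow_natCast d 3).trans hd, _root_.one_zpow])
    have hc' : c⁻¹ ^ 3 = 1 := by rw [inv_pow, hc, inv_one]
    have nt : ¬ s.Tw f c := fun h2 => hne (eq_top_iff.2 fun u _ => (h2.props hA).1 u)
    have nt' : ¬ s.Tw f c⁻¹ := fun h2 => nt (by simpa using h2.inv)
    have e2 : c * c = c⁻¹ := eq_inv_of_mul_eq_one_left (by rw [← hc, pow_succ, pow_two])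
    have e3 : c⁻¹ * c⁻¹ = c := by rw [← mul_inv, e2, inv_inv]
    have h6 := L.nab_ge_in hA hP R (c := ![1, c, c⁻¹]) ⟨fun i => by
        fin_cases i
        exacts [fx_one _, fx hc, fx hc'],
      fun i z hz g => by
        rw [show z = 1 from h.inj (hz.trans (map_one _).symm)]
        exact congrArg _ (one_mul g),
      fun i => by
        fin_cases i
        exacts [⟨0, one_pow _⟩, ⟨1, hc⟩, ⟨1, hc'⟩],
      fun i j cl h2 h3 => by
        rw [← inv_mul_eq_iff_eq_mul] at h3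
        subst h3
        fin_cases i <;> fin_cases j <;> simp_all only [_root_.Nat.reducePow, _root_.ne_eq, _root_.inv_pow, _root_.inv_one, _root_.Nat.succ_eq_add_one, _root_.Nat.reduceAdd, _root_.Fin.zero_eta, _root_.Fin.isValue, _root_.Matrix.cons_val_zero, _root_.mul_one, _root_.Fin.mk_one, _root_.Matrix.cons_val_one, _root_.Fin.reduceFinMk, _root_.Matrix.cons_val, _root_.inv_inv, _root_.one_mul, _root_.inv_mul_cancel, _root_.mul_inv_cancel]⟩
      fun i => by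
        fin_cases i
        · exact ⟨⊤, fun u _ => hT u, fun _ _ => trivial, ((spl_cox D.cs).congr Subgroup.topEquiv.symm).1, fun u _ =>
            ⟨1, s.tw_one, fun v => by simp⟩⟩
        · exact ⟨U, fun u _ => hT u, fun r hr => hR hr, hS, hU⟩
        · refine ⟨U, fun u _ => hT u, fun r hr => hR hr, hS, fun u hu => ?_⟩
          obtain ⟨cl, h2, h3⟩ := hU u hu
          exact ⟨cl⁻¹, h2.inv, by simpa only [mul_comm, _root_.Nat.succ_eq_add_one, _root_.Nat.reduceAdd, _root_.Fin.reduceFinMk, _root_.Matrix.cons_val, _root_.mul_inv_rev] using rel_inv' h3⟩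
    rw [Nat.card_fin] at h6
    omega
  · have h6 := L.nab_ge_out (inn h) R
    have h7 := three_le hP
    nlinarith

/-- the stabiliser of the label contains a Sylow subgroup -/
theorem nab_fm (h : Sca s w₀ Q) (hA : Api f) {Γ : Type} [Group Γ] {Ψ : Γ →* D.W} {c : Lbl D} (E : Fm Ψ c) (hc : c ^ 3 = 1)
    (h9 : 3 ^ 2 ∣ Nat.card Γ) (hS : Spl Γ) (hi : ¬ 3 ∣ (ClA.Wc c).index) (h1 : (ClA.Wc c).index ≠ 1) : Nab S :=
  nab_gen h hA (E.index_mul ▸ h9.mul_left _) hc (fun e => h1 (by rw [e, Subgroup.index_top])) hi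
    ((hS.congr (MonoidHom.ofInjective E.inj)).congr (MulEquiv.subgroupCongr E.range)).1
    fun u hu => ⟨1, s.tw_one, by rwa [mul_one]⟩

end ENab

open ENab Cfsg Matrix Cfsg.Agent.DL Cfsg.Agent.DL.PP Cfsg.Agent.KZ.Lie Cfsg.Agent.KZ.DatX Cfsg.Agent.KZ.Cl

variable {p : ℕ} [Fact p.Prime] {k : Type} [Field k] [CharP k p] {Y : Type} [Group Y] {N : Type} [Fintype N]
  [DecidableEq N] {ρ : Y →* GL N k} {F : MulAut Y} {G : Subgroup Y} [IsAlgClosed k] {D : Datum p ρ F G}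
  {Adm : Matrix D.R D.R ℤ → Prop} {S : Type} [Group S] {s : Sit D Adm S} {w₀ : D.W} {Q : ℤ} {f : Fr D} [Fintype ↥(GF F G)]
  [Fintype W6]

/-- `E₇` -/
theorem nab7 [Fintype W7] (I : In7 f w₀) (h : Sca s w₀ Q) (hA : Api f) : Nab S :=
  nab_fm h hA I.fm I.cube (by rw [card_W_E6]; decide) (spl_cox CoxeterMatrix.E₆.toCoxeterSystem) (by rw [I.idx]; decide)
    (by rw [I.idx]; decide)

/-- `E₈` -/
theorem nab8 (I : In8 f w₀) (h : Sca s w₀ Q) (hA : Api f) : Nab S :=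
  nab_fm h hA I.fm I.cube (by rw [Nat.card_prod, card_W_E6]; exact Dvd.dvd.mul_right (by decide) _)
    ((spl_cox CoxeterMatrix.E₆.toCoxeterSystem).prod (spl_perm _)) (by rw [I.idx]; decide) (by rw [I.idx]; decide)

/-- `E₆^ε` -/
theorem nab6 (I : In6 f w₀) (h : Sca s w₀ Q) (hA : Api f) (hi : s.H1.index = 3) : Nab S := by
  have hr : ∀ u, ∀ d ∈ Subgroup.zpowers I.cl, _root_.Cfsg.Agent.DL.PP.Rel D u d d := by
    rintro u _ ⟨n, rfl⟩
    exact ClA.rel_zpow (I.cl_rel u) n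
  have uq : ∀ {u : D.W} {d d' : Lbl D}, _root_.Cfsg.Agent.DL.PP.Rel D u I.c (I.c * d) → _root_.Cfsg.Agent.DL.PP.Rel D u I.c (I.c * d') → d = d' := fun h1 h2 =>
    mul_left_cancel ((rel_iff.1 h1).symm.trans (rel_iff.1 h2))
  have ml : ∀ {a b : D.W} {d d' : Lbl D}, d' ∈ Subgroup.zpowers I.cl → _root_.Cfsg.Agent.DL.PP.Rel D a I.c (I.c * d) → _root_.Cfsg.Agent.DL.PP.Rel D b I.c (I.c * d') →
      _root_.Cfsg.Agent.DL.PP.Rel D (a * b) I.c (I.c * (d * d')) := fun {a b d d'} hd ha hb =>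
    hb.trans (mul_assoc I.c d d' ▸ ClA.rel_mul ha (hr a d' hd))
  let U : Subgroup D.W :=
    { carrier := {u | ∃ d ∈ Subgroup.zpowers I.cl, _root_.Cfsg.Agent.DL.PP.Rel D u I.c (I.c * d)}
      one_mem' := ⟨1, one_mem _, by rw [mul_one]; exact rel_one D _⟩
      mul_mem' := fun ⟨d, h1, h2⟩ ⟨d', h3, h4⟩ => ⟨d * d', mul_mem h1 h3, ml h3 h2 h4⟩
      inv_mem' := fun {a} ⟨d, h1, h2⟩ => ⟨d⁻¹, inv_mem h1, by
        simpa using ClA.rel_mul h2.symm (hr a⁻¹ d⁻¹ (inv_mem h1))⟩ }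
  choose δ h1 h2 using fun u : U => u.2
  let φ : U →* Subgroup.zpowers I.cl := MonoidHom.mk' (fun u => ⟨δ u, h1 u⟩) fun a b =>
    Subtype.ext (uq (h2 (a * b)) (ml (h1 b) (h2 a) (h2 b)))
  have h3 : Function.Surjective φ := by
    obtain ⟨r, hr1, -⟩ := I.rot
    have e : φ ⟨r, I.cl, Subgroup.mem_zpowers _, hr1⟩ = ⟨I.cl, Subgroup.mem_zpowers _⟩ := Subtype.ext (uq (h2 _) hr1)
    rintro ⟨_, n, rfl⟩
    exact ⟨⟨r, I.cl, Subgroup.mem_zpowers _, hr1⟩ ^ n, by rw [map_zpow, e]; rfl⟩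
  have h4 : ClA.Wc I.c ≤ U := fun u hu => ⟨1, one_mem _, by rwa [mul_one]⟩
  have h5 : φ.ker = (ClA.Wc I.c).subgroupOf U := Subgroup.ext fun u =>
    ⟨fun hu => by
      have := h2 u
      rwa [show δ u = 1 from congrArg Subtype.val hu, mul_one] at this,
    fun hu => Subtype.ext (uq (h2 u) (by rw [OneMemClass.coe_one, mul_one]; exact hu))⟩
  have : Fact (Nat.Prime 3) := ⟨Nat.prime_three⟩
  have h6 : U.index = 80 := by
    have := Subgroup.relIndex_mul_index h4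
    rw [Subgroup.relIndex, ← h5, Subgroup.index_ker, MonoidHom.range_eq_top.2 h3, Subgroup.card_top, Nat.card_zpowers,
      orderOf_eq_prime I.cl_cube I.cl_ne, I.idx] at this
    omega
  have h7 : Spl (S3 × S3 × S3) := (spl_perm _).prod ((spl_perm _).prod (spl_perm _))
  refine nab_gen h hA (U := U) ?_ I.cube (fun e => ?_) (by rw [h6]; decide) (Spl.extE φ h3 ?_ splE_cyclic) ?_
  · rw [← I.fm'.index_mul, card_W_E6]
    exact Dvd.dvd.mul_left (by decide) _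
  · have := I.idx
    rw [e, Subgroup.index_top] at this
    omega
  · exact (((h7.congr (MonoidHom.ofInjective I.fm.inj)).congr (MulEquiv.subgroupCongr I.fm.range)).congr
      (Subgroup.subgroupOfEquivOfLe h4).symm).congr (MulEquiv.subgroupCongr h5.symm)
  · rintro u ⟨d, hd, hu⟩
    exact ⟨d, (Subgroup.zpowers_le (H := ⟨⟨⟨{x | s.Tw f x}, Sit.Tw.mul⟩, s.tw_one⟩, Sit.Tw.inv⟩)).2 (I.tw hA hi) hd, hu⟩

end Cfsg.Agent.KZ.Exc

private theorem dce_f00818a743d4 : _root_.True := by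
  try have : _root_.True := by simp only [_root_.Cfsg.Agent.KZ.Lie.Api.congr_simp]
  try have : _root_.True := by simp only [_root_.Cfsg.Agent.KZ.Lie.out.congr_simp]
  exact _root_.True.intro
end

-- part: KZ/ClA/Lab
section
prune_inst 0x2200880000000000000000000000000000000000
set_option linter.all false
open scoped Cfsg.Agent.FastGrp

/-!
# KZ, type A (helper18): labels

The labels in coordinates; the labels which are trivial on the centre; the twists are the constant labels; every label gives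
a Levi subgroup; the unipotent characters.
-/

set_option autoImplicit false
set_option linter.unusedSectionVars false

namespace Cfsg.Agent.KZ.ClA

open Cfsg Cfsg.Agent.DL Cfsg.Agent.DL.PP Cfsg.Agent.KZ.Lie Cfsg.Agent.KZ.Cl Cfsg.Agent.KZ.Dat Cfsg.Agent.KZ.Sym
  Cfsg.Agent.Characters.Core Matrix Equiv
open scoped ComplexConjugate

theorem chr_spm {R K : Type} [Fintype R] [DecidableEq R] [Field K] (π : Perm R) (z : R → ℤ) (c : R → Kˣ) :
    chr (spm π 1 *ᵥ z) c = chr z (c ∘ π) := by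
  rw [chr_apply, chr_apply, ← Equiv.prod_comp π]
  simp only [spm_mulVec, Pi.one_apply, Units.val_one, one_mul, Function.comp_apply]

theorem mon_spm {R K : Type} [Fintype R] [DecidableEq R] [Field K] (π : Perm R) (t : Kˣ) :
    mon (spm π 1) (fun _ : R => t) = fun _ => t := by
  funext i
  have h : spm π 1 i = Pi.single (π⁻¹ i) 1 := funext fun j => by
    rw [spm_apply, Pi.single_apply]
    exact if_congr (Perm.eq_inv_iff_eq.trans eq_comm).symm rfl rfl
  rw [mon_apply, h, chr_single]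

variable {p : ℕ} [Fact p.Prime] {k : Type} [Field k] [CharP k p] {Y : Type} [Group Y] {N : Type} [Fintype N]
  [DecidableEq N] {ρ : Y →* GL N k} {F : MulAut Y} {G : Subgroup Y} [IsAlgClosed k] {D : Datum p ρ F G}
  [Fintype ↥(GF F G)] {Adm : Matrix D.R D.R ℤ → Prop} {S : Type} [Group S] {s : Sit D Adm S} {Q : ℤ} {f : Fr D}

namespace ALike

variable (L : ALike s Q) {c c' : Lbl D}

theorem sc (h3 : 3 ∣ Q - 1) : Sc D L.w0 Q := ⟨L.hQ, h3⟩

theorem rel_iff {v : D.W} : _root_.Cfsg.Agent.DL.PP.Rel D v c c' ↔ c' ∘ L.e v = c :=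
  ⟨fun h => eq_of_chr D fun z => by rw [← chr_spm, ← L.Wm_eq, h], fun h z => by rw [L.Wm_eq, chr_spm, h]⟩

theorem tr_smul (a : ℤ) (u : D.W) (c : Lbl D) : Tr D (a • D.Wm u) ((c ∘ L.e u) ^ a) c := fun z => by
  rw [smul_mulVec, chr_zsmul, L.Wm_eq, chr_spm, map_zpow]

include L in
theorem const_of_rel (h : ∀ u, _root_.Cfsg.Agent.DL.PP.Rel D u c c) (i j : D.R) : c i = c j := by
  have h1 := congrFun (L.rel_iff.1 (h (L.e.symm (_root_.Equiv.swap i j)))) j
  rwa [MulEquiv.apply_symm_apply, Function.comp_apply, swap_apply_right] at h1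

include L in
theorem rel_const (z : ℂˣ) (u : D.W) : _root_.Cfsg.Agent.DL.PP.Rel D u (fun _ => z) fun _ => z := L.rel_iff.2 rfl

theorem sg_eq (w : D.W) : sg D w = (Perm.sign (L.e w) : ℤ) := by
  rw [sg, L.Wm_eq, det_spm]
  simp only [_root_.Pi.one_apply, _root_.Units.val_one, _root_.Finset.prod_const_one, _root_.mul_one]

theorem mem_Wl {lam : D.R → ℤ} {v : D.W} : v ∈ Wl D lam ↔ ∀ i, lam (L.e v i) = lam i := by
  show D.Wm v *ᵥ lam = lam ↔ _
  rw [L.Wm_eq]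
  refine ⟨fun h i => by rw [← congrFun h (L.e v i), spm_mulVec]; simp, fun h => funext fun i => ?_⟩
  obtain ⟨i, rfl⟩ := (L.e v).surjective i
  rw [spm_mulVec, h]
  simp

include L in
theorem wt_const (a : D.I → ℤ) (x : ℤ) : D.wt a ⬝ᵥ (fun _ => x) = 0 := by
  rw [D.eq_sum_sr a, map_sum, sum_dotProduct]
  refine Finset.sum_eq_zero fun i _ => ?_
  obtain ⟨i', j', -, h, -⟩ := L.rt _ (Tits.Roots.isRoot_sr D.cs D.h i)
  rw [map_zsmul, smul_dotProduct, h, sub_dotProduct, single_dotProduct, single_dotProduct, sub_self, smul_zero]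

section

variable (h3 : 3 ∣ Q - 1) [Nonempty D.R]
include L h3

theorem Q_ne : Q - 1 ≠ 0 := fun e => ordT_ne L.w0 (by
  rw [(L.sc h3).ordT_eq, e, Int.natAbs_zero, zero_pow Fintype.card_ne_zero])

theorem cen_eq (hA : Api f) (z : ↥s.H0) (hz : s.π z = 1) : ∃ x : ℤ, Q - 1 ∣ x * Fintype.card D.R ∧
    ∀ w c g, RW f w c (⟨z, s.le z.2⟩ * g) = ((∏ i, c i) ^ x : ℂˣ) * RW f w c g := by
  obtain ⟨t, ht, hz'⟩ := L.cen z hz
  have h1 : ∀ a : kˣ, F (D.τ fun _ => a) = D.τ fun _ => a ^ Q := fun a => by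
    have h := (L.sc h3).Wm_mul 1
    rw [D.Wm_one, one_mul] at h
    rw [D.F_τ, h, mon_zsmul, L.Wm_eq, mon_spm]
    rfl
  have h2 : ∀ (i : ℕ) (a : kˣ), (F ^ i) (D.τ fun _ => a) = D.τ fun _ => a ^ Q ^ i := fun i a => by
    induction i with
    | zero => simp
    | succ i ih => rw [Mk.pow_succ_apply, ih, h1, ← _root_.zpow_mul, ← pow_succ]
  have h4 : ∀ (d : ℕ) (a : kˣ), Mk.nrm F d (D.τ fun _ => a) = D.τ fun _ => a ^ ∑ i ∈ Finset.range d, Q ^ i := fun d a => by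
    induction d with
    | zero => exact (map_one D.τ).symm.trans (congrArg D.τ (funext fun _ => by simp))
    | succ d ih =>
      rw [Mk.nrm_succ, ih, h2, ← map_mul, Finset.sum_range_succ]
      congr 1
      funext _
      rw [Pi.mul_apply, _root_.zpow_add]
  set n := ∑ i ∈ Finset.range f.d, Q ^ i with hn
  have h5 : n * (Q - 1) = ((p ^ f.e - 1 : ℕ) : ℤ) := by
    have h := f.L.pow L.w0
    obtain ⟨i⟩ := ‹Nonempty D.R›
    rw [L.hQ, smul_pow, one_pow] at h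
    have h6 : Q ^ f.d = (p : ℤ) ^ f.e := by simpa only [_root_.Matrix.smul_apply, _root_.Matrix.one_apply_eq, _root_.Int.zsmul_eq_mul, _root_.mul_one] using congrFun (congrFun h i) i
    rw [hn, geom_sum_mul, h6, Nat.cast_sub (Nat.one_le_pow _ _ (Fact.out : p.Prime).pos)]
    simp
  have h6 : p ^ f.e - 1 ≠ 0 := Nat.sub_ne_zero_of_lt (Nat.one_lt_pow f.L.e_pos.ne' (Fact.out : p.Prime).one_lt)
  have h7 : n ≠ 0 := fun e => h6 (by rw [e, zero_mul] at h5; exact_mod_cast h5.symm)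
  have h8 : t ^ (Q - 1) = 1 := by
    have h : F z = z := (s.le z.2).2
    rw [hz', h1] at h
    obtain ⟨i⟩ := ‹Nonempty D.R›
    rw [_root_.zpow_sub, zpow_one, congrFun (D.τ_inj h) i, mul_inv_cancel]
  have : NeZero (p ^ f.e - 1) := ⟨h6⟩
  obtain ⟨y, -, rfl⟩ := f.hζ.eq_pow_of_mem_rootsOfUnity (ξ := t) ((mem_rootsOfUnity _ _).2 (by
    rw [← zpow_natCast, ← h5, mul_comm, _root_.zpow_mul, h8, _root_.one_zpow]))
  rw [← zpow_natCast, ← _root_.zpow_mul, f.hζ.zpow_eq_one_iff_dvd, ← h5, mul_dvd_mul_iff_right (L.Q_ne h3)] at h8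
  obtain ⟨x, hx⟩ := h8
  rw [← pow_mul, ← zpow_natCast, f.hζ.zpow_eq_one_iff_dvd, ← h5, Nat.cast_mul, hx, mul_assoc, mul_dvd_mul_iff_left h7] at ht
  refine ⟨x, ht, fun w c g => ?_⟩
  rw [hA.cen ⟨z, s.le z.2⟩ (fun _ => x) (fun a => L.wt_const a x) (by
    show (z : Y) = Mk.nrm F f.d (D.τ fun _ => f.ζ ^ x)
    rw [h4, hz', ← _root_.zpow_mul, mul_comm x, ← hx, zpow_natCast]), chr_apply, Finset.prod_zpow]

theorem z1_of_ok (hA : Api f) (hc : Ok Q c) : s.Z1 f c := fun z hz w g => by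
  obtain ⟨x, ⟨y, hy⟩, h⟩ := L.cen_eq h3 hA z hz
  obtain ⟨h1, ⟨j, hj⟩, h2⟩ := hc
  have h4 : (∏ i, c i) ^ x = 1 := by
    rcases h2 with h2 | h2
    · rw [h2, _root_.one_zpow]
    · refine (pow_eq_one_iff_of_coprime (Nat.Coprime.pow_left j
        ((Nat.Prime.coprime_iff_not_dvd Nat.prime_three).2 h2))).1 ⟨?_, ?_⟩
      · rw [← zpow_natCast, ← _root_.zpow_mul, mul_comm, _root_.zpow_mul, zpow_natCast, ← Finset.prod_pow,
          Finset.prod_eq_one (f := fun i => c i ^ 3 ^ j) fun i _ => congrFun hj i, _root_.one_zpow]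
      · rw [← zpow_natCast, ← _root_.zpow_mul, hy, _root_.zpow_mul, ← Finset.prod_zpow,
          Finset.prod_eq_one (f := fun i => c i ^ (Q - 1)) fun i _ => congrFun h1 i, _root_.one_zpow]
  rw [h, h4, Units.val_one, one_mul]

theorem levi (hF : Fx D L.w0 c) : ∃ lam, Wc c = Wl D lam ∧ LeviOK D lam L.w0 c := by
  have hn : (Q - 1).natAbs ≠ 0 := Int.natAbs_ne_zero.2 (L.Q_ne h3)
  have h := (Complex.isPrimitiveRoot_exp _ hn).isUnit_unit hn
  set ξ := ((Complex.isPrimitiveRoot_exp _ hn).isUnit hn).unit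
  have : NeZero (Q - 1).natAbs := ⟨hn⟩
  have h1 : ∀ y : ℂˣ, ∃ i : ℤ, y ^ (Q - 1) = 1 → ξ ^ i = y := fun y => by
    by_cases hy : y ^ (Q - 1) = 1
    · obtain ⟨i, -, hi⟩ := h.eq_pow_of_mem_rootsOfUnity (ξ := y) ((mem_rootsOfUnity _ _).2 (pow_natAbs_eq_one.2 hy))
      exact ⟨i, fun _ => by rw [zpow_natCast, hi]⟩
    · exact ⟨0, fun h => absurd h hy⟩
  choose lg hlg using h1
  have h2 : c = cx D (fun i => lg (c i)) ξ := funext fun i => (hlg _ (congrFun ((fx_sc (L.sc h3)).1 hF) i)).symm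
  refine ⟨fun i => lg (c i), Subgroup.ext fun v => ?_, ?_⟩
  · rw [mem_Wc, L.rel_iff, L.mem_Wl]
    refine ⟨fun h i => by rw [← congrFun h i]; rfl, fun h => funext fun i => ?_⟩
    rw [Function.comp_apply, congrFun h2 i, congrFun h2 (L.e v i), cx, cx, h]
  · rw [h2] at hF
    nth_rewrite 2 [h2]
    refine leviOK_of (L.sc h3).ne_zero (by rw [L.hQ, smul_mulVec, one_mulVec]) (fun v hv => funext fun i => ?_) hF
    rw [L.Wm_eq, vecMul_spm, L.mem_Wl.1 hv]
    simp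

theorem gen_one (hA : Api f) (hF : Fx D L.w0 c) : IsGeneralizedCharacter ↥(GF F G) (ch f L.w0 (fun _ => 1) c) := by
  obtain ⟨lam, h1, h2⟩ := L.levi h3 hF
  rw [ch, h1]
  exact hA.levi _ _ _ h2

theorem gen_sg (hA : Api f) (hF : Fx D L.w0 c) : IsGeneralizedCharacter ↥(GF F G) (ch f L.w0 (sg D) c) := by
  obtain ⟨lam, h1, h2⟩ := L.levi h3 hF
  rw [ch, h1]
  exact hA.leviSt _ _ _ h2

theorem gen_se (hA : Api f) (hF : Fx D L.w0 c) (b : Bool) : IsGeneralizedCharacter ↥(GF F G) (ch f L.w0 (se b) c) := by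
  cases b
  · exact L.gen_one h3 hA hF
  · exact L.gen_sg h3 hA hF

end

end ALike

theorem cls_se (b : Bool) : IsClassFunction D.W (se b) := fun g h => by
  rw [se_mul, se_mul, mul_right_comm, ← se_mul, mul_inv_cancel, se_one, one_mul]

theorem norm_se {w₀ : D.W} (h : Sc D w₀ Q) {c : Lbl D} (hF : Fx D w₀ c) (b : Bool) :
    classInner (ch f w₀ (se b) c) (ch f w₀ (se b) c) = 1 := by
  have := Fintype.ofFinite (Wc c)
  rw [ip_ch h hF (cls_se b), classInner]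
  simp only [conj_se, se_self, Finset.sum_const, Finset.card_univ, nsmul_eq_mul, mul_one, ← Nat.card_eq_fintype_card]
  exact inv_mul_cancel₀ (Nat.cast_ne_zero.2 Nat.card_pos.ne')

theorem eq_of_ip_se {w₀ : D.W} (h : Sc D w₀ Q) {c : Lbl D} (hF : Fx D w₀ c) {u : D.W} (hu : u ∈ Wc c) (hs : sg D u = -1)
    {b b' : Bool} (hb : classInner (ch f w₀ (se b) c) (ch f w₀ (se b') c) ≠ 0) : b = b' := by
  have := Fintype.ofFinite (Wc c)
  by_contra hne
  apply hb
  have h1 : ∀ v : D.W, se b v * se b' v = sg D v := fun v => by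
    cases b <;> cases b' <;> simp_all [se]
  rw [ip_ch h hF (cls_se b), classInner]
  simp only [conj_se, h1]
  have h2 := Equiv.sum_comp (Equiv.mulLeft (⟨u, hu⟩ : Wc c)) fun v : Wc c => sg D v
  simp only [Equiv.coe_mulLeft, Subgroup.coe_mul, sg_mul, hs, neg_mul, one_mul, Finset.sum_neg_distrib] at h2
  rw [CharZero.neg_eq_self_iff.1 h2, mul_zero]

theorem ch_one_one (hA : Api f) (w₀ : D.W) : ch f w₀ (fun _ => 1) 1 = fun _ => 1 := by
  have := Fintype.ofFinite (⊤ : Subgroup D.W)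
  rw [← hA.one, ch, Wc_one, avg_eq, avg_eq]
  congr 1
  exact Fintype.sum_equiv (Equiv.mulRight ⟨w₀, trivial⟩) _ _ fun u => by simp only [_root_.one_smul, _root_.Equiv.coe_mulRight, _root_.Subgroup.coe_mul, _root_.mul_one]

namespace ALike

variable (L : ALike s Q) (h3 : 3 ∣ Q - 1) [Nonempty D.R]
include L h3

theorem tw_const (hA : Api f) (hS : commutator S = ⊤) {x : ℂˣ} (hx : x ^ (Q - 1) = 1) : s.Tw f fun _ => x := by
  have := Fintype.ofFinite (⊤ : Subgroup D.W)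
  have hF : Fx D L.w0 fun _ => x := (fx_sc (L.sc h3)).2 (funext fun _ => hx)
  have hW : Wc (D := D) (fun _ => x) = ⊤ := eq_top_iff.2 fun v _ => L.rel_const x v
  have h1 : ch f L.w0 (fun _ => 1) (fun _ => x) 1 = 1 := by
    refine Eq.trans ?_ (congrFun (ch_one_one hA L.w0) 1)
    rw [ch, ch, hW, Wc_one, avg_eq, avg_eq]
    simp only [Pi.smul_apply, Finset.sum_apply]
    congr 1
    refine Finset.sum_congr rfl fun u _ => congrArg _ (mul_right_cancel₀ (Nat.cast_ne_zero.2 (ordT_ne (u.1 * L.w0))) ?_)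
    rw [hA.deg _ _ (hF.mul (L.rel_const x u)), hA.deg _ _ (fx_one _)]
  obtain ⟨χ, ε, h2, h4⟩ := exists_irr (L.gen_one h3 hA hF) (norm_se (L.sc h3) hF false)
  have h5 : ε = 1 := h2.resolve_right fun e => by
    have h6 := Blocks.Basic.irr_one_eq_charDegree χ.2
    rw [congrFun h4 1, Pi.smul_apply, h1, e, smul_eq_mul, mul_one] at h6
    have h7 : (-1 : ℤ) = (charDegree χ.1 : ℕ) := by exact_mod_cast h6
    omega
  rw [h5, Int.cast_one, one_smul] at h4
  obtain ⟨l, hl⟩ := Characters.Linear.exists_hom_of_isIrrCharacter χ.2 (by rw [h4, h1])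
  have h6 : ∀ h : ↥s.H0, l ⟨h, s.le h.2⟩ = 1 := by
    intro h
    have h7 : s.π h ∈ (commutator ↥s.H0).map s.π := by
      rw [map_commutator_eq, MonoidHom.range_eq_top.2 s.surj, ← commutator_def, hS]
      trivial
    obtain ⟨h', h8, h9⟩ := h7
    have h10 : l ⟨h', s.le h'.2⟩ = 1 := Abelianization.commutator_subset_ker (l.comp (Subgroup.inclusion s.le)) h8
    obtain ⟨y, ⟨y', hy⟩, h11⟩ := L.cen_eq h3 hA (h * h'⁻¹) (by rw [map_mul, map_inv, h9, mul_inv_cancel])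
    have h12 : ch f L.w0 (fun _ => 1) (fun _ => x) (⟨(h * h'⁻¹ : ↥s.H0), s.le (h * h'⁻¹).2⟩ * ⟨h', s.le h'.2⟩) =
        ch f L.w0 (fun _ => 1) (fun _ => x) ⟨h', s.le h'.2⟩ := by
      simp only [ch, avg, h11, Finset.prod_const, Finset.card_univ]
      rw [← zpow_natCast, ← _root_.zpow_mul, mul_comm _ y, hy, _root_.zpow_mul, hx]
      simp only [_root_.one_zpow, _root_.Units.val_one, _root_.one_mul]
    rw [← h4, hl] at h12
    have h13 : (⟨(h * h'⁻¹ : ↥s.H0), s.le (h * h'⁻¹).2⟩ * ⟨h', s.le h'.2⟩ : ↥(GF F G)) = ⟨h, s.le h.2⟩ :=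
      Subtype.ext (by simp only [_root_.Subgroup.coe_mul, _root_.InvMemClass.coe_inv, _root_.MulMemClass.mk_mul_mk, _root_.inv_mul_cancel_right])
    rw [h13] at h12
    exact (Units.ext h12).trans h10
  obtain ⟨cl, h7, h8, -, -, h9⟩ := s.exists_lbl hA h6
  have h10 : ch f L.w0 (fun _ => 1) (1 * cl) = ch f L.w0 (fun _ => 1) fun _ => x := funext fun g => by
    rw [ch_twist h8 h9, ch_one_one hA, mul_one, ← h4, hl]
  obtain ⟨v, hv⟩ := rel_of_ch' (f := f) (w₀ := L.w0) (φ := fun _ => 1) (φ' := fun _ => 1) (c := 1 * cl) (c' := fun _ => x) (by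
    rw [h10]
    exact (norm_se (L.sc h3) hF false).trans_ne one_ne_zero)
  rw [one_mul] at hv
  rwa [eq_of_rel hv (h8 v)]

theorem const_of_tw (hA : Api f) {cl : Lbl D} (h : s.Tw f cl) : ∃ z : ℂˣ, cl = fun _ => z :=
  let ⟨i⟩ := ‹Nonempty D.R›
  ⟨cl i, funext fun j => L.const_of_rel (h.props hA).1 j i⟩

theorem gen_uni (hA : Api f) {μ : Perm D.R → ℂ} (hμ : IsIrrCharacter (Perm D.R) μ) :
    IsGeneralizedCharacter ↥(GF F G) (ch f L.w0 (μ ∘ L.e) 1) := by
  have h := young_gen (fun g => RW f (L.e.symm g * L.w0) 1) (fun g h => (RW_conj f (v := L.e.symm h)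
    ((tc_sc (L.sc h3)).2 (by rw [map_mul, map_mul, map_inv, inv_mul_cancel_right])) fun _ => by rw [map_one, map_one]).symm)
    (fun b => ?_) hμ
  · convert h using 1
    funext x
    let E : (⊤ : Subgroup D.W) ≃ Perm D.R := Subgroup.topEquiv.toEquiv.trans L.e.toEquiv
    rw [ch, Wc_one, avg, Nat.card_congr E, ← finsum_eq_sum_of_fintype, ← finsum_comp_equiv E]
    congr 1
    exact finsum_congr fun u => by simp [E]
  · have h1 := hA.levi (fun i => ((b i : ℕ) : ℤ)) L.w0 (cx D 0 1) (leviOK_of (L.sc h3).ne_zero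
      (by rw [L.hQ, smul_mulVec, one_mulVec]) (fun v _ => zero_vecMul _) (fx_one _))
    convert h1 using 1
    funext x
    let E : Wl D (fun i => ((b i : ℕ) : ℤ)) ≃ Yg b := L.e.toEquiv.subtypeEquiv fun v => by
      rw [L.mem_Wl, mem_Yg]
      exact forall_congr' fun i => by rw [Nat.cast_inj, Fin.val_inj]; rfl
    rw [avg, Nat.card_congr E, ← finsum_comp_equiv E]
    congr 1
    refine finsum_congr fun u => ?_
    rw [one_mul]
    exact congrArg (fun w => RW f (w * L.w0) 1 x) (L.e.symm_apply_apply u)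

omit h3 in
theorem cls_uni {μ : Perm D.R → ℂ} (hμ : IsClassFunction (Perm D.R) μ) : IsClassFunction D.W (μ ∘ L.e) := fun g h => by
  rw [Function.comp_apply, map_mul, map_mul, map_inv, hμ, Function.comp_apply]

theorem ip_uni {μ μ' : Perm D.R → ℂ} (hμ : IsClassFunction (Perm D.R) μ) :
    classInner (ch f L.w0 (μ ∘ L.e) 1) (ch f L.w0 (μ' ∘ L.e) 1) = classInner μ μ' := by
  have := Fintype.ofFinite (Wc (1 : Lbl D))
  rw [ip_ch (L.sc h3) (fx_one _) (L.cls_uni hμ)]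
  exact Characters.Clifford.classInner_comp_mulEquiv
    (((MulEquiv.subgroupCongr Wc_one).trans Subgroup.topEquiv).trans L.e) μ μ'

end ALike

end Cfsg.Agent.KZ.ClA

private theorem dce_6bbcff894523 : _root_.True := by
  try have : _root_.True := by simp only [_root_.Cfsg.Agent.KZ.Cl.cx.eq_1]
  exact _root_.True.intro
end

-- part: KZ/ClA/Gs
section
set_option linter.all false
open scoped Cfsg.Agent.FastGrp

/-!
# KZ, type A (helper18): the structure `GS` for an almost simple group, and the Sylow `3`-subgroups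
-/

set_option autoImplicit false
set_option linter.unusedSectionVars false

namespace Cfsg.Agent.KZ.ClA

open Cfsg Cfsg.Agent.DL Cfsg.Agent.DL.PP Cfsg.Agent.KZ.Lie Cfsg.Agent.KZ.Dat Matrix Equiv

attribute [local instance] fact3

theorem perm_central {R : Type} [Fintype R] [DecidableEq R] (h : 3 ≤ Fintype.card R) {σ : Perm R}
    (hσ : ∀ τ, σ * τ = τ * σ) : σ = 1 := by
  refine Equiv.ext fun i => by_contra fun hi : σ i ≠ i => ?_
  obtain ⟨j, hj⟩ : ({i, σ i}ᶜ : Finset R).Nonempty := by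
    rw [← Finset.card_pos, Finset.card_compl]
    have := Finset.card_le_two (a := i) (b := σ i)
    omega
  simp only [Finset.mem_compl, Finset.mem_insert, Finset.mem_singleton, not_or] at hj
  have h1 := DFunLike.congr_fun (hσ (swap (σ i) j)) i
  rw [Perm.mul_apply, Perm.mul_apply, swap_apply_left, swap_apply_of_ne_of_ne (Ne.symm hi) (Ne.symm hj.1)] at h1
  exact hj.2 h1.symm

theorem perfect {S : Type} [Group S] (hS : IsSimpleGroup S) (hn : ¬ IsMulCommutative S) : commutator S = ⊤ :=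
  (hS.eq_bot_or_eq_top_of_normal (commutator S) inferInstance).resolve_left fun h => hn ⟨⟨fun a b =>
    commutatorElement_eq_one_iff_mul_comm.1 (Subgroup.mem_bot.1
      (h ▸ Subgroup.commutator_mem_commutator (Subgroup.mem_top a) (Subgroup.mem_top b)))⟩⟩

variable {p : ℕ} [Fact p.Prime] {k : Type} [Field k] [CharP k p] {Y : Type} [Group Y] {N : Type} [Fintype N]
  [DecidableEq N] {ρ : Y →* GL N k} {F : MulAut Y} {G : Subgroup Y} [IsAlgClosed k] {D : Datum p ρ F G}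
  [Fintype ↥(GF F G)] {Adm : Matrix D.R D.R ℤ → Prop} {S : Type} [Group S] {s : Sit D Adm S} {Q : ℤ} {f : Fr D}

namespace ALike

variable (L : ALike s Q) (h3 : 3 ∣ Q - 1) (hA : Api f) (hS : commutator S = ⊤) (hm : 3 ≤ Fintype.card D.R)
  {A : Type} [Group A] [Finite A] {N₀ : Subgroup A} [N₀.Normal]
include L h3 hA hS hm

theorem exists_gs {P : Sylow 3 A} (K : Loc2 f s L.w0 A N₀ P) : ∃ g : GS K.Ah D.R Q, g.N = N₀.subgroupOf K.Ah := by
  classical
  have : Nonempty D.R := Fintype.card_pos_iff.1 (by omega)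
  have hsc := L.sc h3
  have h1 : ∀ x : K.Ah, ∃ (a : ℤ) (u : D.W), ¬ 3 ∣ a ∧ K.B x = a • D.Wm u := fun x => by
    obtain ⟨v, A', h1, h2⟩ := K.B_adm x x.2
    obtain ⟨a, u, h4, rfl⟩ := L.adm A' h1
    exact ⟨a, v * u, h4, by rw [h2, Matrix.mul_smul, D.Wm_mul]⟩
  choose a u ha hB using h1
  have ha0 : ∀ x, a x ≠ 0 := fun x e => ha x (by rw [e]; exact dvd_zero 3)
  have hN : ∀ {x : A}, x ∈ K.N1 ↔ x ∈ K.Ah ∧ x ∈ N₀ := by rw [K.N1_eq]; exact Iff.rfl
  have hω : ∀ w, ∃ y, K.ω y = w := fun w => by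
    have : w ∈ K.ω.range := by rw [K.ω_range, hsc.cw_top]; trivial
    exact this
  have h2 : ∀ (x : K.Ah) (hx : (x : A) ∈ K.N1), a x = 1 ∧ u x = K.ω ⟨x, hx⟩ := fun x hx => by
    have h4 := (hB x).symm.trans (K.B_N1 ⟨x, hx⟩)
    obtain ⟨j⟩ := this
    have h5 := congrFun (congrFun h4 (L.e (u x) j)) j
    rw [Matrix.smul_apply, L.Wm_eq, L.Wm_eq, spm_apply, spm_apply, if_pos rfl] at h5
    have h6 : a x = 1 := by
      split_ifs at h5
      · simpa using h5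
      · exact absurd (by simpa using h5) (ha0 x)
    rw [h6, one_smul] at h4
    exact ⟨h6, D.Wm_injective h4⟩
  have hc : ∀ (x : K.Ah) (y : K.N1), (x : A) * y * (x : A)⁻¹ ∈ K.N1 := fun x y =>
    hN.2 ⟨K.Ah.mul_mem (K.Ah.mul_mem x.2 (hN.1 y.2).1) (K.Ah.inv_mem x.2), ‹N₀.Normal›.conj_mem _ (hN.1 y.2).2 _⟩
  have h4 : ∀ (x : K.Ah) (y : K.N1), K.ω ⟨_, hc x y⟩ = u x * K.ω y * (u x)⁻¹ := fun x y => by
    have h5 := K.B_ω x x.2 y ⟨_, hc x y⟩ rfl
    rw [hB, Matrix.mul_smul, Matrix.smul_mul, ← D.Wm_mul, ← D.Wm_mul] at h5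
    exact eq_mul_inv_of_mul_eq (D.Wm_injective (smul_right_injective _ (ha0 x) h5))
  have h5 : ∀ x x', L.e (u (x * x')) = L.e (u x) * L.e (u x') := fun x x' => by
    rw [← map_mul, ← inv_mul_eq_one, ← map_inv, ← map_mul]
    refine perm_central hm fun τ => ?_
    obtain ⟨w, rfl⟩ := L.e.surjective τ
    obtain ⟨y, rfl⟩ := hω w
    have h6 := h4 (x * x') y
    have h7 := h4 x ⟨_, hc x' y⟩
    rw [h4 x' y] at h7
    have h8 : (⟨_, hc (x * x') y⟩ : K.N1) = ⟨_, hc x ⟨_, hc x' y⟩⟩ := Subtype.ext (by simp [mul_assoc])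
    rw [h8, h7] at h6
    rw [← map_mul, ← map_mul]
    congr 1
    calc _ = (u (x * x'))⁻¹ * (u x * (u x' * K.ω y * (u x')⁻¹) * (u x)⁻¹) * (u x * u x') := by group
      _ = _ := by rw [h6]; group
  have hF : ∀ {c}, Ok Q c → Fx D L.w0 c := fun hc => (fx_sc hsc).2 hc.1
  have hZ : ∀ {c}, Ok Q c → s.Zw f L.w0 c := fun hc => (L.z1_of_ok h3 hA hc).zw _
  let Θ : Lbl D → K.Ah → ℂˣ := fun c x => if h : (x : A) ∈ K.Tb then K.Θ c ⟨x, h⟩ else 1
  have hΘ : ∀ c (x : K.Ah) (h : (x : A) ∈ K.Tb), Θ c x = K.Θ c ⟨x, h⟩ := fun c x h => dif_pos h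
  have hT : ∀ t : K.Tb, (t : A) ∈ K.Ah := fun t => (hN.1 (K.Tb_le t.2)).1
  refine ⟨⟨N₀.subgroupOf K.Ah, K.Tb.subgroupOf K.Ah, MonoidHom.mk' (fun x => L.e (u x)) h5, Θ, inferInstance,
    ⟨fun t ht x => K.Tb_norm x x.2 t ht⟩, fun t ht => (hN.1 (K.Tb_le ht)).2,
    fun a ha b hb => Subtype.ext (K.Tb_comm _ ha _ hb), fun σ => ?_, fun x hx => ?_, fun c hc a ha b hb => ?_,
    fun c c' hc hc' a ha => ?_, fun c hc => ?_, fun hn t ht ⟨j, hj⟩ h => ?_, fun x => ⟨a x, fun hx => ?_, fun c hc t ht => ?_⟩⟩,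
    rfl⟩
  · obtain ⟨y, hy⟩ := hω (L.e.symm σ)
    refine ⟨⟨y, (hN.1 y.2).1⟩, (hN.1 y.2).2, ?_⟩
    show L.e (u _) = σ
    rw [(h2 ⟨y, (hN.1 y.2).1⟩ y.2).2, hy, MulEquiv.apply_symm_apply]
  · show L.e (u x) = 1 ↔ _
    rw [(h2 x (hN.2 ⟨x.2, hx⟩)).2, MulEquiv.map_eq_one_iff]
    exact K.ω_ker _
  · rw [hΘ c a ha, hΘ c b hb, hΘ c (a * b) (K.Tb.mul_mem ha hb)]
    exact K.Θ_mul c (hF hc) (hZ hc) ⟨a, ha⟩ ⟨b, hb⟩
  · rw [hΘ _ a ha, hΘ _ a ha, hΘ _ a ha]
    exact K.Θ_mul' c c' (hF hc) (hZ hc) (hF hc') (hZ hc') _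
  · refine Iff.trans ⟨fun h t => ?_, fun h t ht => ?_⟩ ((K.Θ_one c (hF hc) (hZ hc)).trans ⟨fun h => ?_, fun h => ?_⟩)
    · exact (hΘ c ⟨t, hT t⟩ t.2).symm.trans (h ⟨t, hT t⟩ t.2)
    · rw [hΘ c t ht, h]
    · exact L.const_of_rel (h.props hA).1
    · obtain ⟨i⟩ := id this
      rw [show c = fun _ => c i from funext fun j => h j i]
      exact L.tw_const h3 hA hS (congrFun hc.1 i)
  · by_contra hne
    let _ : CommGroup K.Tb := { (inferInstance : Group K.Tb) with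
      mul_comm := fun a b => Subtype.ext (K.Tb_comm _ a.2 _ b.2) }
    have : NeZero ((Monoid.exponent K.Tb : ℕ) : ℂ) := ⟨Nat.cast_ne_zero.2 Monoid.exponent_ne_zero_of_finite⟩
    obtain ⟨μ, hμ⟩ := CommGroup.exists_apply_ne_one_of_hasEnoughRootsOfUnity K.Tb ℂ (a := ⟨t, ht⟩)
      fun e => hne (Subtype.ext (congrArg (Subtype.val : K.Tb → A) e))
    obtain ⟨c, h6, h7, h8⟩ := K.Θ_surj μ
    have h9 : ∀ n : ℕ, s.Zw f L.w0 (c ^ n) ∧ K.Θ (c ^ n) ⟨t, ht⟩ = μ ⟨t, ht⟩ ^ n := fun n => by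
      induction n with
      | zero => exact ⟨s.z1_one.zw _, (K.Θ_one 1 (fx_one _) (s.z1_one.zw _)).2 s.tw_one _⟩
      | succ n ih =>
        rw [pow_succ, pow_succ, K.Θ_mul' _ _ (fx_pow h6 n) ih.1 h6 h7, ih.2, h8]
        exact ⟨ih.1.mul h7 (fx_pow h6 n) h6, rfl⟩
    obtain ⟨b, n, hn', h10⟩ := Nat.exists_eq_pow_mul_and_not_dvd (Int.natAbs_ne_zero.2 (L.Q_ne h3)) 3 (by norm_num)
    have h11 := h (c ^ n) ⟨(fx_sc hsc).1 (fx_pow h6 n), ⟨b, by
      rw [← pow_mul, mul_comm, ← h10, pow_natAbs_eq_one]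
      exact (fx_sc hsc).1 h6⟩, .inr hn⟩
    rw [hΘ _ t ht, (h9 n).2] at h11
    refine hμ ((pow_eq_one_iff_of_coprime (Nat.Coprime.pow_left j
      ((Nat.Prime.coprime_iff_not_dvd Nat.prime_three).2 hn'))).1 ⟨?_, h11⟩)
    rw [← map_pow, show (⟨t, ht⟩ : K.Tb) ^ 3 ^ j = 1 from Subtype.ext (congrArg (Subtype.val : K.Ah → A) hj), map_one]
  · exact (h2 x (hN.2 ⟨x.2, hx⟩)).1
  · rw [hΘ _ t ht, hΘ c _ (K.Tb_norm x x.2 t ht)]
    exact (K.B_Θ x x.2 _ c (by rw [hB]; exact L.tr_smul _ _ c) (hF hc) (hZ hc)).2.2 ⟨t, ht⟩ _ rfl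

theorem sylow (hp : p ≠ 3) (e : ↥N₀ ≃* S) (P : Sylow 3 A) (h4 : 4 ≤ Fintype.card D.R) :
    (¬ (Fintype.card D.R = 4 ∧ ¬ 9 ∣ Q - 1 ∧ ¬ 3 ∣ N₀.index) → 27 ≤ nab P) ∧
      (Fintype.card D.R = 4 → ¬ 9 ∣ Q - 1 → ¬ 3 ∣ N₀.index → U4 (P : Subgroup A)) := by
  have hsc := L.sc h3
  obtain ⟨K⟩ := exists_loc s hA hp (hsc.cardC hp) (fun α A _ _ => ⟨1, by rw [hsc.eq, Matrix.mul_smul, Matrix.smul_mul, mul_one, one_mul]⟩) hsc.regC (.inl hsc.cw_top)
    A N₀ e P
  obtain ⟨g, hg⟩ := L.exists_gs h3 hA hS hm K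
  have h1 : g.N.index = N₀.index := by
    rw [hg, ← Subgroup.relIndex, ← Subgroup.relIndex_sup_left, K.sup, Subgroup.relIndex_top_right]
  have e1 : ↥(P : Subgroup A) ≃* ↥(P.subtype K.P_le : Subgroup K.Ah) := (Subgroup.subgroupOfEquivOfLe K.P_le).symm
  rw [← h1, Res.nab_congr e1]
  exact ⟨fun h => g.main h4 h3 h _, fun h5 h6 h7 => (g.four h5 h3 h6 h7 _).congr e1⟩

end ALike

end Cfsg.Agent.KZ.ClA
end

-- part: KZ/ClA/Mem
section
prune_inst 0x2200880000000000000000000000000004010000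
set_option linter.all false
open scoped Cfsg.Agent.FastGrp

/-!
# KZ, type A (helper18): members of the simple group
-/

set_option autoImplicit false
set_option linter.unusedSectionVars false

namespace Cfsg.Agent.KZ.ClA

open Cfsg Cfsg.Agent.DL Cfsg.Agent.DL.PP Cfsg.Agent.KZ.Lie Cfsg.Agent.KZ.Cl Cfsg.Agent.KZ.Alt Cfsg.Agent.KZ.Res
  Cfsg.Agent.Characters.Core Matrix Equiv

attribute [local instance] fact3

theorem single_one {R : Type} [DecidableEq R] {r i j : R} {y : ℂˣ} (hij : i ≠ j)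
    (h : (Pi.mulSingle r y : R → ℂˣ) i = (Pi.mulSingle r y : R → ℂˣ) j) : (Pi.mulSingle r y : R → ℂˣ) i = 1 := by
  by_cases hi : i = r
  · rw [h, Pi.mulSingle_eq_of_ne fun e => hij (hi.trans e.symm)]
  · exact Pi.mulSingle_eq_of_ne hi _

theorem single_eq {R : Type} [DecidableEq R] {r i j : R} (hi : i ≠ r) (hj : j ≠ r) (hij : i ≠ j) {x y z : ℂˣ}
    (hx : x ≠ 1) {σ : Perm R} (h : (Pi.mulSingle r y : R → ℂˣ) ∘ σ = Pi.mulSingle r x * fun _ => z) : x = y := by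
  have h1 := congrFun h i
  have h2 := congrFun h j
  have h3 := congrFun h r
  rw [Function.comp_apply, Pi.mul_apply, Pi.mulSingle_eq_of_ne hi, one_mul] at h1
  rw [Function.comp_apply, Pi.mul_apply, Pi.mulSingle_eq_of_ne hj, one_mul] at h2
  have h4 : z = 1 := h1.symm.trans (single_one (σ.injective.ne hij) (h1.trans h2.symm))
  rw [Function.comp_apply, Pi.mul_apply, Pi.mulSingle_eq_same, h4, mul_one] at h3
  by_cases h5 : σ r = r
  · rw [← h3, h5, Pi.mulSingle_eq_same]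
  · exact absurd (h3.symm.trans (Pi.mulSingle_eq_of_ne h5 _)) hx

theorem zpow_ne_one {x : ℂˣ} (hx : x ≠ 1) {j : ℕ} (hj : x ^ 3 ^ j = 1) {a : ℤ} (ha : ¬ 3 ∣ a) : x ^ a ≠ 1 :=
  (N3.zpow ⟨hx, j, hj⟩ ha).1

theorem p10_of {M : Ideal AlgInt} {S : Type} [Group S] {n : ℕ} {κ : Type} [Fintype κ] (U : Fin n → IrrCharacter S)
    (hU : Function.Injective U) (h1 : ∀ i, Mem M (U i) ∧ ∀ σ, Fixes σ (U i)) (V : κ → IrrCharacter S)
    (h2 : ∀ j, Mem M (V j)) (h3 : ∀ i j, U i ≠ V j) (h4 : ∀ j j', j ≠ j' → Apart3 (V j) (V j'))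
    (hc : 10 ≤ n + Fintype.card κ) : P10 M S := by
  refine p10_of_fam (Sum.elim U V) (by rwa [Fintype.card_sum, Fintype.card_fin]) (fun i => ?_) fun i j hij => ?_
  · cases i
    · exact (h1 _).1
    · exact h2 _
  · rcases i with i | i <;> rcases j with j | j
    · exact apart3_of_apart (apart_of_fixes (h1 i).2 fun e => hij (congrArg _ (hU e)))
    · exact apart3_of_apart (apart_of_fixes (h1 i).2 (h3 i j))
    · exact apart3_symm (apart3_of_apart (apart_of_fixes (h1 j).2 (h3 j i)))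
    · exact h4 i j fun e => hij (congrArg _ e)

variable {p : ℕ} [Fact p.Prime] {k : Type} [Field k] [CharP k p] {Y : Type} [Group Y] {N : Type} [Fintype N]
  [DecidableEq N] {ρ : Y →* GL N k} {F : MulAut Y} {G : Subgroup Y} [IsAlgClosed k] {D : Datum p ρ F G}
  [Fintype ↥(GF F G)] {Adm : Matrix D.R D.R ℤ → Prop} {S : Type} [Group S] {s : Sit D Adm S} {Q : ℤ} {f : Fr D}
  {M : Ideal AlgInt}

namespace ALike

variable (L : ALike s Q)
include L

theorem idx {w : ℕ} (hw : Fintype.card D.R / 3 = w) (e : Fin w × C3 ↪ D.R) (q : Perm (Fin w))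
    (hq : orderOf q = 3 ^ w.factorial.factorization 3) {c : Lbl D}
    (h : ∀ (b : Fin w → C3) (n : ℤ), c ∘ Perm.viaEmbeddingHom e (b0 b * q0 q ^ n) = c) : ¬ 3 ∣ (Wc c).index := by
  obtain ⟨T, hT⟩ := exists_std hw e q hq
  rw [← Subgroup.index_map_equiv (Wc c) L.e]
  refine fun h1 => T.not_dvd_index (h1.trans (Subgroup.index_dvd_of_le fun σ hσ => ?_))
  obtain ⟨b, n, rfl⟩ := (hT σ).1 hσ
  exact ⟨L.e.symm _, L.rel_iff.2 (by rw [MulEquiv.apply_symm_apply, h]), L.e.apply_symm_apply _⟩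

theorem idx_single {w : ℕ} (hw : Fintype.card D.R / 3 = w) (e : Fin w × C3 ↪ D.R) (q : Perm (Fin w))
    (hq : orderOf q = 3 ^ w.factorial.factorization 3) {r : D.R} (hr : r ∉ Set.range e) (x : ℂˣ) :
    ¬ 3 ∣ (Wc (D := D) (Pi.mulSingle r x)).index := L.idx hw e q hq fun b n => by
  nth_rewrite 1 [← Perm.viaEmbedding_apply_of_notMem (b0 b * q0 q ^ n) e r hr]
  exact single_comp _ r x

theorem idx_lab {w : ℕ} (hw : Fintype.card D.R / 3 = w) (h2 : w < 3) (e : Fin w × C3 ↪ D.R) (d : Fin w → ℂˣ) (y : D.R → ℂˣ) :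
    ¬ 3 ∣ (Wc (D := D) (lab e d y)).index := L.idx hw e 1 (order_one h2) fun b n => by
  rw [map_one, _root_.one_zpow, mul_one]
  exact lab_comp e d y fun _ => rfl

variable (h3 : 3 ∣ Q - 1) [Nonempty D.R] (hA : Api f)
include h3 hA

theorem cmp {φ φ' : D.W → ℂ} {c c' : Lbl D} {ψ : IrrCharacter S} (hφ : IsClassFunction D.W φ) (h : Rep f L.w0 s φ c ψ)
    (h' : Rep f L.w0 s φ' c' ψ) : (∃ (σ : Perm D.R) (z : ℂˣ), c' ∘ σ = c * fun _ => z) ∧
      classInner (ch f L.w0 φ c') (ch f L.w0 φ' c') ≠ 0 := by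
  obtain ⟨cl, v, h1, h2, h4⟩ := h.cmp (L.sc h3) hA hφ h'
  obtain ⟨z, rfl⟩ := L.const_of_tw h3 hA h1
  exact ⟨⟨_, z, L.rel_iff.1 h2⟩, h4⟩

theorem cmp_se {b b' : Bool} {c c' : Lbl D} {ψ : IrrCharacter S} (h : Rep f L.w0 s (se b) c ψ)
    (h' : Rep f L.w0 s (se b') c' ψ) (hc : Ok Q c') {i j : D.R} (hij : i ≠ j) (e : c' i = c' j) : b = b' :=
  eq_of_ip_se (L.sc h3) ((fx_sc (L.sc h3)).2 hc.1) (u := L.e.symm (swap i j))
    (L.rel_iff.2 (by rw [MulEquiv.apply_symm_apply]; exact funext (apply_swap_eq_self e)))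
    (by rw [L.sg_eq, MulEquiv.apply_symm_apply, Perm.sign_swap hij]; simp) (L.cmp h3 hA (cls_se b) h h').2

theorem ne_uni {φ φ' : D.W → ℂ} {c : Lbl D} {ψ ψ' : IrrCharacter S} (hφ : IsClassFunction D.W φ)
    (h : Rep f L.w0 s φ 1 ψ) (h' : Rep f L.w0 s φ' c ψ') {i j : D.R} (hc : c i ≠ c j) : ψ ≠ ψ' := by
  rintro rfl
  obtain ⟨⟨σ, z, h1⟩, -⟩ := L.cmp h3 hA hφ h h'
  obtain ⟨i, rfl⟩ := σ.surjective i
  obtain ⟨j, rfl⟩ := σ.surjective j
  exact hc ((congrFun h1 i).trans (congrFun h1 j).symm)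

variable (hp : p ≠ 3) (hM : IsPModular 3 M)
include hp hM

/-- the unipotent members -/
theorem exists_uni {n : ℕ} (h : n ≤ Sym.n3 (Perm D.R)) : ∃ U : Fin n → IrrCharacter S, Function.Injective U ∧
    (∀ i, Mem M (U i) ∧ ∀ σ, Fixes σ (U i)) ∧ ∀ i, ∃ φ, IsClassFunction D.W φ ∧ Rep f L.w0 s φ 1 (U i) := by
  obtain ⟨μ, h1, h2⟩ := Sym.exists_fam h
  have h4 := fun i => isIrr_isClassFunction (μ i).2
  choose U hU hU' using fun i => exists_rep s (L.sc h3) hA hp hM (fx_one _) ⟨0, one_pow _⟩ (L.cls_uni (h4 i))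
    (L.gen_uni h3 hA (μ i).2) ((L.ip_uni h3 (h4 i)).trans (classInner_irr_self (μ i).2))
    (n := charDegree (μ i).1) (by rw [Function.comp_apply, map_one, Blocks.Basic.irr_one_eq_charDegree (μ i).2]) (h2 i)
    (by rw [Wc_one, Subgroup.index_top]; decide) (s.z1_one.zw _) fun cl v _ h => by
      rw [← one_mul cl, eq_one_of_rel h]
  refine ⟨U, fun i j e => h1 (by_contra fun hne => ?_), fun i => ⟨hU i, fun σ => ?_⟩, fun i => ⟨_, L.cls_uni (h4 i), hU' i⟩⟩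
  · have h5 := (L.cmp h3 hA (L.cls_uni (h4 i)) (hU' i) (e ▸ hU' j)).2
    rw [L.ip_uni h3 (h4 i), classInner_irr (μ i).2 (μ j).2, if_neg fun e => hne (Subtype.ext e)] at h5
    exact h5 rfl
  · obtain ⟨a, -, h5⟩ := exists_tr (w₀ := L.w0) s hA L.adm σ
    have h6 := h5 _ _ _ (fx_one _) ⟨0, one_pow _⟩ (hU' i)
    rw [_root_.one_zpow] at h6
    exact congrFun (congrArg Subtype.val (h6.unique (hU' i)))

/-- the members of a Levi subgroup -/
theorem exists_lev {c : Lbl D} (hc : Ok Q c) (hi : ¬ 3 ∣ (Wc c).index)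
    (ht : ∀ (σ : Perm D.R) (z : ℂˣ), (c * fun _ => z) ∘ σ = c → z = 1) (b : Bool) :
    ∃ ψ : IrrCharacter S, Mem M ψ ∧ Rep f L.w0 s (se b) c ψ := by
  have hF := (fx_sc (L.sc h3)).2 hc.1
  refine exists_rep s (L.sc h3) hA hp hM hF hc.2.1 (cls_se b) (L.gen_se h3 hA hF b) (norm_se (L.sc h3) hF b) (n := 1)
    (by rw [se_one, Nat.cast_one]) (by decide) hi ((L.z1_of_ok h3 hA hc).zw _) fun cl v h1 h2 => ?_
  obtain ⟨z, rfl⟩ := L.const_of_tw h3 hA h1
  rw [ht _ z (L.rel_iff.1 h2)]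
  rfl

theorem exists_lev' (hm : ¬ 3 ∣ Fintype.card D.R) {c : Lbl D} (hc : Ok Q c) (hi : ¬ 3 ∣ (Wc c).index) (b : Bool) :
    ∃ ψ : IrrCharacter S, Mem M ψ ∧ Rep f L.w0 s (se b) c ψ := by
  refine L.exists_lev h3 hA hp hM hc hi (fun σ z h => ?_) b
  obtain ⟨j, hj⟩ := hc.2.1
  obtain ⟨i⟩ := ‹Nonempty D.R›
  refine (pow_eq_one_iff_of_coprime (Nat.Coprime.pow_left j
    ((Nat.Prime.coprime_iff_not_dvd Nat.prime_three).2 hm))).1 ⟨?_, ?_⟩
  · have h1 : (c (σ i) * z) ^ 3 ^ j = c i ^ 3 ^ j := congrArg (· ^ 3 ^ j) (congrFun h i)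
    rwa [mul_pow, show c (σ i) ^ 3 ^ j = 1 from congrFun hj _, show c i ^ 3 ^ j = 1 from congrFun hj _, one_mul] at h1
  · have h1 : ∏ i, c (σ i) * z = ∏ i, c i := Finset.prod_congr rfl fun i _ => congrFun h i
    rwa [Finset.prod_mul_distrib, Equiv.prod_comp σ c, Finset.prod_const, Finset.card_univ, mul_eq_left] at h1

omit hp hM in
/-- the action of an automorphism on the series of the labels `(x, 1, …, 1)` -/
theorem tr_single (σ : MulAut S) {r i j : D.R} (hi : i ≠ r) (hj : j ≠ r) (hij : i ≠ j) : ∃ a : ℤ, ¬ 3 ∣ a ∧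
    ∀ (b : Bool) (x : ℂˣ) (ψ : IrrCharacter S), x ≠ 1 → Ok Q (Pi.mulSingle r x) → Rep f L.w0 s (se b) (Pi.mulSingle r x) ψ →
      Rep f L.w0 s (se b) (Pi.mulSingle r (x ^ a)) (tr σ ψ) ∧
        ∀ (n : ℕ) (t : S), σ ^ n = MulAut.conj t → x ^ a ^ n = x := by
  obtain ⟨a, ha, h1⟩ := exists_tr (w₀ := L.w0) s hA L.adm σ
  refine ⟨a, ha, fun b x ψ hx hc h => ?_⟩
  have h2 : ∀ n : ℕ, Rep f L.w0 s (se b) (Pi.mulSingle r x ^ a ^ n) (tr (σ ^ n : MulAut S) ψ) := fun n => by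
    induction n with
    | zero => rwa [pow_zero, zpow_one]
    | succ n ih =>
      have h4 := hc.zpow (a ^ n)
      rw [pow_succ, _root_.zpow_mul, pow_succ]
      exact h1 _ _ _ ((fx_sc (L.sc h3)).2 h4.1) h4.2.1 ih
  refine ⟨by simpa only [pow_one, Pi.mulSingle_zpow] using h2 1, fun n t ht => ?_⟩
  have h4 := h2 n
  rw [ht, show tr (MulAut.conj t) ψ = ψ from Subtype.ext (funext (fixes_conj t ψ)), ← Pi.mulSingle_zpow] at h4
  obtain ⟨⟨τ, z, h5⟩, -⟩ := L.cmp h3 hA (cls_se b) h4 h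
  obtain ⟨l, hl⟩ := hc.2.1
  refine single_eq hi hj hij (zpow_ne_one hx (j := l) (by simpa using congrFun hl r) fun h6 => ha ?_) h5
  exact Int.prime_three.dvd_of_dvd_pow h6

end ALike

end Cfsg.Agent.KZ.ClA

private theorem dce_705d5b585a0a : _root_.True := by
  try have : _root_.True := by simp only [_root_.Cfsg.Agent.KZ.ClA.Rep.congr_simp]
  exact _root_.True.intro
end

-- part: KZ/ClA/Nine
section
prune_inst 0x51450552518a200000000400032003c22c600009010088800a0000a44078128028040012020801002000a0a0c0034010813100080c20000000a000000011c00800008140080488008800000010080000000000000000000000000000000000000000000000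
set_option linter.all false
open scoped Cfsg.Agent.FastGrp

/-!
# KZ, type A (helper18): degree `9`, a character which splits into three constituents
-/

set_option autoImplicit false
set_option linter.unusedSectionVars false

namespace Cfsg.Agent.KZ.ClA

open Cfsg Cfsg.Agent.DL Cfsg.Agent.DL.PP Cfsg.Agent.DL.Uni Cfsg.Agent.KZ.Lie Cfsg.Agent.KZ.Cl Cfsg.Agent.KZ.Alt
  Cfsg.Agent.KZ.Res Cfsg.Agent.KZ.Dat Cfsg.Agent.Characters.Core Matrix Equiv

attribute [local instance] fact3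

theorem nrm_unit {r : ℤ} (h : ¬ 3 ∣ r) : ‖(r : PadicAlgCl 3)‖ = 1 := by
  rw [nrm_int]
  exact le_antisymm (Padic.norm_int_le_one r) (not_lt.1 fun e => h (Padic.norm_intCast_lt_one_iff.1 e))

/-- the `3`-part of `det (q u - 1)` is smaller than that of `det (q - 1)` unless `u = 1` -/
theorem trace_of_dvd_det {R : Type} [Fintype R] [DecidableEq R] {q : ℤ} (hq : 3 ∣ q - 1) (hq1 : q - 1 ≠ 0) {n : ℕ}
    (hn : n ≠ 0) {A : Matrix R R ℤ} (h : A ^ n = (q ^ n) • 1) {j : ℕ} (hj : (3 : ℤ) ^ j ∣ (A - 1).det) {r : ℤ}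
    (hr : (q - 1) ^ Fintype.card R = 3 ^ j * r) (h3 : ¬ 3 ∣ r) : A.trace = Fintype.card R * q := by
  let φ := Int.castRingHom (PadicAlgCl 3)
  have hs := IsAlgClosed.splits (φ.mapMatrix (A - 1)).charpoly
  have hc : (φ.mapMatrix (A - 1)).charpoly.roots.card = Fintype.card R := by
    rw [← hs.natDegree_eq_card_roots, charpoly_natDegree_eq_dim]
  have h1 : ∀ μ ∈ (φ.mapMatrix (A - 1)).charpoly.roots, (μ + 1) ^ n = q ^ n := fun μ hμ => by
    have h1 : μ + 1 ∈ spectrum (PadicAlgCl 3) (φ.mapMatrix A) := by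
      have := mem_spectrum_iff_isRoot_charpoly.2 (Polynomial.isRoot_of_mem_roots hμ)
      rwa [← spectrum.add_mem_add_iff (s := 1), map_sub, map_one, map_one, add_sub_cancel] at this
    have h2 := spectrum.pow_mem_pow _ n h1
    rw [← map_pow, h, map_zsmul, map_one, spectrum.mem_iff, zsmul_one,
      ← map_intCast (algebraMap (PadicAlgCl 3) (Matrix R R (PadicAlgCl 3))), ← map_sub] at h2
    by_contra h3
    exact h2 ((Ne.isUnit (sub_ne_zero.2 (by push_cast; exact h3))).map _)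
  have h2 : ‖((A - 1).det : PadicAlgCl 3)‖ ≤ ‖((q - 1 : ℤ) : PadicAlgCl 3)‖ ^ Fintype.card R := by
    rw [← norm_pow, ← Int.cast_pow, hr, Int.cast_mul, norm_mul, nrm_unit h3, mul_one]
    refine ((nrm_le_iff _ j).2 hj).trans (le_of_eq ?_)
    push_cast
    rw [norm_pow, nrm_three]
    simp
  have h4 : ‖((q - 1 : ℤ) : PadicAlgCl 3)‖ ≤ 3⁻¹ := by simpa using (nrm_le_iff (q - 1) 1).2 (by simpa using hq)
  have h5 : ‖(q : PadicAlgCl 3)‖ = 1 := nrm_unit (by omega)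
  have h6 : (q : PadicAlgCl 3) ≠ 0 := fun e => by simp [e] at h5
  have h7 : ∀ μ ∈ (φ.mapMatrix (A - 1)).charpoly.roots, μ = ((q - 1 : ℤ) : PadicAlgCl 3) := fun μ hμ => by
    obtain ⟨t, ht⟩ := Multiset.exists_cons_of_mem hμ
    have h8 : ‖((q - 1 : ℤ) : PadicAlgCl 3)‖ ^ t.card ≤ ‖t.prod‖ := by
      rw [← coe_nnnorm, ← coe_nnnorm, ← NNReal.coe_pow, NNReal.coe_le_coe, ← nnnormHom_apply, ← nnnormHom_apply,
        map_multiset_prod, ← Multiset.card_map nnnormHom]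
      refine Multiset.pow_card_le_prod fun r hr => ?_
      obtain ⟨ν, hν, rfl⟩ := Multiset.mem_map.1 hr
      exact nrm_sub_le hq hn (h1 ν (ht ▸ Multiset.mem_cons_of_mem hν))
    rw [show ((A - 1).det : PadicAlgCl 3) = (φ.mapMatrix (A - 1)).det from φ.map_det _,
      det_eq_prod_roots_charpoly_of_splits hs, ← hc, ht, Multiset.prod_cons, Multiset.card_cons, norm_mul, pow_succ'] at h2
    have h9 : 0 < ‖((q - 1 : ℤ) : PadicAlgCl 3)‖ ^ t.card := pow_pos (norm_pos_iff.2 (Int.cast_ne_zero.2 hq1)) _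
    have h10 : ‖μ‖ ≤ 3⁻¹ :=
      (le_of_mul_le_mul_right ((mul_le_mul_of_nonneg_left h8 (norm_nonneg μ)).trans h2) h9).trans h4
    have h11 := eq_one_of_nrm hn (x := (μ + 1) / q) (by
      rw [div_sub_one h6, norm_div, h5, div_one, show μ + 1 - q = μ + -((q - 1 : ℤ) : PadicAlgCl 3) by push_cast; ring]
      exact (IsUltrametricDist.norm_add_le_max _ _).trans (max_le h10 (by rwa [norm_neg])))
      (by rw [div_pow, h1 μ hμ, div_self (pow_ne_zero _ h6)])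
    rw [div_eq_one_iff_eq h6] at h11
    rw [eq_sub_of_add_eq h11]
    push_cast
    rfl
  have h8 := trace_eq_sum_roots_charpoly_of_splits hs
  rw [Multiset.eq_replicate_card.2 h7, hc, Multiset.sum_replicate, map_sub, map_one, trace_sub, trace_one, nsmul_eq_mul,
    show (φ.mapMatrix A).trace = (A.trace : PadicAlgCl 3) from (AddMonoidHom.map_trace φ A).symm] at h8
  apply Int.cast_injective (α := PadicAlgCl 3)
  push_cast at h8 ⊢
  linear_combination h8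

variable {p : ℕ} [Fact p.Prime] {k : Type} [Field k] [CharP k p] {Y : Type} [Group Y] {N : Type} [Fintype N]
  [DecidableEq N] {ρ : Y →* GL N k} {F : MulAut Y} {G : Subgroup Y} [IsAlgClosed k] {D : Datum p ρ F G}
  [Fintype ↥(GF F G)] {Adm : Matrix D.R D.R ℤ → Prop} {S : Type} [Group S] {s : Sit D Adm S} {Q : ℤ} {f : Fr D}
  {M : Ideal AlgInt}

namespace ALike

variable (L : ALike s Q) (h3 : 3 ∣ Q - 1) [Nonempty D.R]
include L h3

theorem fact_lt {u : D.W} (hu : u ≠ 1) : (ordT D (u * L.w0)).factorization 3 < (ordT D L.w0).factorization 3 := by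
  have hsc := L.sc h3
  by_contra hc
  obtain ⟨r, hr⟩ := Nat.ordProj_dvd (ordT D L.w0) 3
  have h1 : ¬ 3 ∣ r := fun h => Nat.pow_succ_factorization_not_dvd (ordT_ne L.w0) Nat.prime_three (by
    rw [pow_succ]
    nth_rewrite 2 [hr]
    exact Nat.mul_dvd_mul_left _ h)
  have h2 : (3 : ℤ) ^ (ordT D L.w0).factorization 3 ∣ (D.Wm (u * L.w0) * D.Mx - 1).det := by
    have := (Nat.prime_three.pow_dvd_iff_le_factorization (ordT_ne (u * L.w0))).2 (not_lt.1 hc)
    exact_mod_cast Int.natCast_dvd.2 this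
  obtain ⟨r', hr', h4⟩ : ∃ r' : ℤ, (Q - 1) ^ Fintype.card D.R = 3 ^ (ordT D L.w0).factorization 3 * r' ∧ ¬ 3 ∣ r' := by
    have h5 : (((Q - 1) ^ Fintype.card D.R).natAbs : ℤ) = 3 ^ (ordT D L.w0).factorization 3 * r := by
      rw [Int.natAbs_pow, ← hsc.ordT_eq]
      exact_mod_cast hr
    rcases Int.natAbs_eq ((Q - 1) ^ Fintype.card D.R) with h | h
    · exact ⟨r, h.trans h5, by exact_mod_cast h1⟩
    · exact ⟨-r, by rw [h, h5, mul_neg], by rw [dvd_neg]; exact_mod_cast h1⟩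
  have h5 := trace_of_dvd_det h3 (L.Q_ne h3) (orderOf_pos u).ne' (by
    rw [hsc.Wm_mul, mul_inv_cancel_right, smul_pow, Wm_pow_orderOf]) h2 hr' h4
  rw [hsc.Wm_mul, mul_inv_cancel_right, trace_smul, smul_eq_mul, mul_comm, mul_left_inj' hsc.ne_zero, L.Wm_eq] at h5
  simp only [trace, diag_apply, spm_apply, Pi.one_apply, Units.val_one, Finset.sum_boole, Nat.cast_inj] at h5
  refine hu (L.e.injective (Equiv.ext fun i => ?_))
  rw [map_one]
  exact ((Finset.mem_filter.1 ((Finset.eq_univ_of_card _ h5).ge (Finset.mem_univ i))).2).symm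

variable (hA : Api f) (hp : p ≠ 3)
include hA hp

theorem deg_int {c : Lbl D} {w : D.W} (hF : Fx D w c) : ∃ n : ℤ, RW f w c 1 = n ∧ n ≠ 0 ∧
    n.natAbs.factorization 3 + (ordT D w).factorization 3 =
      (ordT D L.w0).factorization 3 + (Fintype.card D.R).factorial.factorization 3 := by
  obtain ⟨χ, ψ, h1, h2, h4⟩ := hA.gen w c
  have h5 : RW f w c 1 = ((charDegree χ : ℤ) - charDegree ψ : ℤ) := by
    rw [h4, Pi.sub_apply, ← deg_cast h1, ← deg_cast h2]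
    simp
  have h6 := hA.deg w c hF
  have h7 : ((charDegree χ : ℤ) - charDegree ψ).natAbs * ordT D w = pc' p (GF F G) := by
    rw [h5, Lie.sg_eq] at h6
    have h8 : ((charDegree χ : ℤ) - charDegree ψ) * ordT D w = sgZ D w * pc' p (GF F G) := by exact_mod_cast h6
    have h9 := congrArg Int.natAbs h8
    rcases sgZ_sign D w with h | h <;> simpa [Int.natAbs_mul, h] using h9
  have h8 : pc' p (GF F G) ≠ 0 := (Nat.ordCompl_pos p Nat.card_pos.ne').ne'
  have h9 : ((charDegree χ : ℤ) - charDegree ψ).natAbs ≠ 0 := fun e => h8 (by rw [← h7, e, zero_mul])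
  refine ⟨_, h5, Int.natAbs_ne_zero.1 h9, ?_⟩
  rw [← Finsupp.add_apply, ← Nat.factorization_mul h9 (ordT_ne w), h7, pc', Nat.factorization_ordCompl,
    Finsupp.erase_ne hp.symm, (L.sc h3).cardC hp, Nat.factorization_mul (ordT_ne _) Nat.card_pos.ne', (L.sc h3).cw_top,
    Subgroup.card_top, Nat.card_congr L.e.toEquiv, Nat.card_perm, Nat.card_eq_fintype_card, Finsupp.add_apply]

theorem nine (hS : commutator S = ⊤) (hM : IsPModular 3 M) (hm : Fintype.card D.R = 9) [Finite S]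
    (hC : ∀ T : Sylow 3 S, ∀ x ∈ Subgroup.centralizer (T : Set S), ¬ 3 ∣ orderOf x → x = 1) :
    ∃ ψ : IrrCharacter S, Mem M ψ ∧ ∀ φ ψ', IsClassFunction D.W φ → Rep f L.w0 s φ 1 ψ' → ψ' ≠ ψ := by
  have hsc := L.sc h3
  have h31 : (3 : ℤ) ^ 1 ∣ Q - 1 := by rwa [pow_one]
  obtain ⟨ω, hω⟩ := exists_root (n := 3) (by norm_num)
  obtain ⟨e⟩ := exists_emb (R := D.R) (w := 3) (by omega)
  have he : Function.Surjective e := ((Fintype.bijective_iff_injective_and_card e).2 ⟨e.injective, by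
    simp only [Fintype.card_prod, Fintype.card_fin, Fintype.card_multiplicative, ZMod.card]
    omega⟩).2
  set c := lab e (fun b : Fin 3 => ω ^ (b : ℕ)) 1 with hc
  have hc3 : c ^ 3 = 1 := lab_pow e (fun b => pow_pow_eq hω _) fun _ => one_pow _
  have hok : Ok Q c := ok_of_pow (j := 1) hc3 h31 (.inl (prod_lab e fun b => pow_pow_eq hω _))
  have hF : Fx D L.w0 c := (fx_sc hsc).2 hok.1
  obtain ⟨χ, ε, h1, h2⟩ := exists_irr (L.gen_one h3 hA hF) (norm_se hsc hF false)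
  have hε : (ε : ℂ) ≠ 0 := by rcases h1 with rfl | rfl <;> simp
  have hrot : ∀ i : ℕ, c ∘ Perm.viaEmbeddingHom e (q0 (finRotate 3 ^ i)) = c * fun _ => ω ^ i := fun i => by
    funext r
    obtain ⟨x, rfl⟩ := he r
    rw [Function.comp_apply, Perm.viaEmbeddingHom_apply, Perm.viaEmbedding_apply, Pi.mul_apply, hc, lab_e, lab_e, q0_apply,
      ← pow_add, pow_eq_pow_iff_modEq, hω]
    induction i with
    | zero => rfl
    | succ i ih =>
      rw [pow_succ', Perm.mul_apply]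
      exact ((by decide : ∀ b : Fin 3, ((finRotate 3 b : Fin 3) : ℕ) ≡ b + 1 [MOD 3]) _).trans (ih.add_right 1)
  have htw : ∀ i : Fin 3, s.Tw f fun _ => ω ^ (i : ℕ) := fun i => L.tw_const h3 hA hS (by
    obtain ⟨n, hn⟩ := h3
    rw [hn, _root_.zpow_mul, show (ω ^ (i : ℕ)) ^ (3 : ℤ) = 1 from pow_pow_eq hω _, _root_.one_zpow])
  choose l hl hl' using htw
  have hlc : ∀ (l : ↥(GF F G) →* ℂˣ) (z : ℂˣ), (∀ w c g, RW f w (c * fun _ => z) g = l g * RW f w c g) →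
      ∀ g, ch f L.w0 (fun _ => 1) (1 * fun _ => z) g = l g := fun l z h g => by
    rw [ch_twist (L.rel_const z) h, ch_one_one hA, mul_one]
  have hcard : Nat.card {l : ↥(GF F G) →* ℂˣ //
      (∀ h : ↥s.H0, l ⟨h, s.le h.2⟩ = 1) ∧ ∀ g, l g * χ.1 g = χ.1 g} = 3 := by
    refine (Nat.card_eq_of_bijective (fun i : Fin 3 => (⟨l i, hl i, fun g => ?_⟩ : {l : ↥(GF F G) →* ℂˣ //
      (∀ h : ↥s.H0, l ⟨h, s.le h.2⟩ = 1) ∧ ∀ g, l g * χ.1 g = χ.1 g})) ⟨fun i j hij => ?_, fun ⟨l', h4, h5⟩ => ?_⟩).symm.trans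
      (Nat.card_fin 3)
    · rw [h2, Pi.smul_apply, smul_eq_mul, mul_left_comm, ← ch_twist (L.rel_const _) (hl' i),
        ch_rel hsc (φ := fun _ => 1) (fun _ _ => rfl)
          (v := L.e.symm (Perm.viaEmbeddingHom e (q0 (finRotate 3 ^ (i : ℕ)))))
          (L.rel_iff.2 (by rw [MulEquiv.apply_symm_apply]; exact hrot i))]
    · have h4 : l i = l j := congrArg Subtype.val hij
      have h5 : ch f L.w0 (fun _ => 1) (1 * fun _ => ω ^ (i : ℕ)) = ch f L.w0 (fun _ => 1) (1 * fun _ => ω ^ (j : ℕ)) :=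
        funext fun g => by rw [hlc _ _ (hl' i), hlc _ _ (hl' j), h4]
      obtain ⟨v, hv⟩ := rel_of_ch' (f := f) (w₀ := L.w0) (φ := fun _ => 1) (φ' := fun _ => 1)
        (c := 1 * fun _ => ω ^ (i : ℕ)) (c' := 1 * fun _ => ω ^ (j : ℕ)) (by
          rw [h5]
          refine (norm_se hsc ?_ false).trans_ne one_ne_zero
          rw [one_mul]
          exact ((show s.Tw f _ from ⟨l j, hl j, hl' j⟩).props hA).2.1 _)
      have h6 := congrFun (L.rel_iff.1 hv) (e (0, 1))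
      simp only [Function.comp_apply, Pi.mul_apply, Pi.one_apply, one_mul] at h6
      exact fin_inj hω (by rw [h6]; simp)
    · obtain ⟨cl, h6, h7, -, -, h8⟩ := s.exists_lbl hA h4
      obtain ⟨z, rfl⟩ := L.const_of_tw h3 hA h6
      obtain ⟨v, hv⟩ := rel_of_ch' (f := f) (w₀ := L.w0) (φ := fun _ => 1) (φ' := fun _ => 1) (c := c * fun _ => z)
        (c' := c) (by
          have h9 : ch f L.w0 (fun _ => 1) (c * fun _ => z) = ch f L.w0 (fun _ => 1) c := funext fun g => by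
            have h10 := h5 g
            rw [h2, Pi.smul_apply, smul_eq_mul, mul_left_comm] at h10
            rw [ch_twist h7 h8, mul_left_cancel₀ hε h10]
          rw [h9]
          exact (norm_se hsc hF false).trans_ne one_ne_zero)
      have h9 : c (L.e v (e (0, 1))) ^ 3 = (c (e (0, 1)) * z) ^ 3 := congrArg (· ^ 3) (congrFun (L.rel_iff.1 hv) (e (0, 1)))
      rw [mul_pow, show c (L.e v (e (0, 1))) ^ 3 = 1 from congrFun hc3 _, show c (e (0, 1)) ^ 3 = 1 from congrFun hc3 _,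
        one_mul] at h9
      obtain ⟨n, rfl⟩ := eq_pow_of_cube hω h9.symm
      refine ⟨⟨n % 3, Nat.mod_lt _ (by norm_num)⟩, Subtype.ext (MonoidHom.ext fun g => Units.ext ?_)⟩
      show (l _ g : ℂ) = l' g
      have h10 : ω ^ (n % 3) = ω ^ n := by rw [← hω, pow_mod_orderOf]
      rw [← hlc _ _ (hl' _), ← hlc _ _ h8, h10]
  have hne : classInner χ.1 (RW f L.w0 c) ≠ 0 := by
    rw [h2, classInner_smul_left, ip_ch_one hsc hF (φ := fun _ => 1) (fun _ _ => rfl)]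
    exact mul_ne_zero hε one_ne_zero
  obtain ⟨ψ, -, -, h4⟩ := s.split3 (s.ker_of_zw hne ((L.z1_of_ok h3 hA hok).zw _)) hcard
  obtain ⟨T⟩ : Nonempty (Sylow 3 S) := inferInstance
  refine ⟨ψ 0, Tool.mem_of_cent hM T (hC T) fun h5 => ?_, fun φ ψ' hφ ⟨χ', ε', _, h5, h6⟩ h7 => ?_⟩
  · have := Fintype.ofFinite (Wc c)
    choose n hn hn0 hn' using fun u : Wc c => L.deg_int h3 hA hp (hF.mul u.2)
    have h6 : (Nat.card (Wc c) : ℤ) * charDegree χ.1 = ε * ∑ u, n u := by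
      apply Int.cast_injective (α := ℂ)
      push_cast
      rw [deg_cast (isIrr_isCharacter χ.2), congrFun h2 1, Pi.smul_apply, ch, avg_eq, Pi.smul_apply, Finset.sum_apply]
      simp only [Pi.smul_apply, smul_eq_mul, one_mul, hn]
      rw [mul_left_comm, mul_inv_cancel_left₀ (Nat.cast_ne_zero.2 Nat.card_pos.ne')]
    have h7 : 27 ∣ Nat.card (Wc c) := by
      have h8 := Subgroup.card_dvd_of_injective
        ((L.e.symm.toMonoidHom.comp ((Perm.viaEmbeddingHom e).comp b0)).codRestrict (Wc c) fun b => L.rel_iff.2 (by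
          show c ∘ L.e (L.e.symm (Perm.viaEmbeddingHom e (b0 b))) = c
          rw [MulEquiv.apply_symm_apply]
          exact lab_comp e _ _ fun _ => rfl)) fun a b hab => by
        have h9 : b0 a = b0 b := Perm.viaEmbeddingHom_injective e (L.e.symm.injective (congrArg Subtype.val hab))
        funext i
        simpa [b0_apply] using DFunLike.congr_fun h9 (i, 1)
      rwa [Nat.card_fun, card_C3, Nat.card_fin] at h8
    have h8 : (9 : ℕ).factorial.factorization 3 = 4 := by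
      rw [factorization_factorial, factorization_factorial]
      simp
    have h9 : (3 : ℤ) ^ 5 ∣ ∑ u, n u := by
      have h10 : (3 : ℤ) ^ 5 ∣ ε * ∑ u, n u := by
        rw [← h6, ← (h4 0).2]
        obtain ⟨a, ha⟩ := h5
        obtain ⟨b, hb⟩ := h7
        exact ⟨a * b, by rw [ha, hb]; push_cast; ring⟩
      rcases h1 with rfl | rfl <;> simpa using h10
    classical
    rw [← Finset.add_sum_erase _ _ (Finset.mem_univ 1), dvd_add_left (Finset.dvd_sum fun u hu => ?_)] at h9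
    · have h10 := hn' 1
      rw [OneMemClass.coe_one, one_mul, hm, h8] at h10
      have h11 := (Nat.prime_three.pow_dvd_iff_le_factorization (Int.natAbs_ne_zero.2 (hn0 1))).1
        (Int.natCast_dvd.1 (show ((3 ^ 5 : ℕ) : ℤ) ∣ n 1 from h9))
      omega
    · have h10 := hn' u
      have h11 := L.fact_lt h3 (u := u) fun e => Finset.ne_of_mem_erase hu (Subtype.ext e)
      rw [hm, h8] at h10
      exact Int.natCast_dvd.2 ((Nat.prime_three.pow_dvd_iff_le_factorization (k := 5)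
        (Int.natAbs_ne_zero.2 (hn0 u))).2 (by omega))
  · obtain ⟨cl, v, h8, h9, -⟩ := ov_cmp hsc hA hφ h5 h2 h6.ov (h7 ▸ (h4 0).1)
    obtain ⟨z, rfl⟩ := L.const_of_tw h3 hA h8
    have h10 : ∀ r, c r = z := fun r => by
      obtain ⟨r, rfl⟩ := (L.e v).surjective r
      simpa using congrFun (L.rel_iff.1 h9) r
    have h11 := (h10 (e (1, 1))).trans (h10 (e (0, 1))).symm
    rw [hc, lab_e, lab_e] at h11
    exact absurd (fin_inj hω (i := 1) (j := 0) (by rw [h11]; simp)) (by decide)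

end ALike

end Cfsg.Agent.KZ.ClA

private theorem dce_8497a5c2a569 : _root_.True := by
  try have : _root_.True := by simp only [_root_.Cfsg.Agent.DL.Uni.pc'.eq_1]
  exact _root_.True.intro
end

-- part: KZ/ClA/Ten
section
prune_inst 0x2200880000000000000000000000000004010000
set_option linter.all false
open scoped Cfsg.Agent.FastGrp

/-!
# KZ, type A (helper18): ten members, and four members fixed by an automorphism of order `3`
-/

set_option autoImplicit false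
set_option linter.unusedSectionVars false

namespace Cfsg.Agent.KZ.ClA

open Cfsg Cfsg.Agent.DL Cfsg.Agent.DL.PP Cfsg.Agent.KZ.Lie Cfsg.Agent.KZ.Cl Cfsg.Agent.KZ.Alt Cfsg.Agent.KZ.Res
  Cfsg.Agent.Characters.Core Matrix Equiv

attribute [local instance] fact3

theorem ne_one_of_order {ω : ℂˣ} (hω : orderOf ω = 3) : ω ≠ 1 := fun e => by
  rw [e, orderOf_one] at hω
  omega

theorem no_twist {R : Type} {ω : ℂˣ} (hω : orderOf ω = 3) {c : R → ℂˣ} (h : ∀ r, c r = 1 ∨ c r = ω) {i j : R}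
    (hi : c i = 1) (hj : c j = ω) (σ : Perm R) (z : ℂˣ) (e : (c * fun _ => z) ∘ σ = c) : z = 1 := by
  obtain ⟨i, rfl⟩ := σ.surjective i
  obtain ⟨j, rfl⟩ := σ.surjective j
  have h1 : c (σ i) * z = c i := congrFun e i
  have h2 : c (σ j) * z = c j := congrFun e j
  rw [hi, one_mul] at h1
  rw [hj] at h2
  rcases h j with h3 | h3
  · rcases h i with h4 | h4
    · exact h1.trans h4
    · have h5 := orderOf_dvd_of_pow_eq_one (n := 2) (x := ω) (by rw [pow_two, ← h3, ← h2, h1, h4])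
      rw [hω] at h5
      omega
  · exact mul_eq_left.1 (h2.trans h3)

theorem lab_val {R : Type} [Fintype R] [DecidableEq R] {w : ℕ} (e : Fin w × C3 ↪ R) {d : Fin w → ℂˣ} {ω : ℂˣ}
    (h : ∀ i, d i = 1 ∨ d i = ω) (r : R) : lab e d 1 r = 1 ∨ lab e d 1 r = ω := by
  by_cases hr : r ∈ Set.range e
  · obtain ⟨x, rfl⟩ := hr
    rw [lab_e]
    exact h _
  · exact .inl (lab_out _ _ _ hr)

theorem exists_out2 {R : Type} [Fintype R] [DecidableEq R] {w : ℕ} (e : Fin w × C3 ↪ R) (h : 3 * w + 2 ≤ Fintype.card R) :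
    ∃ r r', r ≠ r' ∧ r ∉ Set.range e ∧ r' ∉ Set.range e := by
  obtain ⟨r, hr, r', hr', h1⟩ := (Finset.one_lt_card (s := (Finset.univ.map e)ᶜ)).1 (by
    rw [Finset.card_compl, Finset.card_map, Finset.card_univ]
    simp only [Fintype.card_prod, Fintype.card_fin, Fintype.card_multiplicative, ZMod.card]
    omega)
  exact ⟨r, r', h1, by simpa using hr, by simpa using hr'⟩

theorem ok_single {R : Type} [Fintype R] [DecidableEq R] {Q : ℤ} (hm : ¬ 3 ∣ Fintype.card R) (r : R) {x : ℂˣ} {j : ℕ}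
    (hx : x ^ 3 ^ j = 1) (hQ : (3 : ℤ) ^ j ∣ Q - 1) : Ok Q (Pi.mulSingle r x : R → ℂˣ) :=
  ok_of_pow (j := j) (by rw [← Pi.mulSingle_pow, hx, Pi.mulSingle_one]) hQ (.inr hm)

/-- representatives of the nonzero residues modulo `9` up to sign -/
def ex4 : Fin 4 → ℕ := ![1, 2, 3, 4]

theorem ex4_eq {a : ℤ} {n : ℕ} (hn : ¬ 3 ∣ n) (h : a ^ n ≡ 1 [ZMOD 9]) {i j : Fin 4} (h' : ex4 i * a ≡ ex4 j [ZMOD 9]) :
    i = j := by
  have h1 : (a : ZMod 9) ^ n = 1 := by exact_mod_cast (ZMod.intCast_eq_intCast_iff _ _ 9).2 h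
  have h2 : (ex4 i : ZMod 9) * a = ex4 j := by exact_mod_cast (ZMod.intCast_eq_intCast_iff _ _ 9).2 h'
  generalize (a : ZMod 9) = b at h1 h2
  have h3 : b ^ 6 = 1 := by
    refine (by decide : ∀ b c : ZMod 9, b * c = 1 → b ^ 6 = 1) b (b ^ (n - 1)) ?_
    rwa [← pow_succ', Nat.sub_add_cancel (by omega)]
  rw [← Nat.div_add_mod n 6, pow_add, pow_mul, h3, one_pow, one_mul] at h1
  exact (by decide : ∀ (b : ZMod 9) (m : Fin 6) (i j : Fin 4), ¬ 3 ∣ (m : ℕ) → b ^ (m : ℕ) = 1 →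
    (ex4 i : ZMod 9) * b = ex4 j → i = j) b ⟨n % 6, Nat.mod_lt _ (by norm_num)⟩ i j (by simp only; omega) h1 h2

variable {p : ℕ} [Fact p.Prime] {k : Type} [Field k] [CharP k p] {Y : Type} [Group Y] {N : Type} [Fintype N]
  [DecidableEq N] {ρ : Y →* GL N k} {F : MulAut Y} {G : Subgroup Y} [IsAlgClosed k] {D : Datum p ρ F G}
  [Fintype ↥(GF F G)] {Adm : Matrix D.R D.R ℤ → Prop} {S : Type} [Group S] {s : Sit D Adm S} {Q : ℤ} {f : Fr D}
  {M : Ideal AlgInt}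

namespace ALike

variable (L : ALike s Q) (h3 : 3 ∣ Q - 1) [Nonempty D.R] (hA : Api f) (hp : p ≠ 3) (hM : IsPModular 3 M)
include L h3 hA hp hM

theorem p10_extra (hm : 6 ≤ Fintype.card D.R) {ψ : IrrCharacter S} (h1 : Mem M ψ)
    (h2 : ∀ φ ψ', IsClassFunction D.W φ → Rep f L.w0 s φ 1 ψ' → ψ' ≠ ψ) : P10 M S := by
  obtain ⟨U, hU, h4, h5⟩ := L.exists_uni h3 hA hp hM (Sym.nine_le hm)
  exact p10_of U hU h4 (fun _ : Unit => ψ) (fun _ => h1) (fun i _ => let ⟨φ, h6, h7⟩ := h5 i; h2 φ _ h6 h7)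
    (fun _ _ h => absurd rfl h) (by simp)

theorem p10_two (hm : 6 ≤ Fintype.card D.R) {ω : ℂˣ} (hω : orderOf ω = 3) {w : ℕ} (e : Fin w × C3 ↪ D.R) {d : Fin w → ℂˣ}
    (hd : ∀ i, d i = 1 ∨ d i = ω) (hi : ¬ 3 ∣ (Wc (D := D) (lab e d 1)).index) {i j : D.R} (h1 : lab e d 1 i = 1)
    (h2 : lab e d 1 j = ω) : P10 M S := by
  have h4 : ∀ i, d i ^ 3 = 1 := fun i => by
    rcases hd i with h | h <;> rw [h]
    · exact one_pow _
    · rw [← hω, pow_orderOf_eq_one]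
  obtain ⟨ψ, h5, h6⟩ := L.exists_lev h3 hA hp hM (ok_of_pow (j := 1) (lab_pow e h4 fun _ => one_pow _) (by rwa [pow_one])
    (.inl (prod_lab e h4))) hi (no_twist hω (lab_val e hd) h1 h2) false
  exact L.p10_extra h3 hA hp hM hm h5 fun φ ψ' hφ h => L.ne_uni h3 hA hφ h h6 (i := i) (j := j) fun h7 =>
    ne_one_of_order hω (h2.symm.trans (h7.symm.trans h1))

theorem p10_five (hm : Fintype.card D.R = 5) : P10 M S := by
  obtain ⟨U, hU, h1, h2⟩ := L.exists_uni h3 hA hp hM (Sym.six_le hm.ge)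
  obtain ⟨ω, hω⟩ := exists_root (n := 3) (by norm_num)
  have hω1 := ne_one_of_order hω
  have hω3 : ω ^ 3 ^ 1 = 1 := by rw [pow_one, ← hω, pow_orderOf_eq_one]
  have hw : Fintype.card D.R / 3 = 1 := by omega
  have hm3 : ¬ 3 ∣ Fintype.card D.R := by omega
  obtain ⟨e⟩ := exists_emb hw
  obtain ⟨r, r', hr, h4, h5⟩ := exists_out2 e (by omega)
  have h6 : e (0, 1) ≠ e (0, γ) := e.injective.ne (by decide)
  have h7 : ∀ x, e x ≠ r := fun x h => h4 ⟨x, h⟩
  obtain ⟨c, c0, c1⟩ : ∃ c : Bool → Lbl D, c false = lab e (fun _ => ω) 1 ∧ c true = Pi.mulSingle r ω :=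
    ⟨fun t => cond t _ _, rfl, rfl⟩
  have hc : ∀ t, Ok Q (c t) := fun t => by
    cases t
    · rw [c0]
      exact ok_of_pow (j := 1) (lab_pow e (fun _ => hω3) fun _ => one_pow _) (by rwa [pow_one]) (.inr hm3)
    · rw [c1]
      exact ok_single hm3 r hω3 (by rwa [pow_one])
  have hi : ∀ t, ¬ 3 ∣ (Wc (c t)).index := fun t => by
    cases t
    · rw [c0]
      exact L.idx_lab hw (by norm_num) e _ _
    · rw [c1]
      exact L.idx_single hw e 1 (order_one (by norm_num)) h4 ω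
  have he : ∀ t, c t (e (0, 1)) = c t (e (0, γ)) := fun t => by
    cases t
    · rw [c0, lab_e, lab_e]
    · rw [c1, Pi.mulSingle_eq_of_ne (h7 _), Pi.mulSingle_eq_of_ne (h7 _)]
  have hr' : ∀ t, c t (e (0, 1)) ≠ c t r := fun t => by
    cases t
    · rw [c0, lab_e, lab_out _ _ _ h4]
      exact hω1
    · rw [c1, Pi.mulSingle_eq_of_ne (h7 _), Pi.mulSingle_eq_same]
      exact hω1.symm
  choose V hV hV' using fun x : Bool × Bool => L.exists_lev' h3 hA hp hM hm3 (hc x.1) (hi x.1) x.2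
  have key : ∀ (x x' : Bool × Bool) (σ : MulAut S), (∀ y, (V x : S → ℂ) (σ y) = (V x' : S → ℂ) y) →
      x.2 = x'.2 ∧ ¬ (x.1 = false ∧ x'.1 = true) := fun x x' σ h => by
    obtain ⟨a, ha, h8⟩ := exists_tr (w₀ := L.w0) s hA L.adm σ
    have h9 := h8 _ _ _ ((fx_sc (L.sc h3)).2 (hc x.1).1) (hc x.1).2.1 (hV' x)
    rw [show tr σ (V x) = V x' from Subtype.ext (funext h)] at h9
    refine ⟨L.cmp_se h3 hA h9 (hV' x') (hc _) h6 (he _), fun ⟨h10, h11⟩ => ?_⟩
    obtain ⟨⟨τ, z, h12⟩, -⟩ := L.cmp h3 hA (cls_se _) h9 (hV' x')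
    rw [h10, h11, c0, c1] at h12
    have h13 : ∀ i, (Pi.mulSingle r ω : D.R → ℂˣ) (τ i) = lab e (fun _ => ω) 1 i ^ a * z := congrFun h12
    have h14 := single_one (τ.injective.ne hr) ((h13 r).trans (by rw [h13 r', lab_out _ _ _ h4, lab_out _ _ _ h5]; rfl))
    have h15 := single_one (τ.injective.ne h6) ((h13 _).trans (by rw [h13 (e (0, γ)), lab_e, lab_e]))
    rw [h13, lab_out _ _ _ h4, Pi.one_apply, _root_.one_zpow, one_mul] at h14
    rw [h13, lab_e, h14, mul_one] at h15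
    exact zpow_ne_one hω1 hω3 ha h15
  refine p10_of U hU h1 V hV (fun i x => ?_) (fun x x' hx => apart3_of_apart fun σ h => ?_) (by simp)
  · obtain ⟨φ, h8, h9⟩ := h2 i
    exact L.ne_uni h3 hA h8 h9 (hV' x) (hr' _)
  · obtain ⟨h8, h9⟩ := key x x' σ h
    obtain ⟨-, h10⟩ := key x' x σ⁻¹ fun y => by rw [← h]; simp
    refine hx (Prod.ext ?_ h8)
    revert h9 h10
    cases x.1 <;> cases x'.1 <;> simp

theorem p10_four (hm : Fintype.card D.R = 4) (h9 : 9 ∣ Q - 1) : P10 M S := by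
  obtain ⟨U, hU, h1, h2⟩ := L.exists_uni h3 hA hp hM (Sym.three_le (by omega))
  obtain ⟨η, hη⟩ := exists_root (n := 9) (by norm_num)
  have hw : Fintype.card D.R / 3 = 1 := by omega
  have hm3 : ¬ 3 ∣ Fintype.card D.R := by omega
  obtain ⟨e⟩ := exists_emb hw
  obtain ⟨r, h4⟩ := exists_out e (by omega)
  have h6 : e (0, 1) ≠ e (0, γ) := e.injective.ne (by decide)
  have h7 : ∀ x, e x ≠ r := fun x h => h4 ⟨x, h⟩
  have hc : ∀ i, Ok Q (Pi.mulSingle r (η ^ ex4 i) : D.R → ℂˣ) := fun i => ok_single hm3 r (j := 2) (pow_pow_eq hη _) h9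
  have hx : ∀ i, η ^ ex4 i ≠ 1 := fun i h => by
    have h5 := orderOf_dvd_of_pow_eq_one h
    rw [hη] at h5
    exact absurd h5 ((by decide : ∀ i, ¬ 9 ∣ ex4 i) i)
  choose V hV hV' using fun x : Fin 4 × Bool => L.exists_lev' h3 hA hp hM hm3 (hc x.1)
    (L.idx_single hw e 1 (order_one (by norm_num)) h4 _) x.2
  refine p10_of U hU h1 V hV (fun i x => ?_) (fun x x' hx' σ n t hn ht h => hx' ?_) (by simp)
  · obtain ⟨φ, h8, h10⟩ := h2 i
    refine L.ne_uni h3 hA h8 h10 (hV' x) (i := r) (j := e (0, 1)) ?_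
    rw [Pi.mulSingle_eq_same, Pi.mulSingle_eq_of_ne (h7 _)]
    exact hx _
  · obtain ⟨a, ha, h8⟩ := L.tr_single h3 hA σ (h7 _) (h7 _) h6
    have h10 := (h8 _ _ _ (hx x.1) (hc _) (hV' x)).1
    have h11 := (h8 _ _ _ (hx 0) (hc 0) (hV' (0, false))).2 n t ht
    rw [show tr σ (V x) = V x' from Subtype.ext (funext h)] at h10
    obtain ⟨⟨τ, z, h12⟩, -⟩ := L.cmp h3 hA (cls_se _) h10 (hV' x')
    have h13 := single_eq (h7 _) (h7 _) h6 (zpow_ne_one (hx x.1) (j := 2) (pow_pow_eq hη _) ha) h12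
    refine Prod.ext (ex4_eq (a := a) hn ?_ ?_) (L.cmp_se h3 hA h10 (hV' x') (hc _) h6
      (by rw [Pi.mulSingle_eq_of_ne (h7 _), Pi.mulSingle_eq_of_ne (h7 _)]))
    · rw [show ex4 0 = 1 from rfl, pow_one] at h11
      have h14 := zpow_eq_zpow_iff_modEq.1 (h11.trans (zpow_one η).symm)
      rwa [hη] at h14
    · rw [← zpow_natCast, ← zpow_natCast, ← _root_.zpow_mul, zpow_eq_zpow_iff_modEq, hη] at h13
      exact h13

theorem p10 (hS : commutator S = ⊤) [Finite S] (hm : 4 ≤ Fintype.card D.R) (h4 : Fintype.card D.R = 4 → 9 ∣ Q - 1)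
    (hC : Fintype.card D.R = 9 → ∀ T : Sylow 3 S, ∀ x ∈ Subgroup.centralizer (T : Set S), ¬ 3 ∣ orderOf x → x = 1) :
    P10 M S := by
  obtain ⟨ω, hω⟩ := exists_root (n := 3) (by norm_num)
  by_cases h1 : 11 ≤ Fintype.card D.R
  · obtain ⟨U, hU, h5, -⟩ := L.exists_uni h3 hA hp hM (Sym.eighteen_le (.inr h1))
    exact p10_of U hU h5 (fun x : Empty => x.elim) (fun x => x.elim) (fun _ x => x.elim) (fun x => x.elim) (by simp)
  obtain h | h | h | h | h : Fintype.card D.R = 4 ∨ Fintype.card D.R = 5 ∨ Fintype.card D.R / 3 = 2 ∨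
    Fintype.card D.R = 9 ∨ Fintype.card D.R = 10 := by omega
  · exact L.p10_four h3 hA hp hM h (h4 h)
  · exact L.p10_five h3 hA hp hM h
  · obtain ⟨e⟩ := exists_emb h
    exact L.p10_two h3 hA hp hM (by omega) hω e (d := ![1, ω]) (Fin.forall_fin_two.2 ⟨.inl rfl, .inr rfl⟩)
      (L.idx_lab h (by norm_num) e _ _) (lab_e _ _ _ (0, 1)) (lab_e _ _ _ (1, 1))
  · obtain ⟨ψ, h5, h6⟩ := L.nine h3 hA hp hS hM h (hC h)
    exact L.p10_extra h3 hA hp hM (by omega) h5 h6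
  · have hw : Fintype.card D.R / 3 = 3 := by omega
    obtain ⟨e⟩ := exists_emb hw
    obtain ⟨r, hr⟩ := exists_out e (by omega)
    exact L.p10_two h3 hA hp hM (by omega) hω e (d := fun _ => ω) (fun _ => .inr rfl)
      (L.idx hw e _ order_rot fun _ _ => lab_comp e _ _ fun _ => rfl) (lab_out _ _ _ hr) (lab_e _ _ _ (0, 1))

theorem p4 (hm : 4 ≤ Fintype.card D.R) : P4 M S := by
  rcases hm.eq_or_lt' with h | h
  · obtain ⟨U, hU, h1, h2⟩ := L.exists_uni h3 hA hp hM (Sym.three_le (by omega))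
    obtain ⟨ω, hω⟩ := exists_root (n := 3) (by norm_num)
    have hω1 := ne_one_of_order hω
    have hw : Fintype.card D.R / 3 = 1 := by omega
    have hm3 : ¬ 3 ∣ Fintype.card D.R := by omega
    obtain ⟨e⟩ := exists_emb hw
    obtain ⟨r, h4⟩ := exists_out e (by omega)
    have h7 : ∀ x, e x ≠ r := fun x h => h4 ⟨x, h⟩
    have hc : Ok Q (Pi.mulSingle r ω : D.R → ℂˣ) :=
      ok_single hm3 r (j := 1) (by rw [pow_one, ← hω, pow_orderOf_eq_one]) (by rwa [pow_one])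
    obtain ⟨ψ, h5, h6⟩ := L.exists_lev' h3 hA hp hM hm3 hc (L.idx_single hw e 1 (order_one (by norm_num)) h4 _) false
    have h8 : ∀ i, U i ≠ ψ := fun i => by
      obtain ⟨φ, h8, h9⟩ := h2 i
      refine L.ne_uni h3 hA h8 h9 h6 (i := r) (j := e (0, 1)) ?_
      rwa [Pi.mulSingle_eq_same, Pi.mulSingle_eq_of_ne (h7 _)]
    refine p4_of_fam (fun o : Option (Fin 3) => o.elim ψ U) (by simp) (fun o => ?_) (fun o o' h9 => ?_) fun σ t ht o => ?_
    · cases o
      · exact h5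
      · exact (h1 _).1
    · cases o <;> cases o'
      · rfl
      · exact absurd h9.symm (h8 _)
      · exact absurd h9 (h8 _)
      · exact congrArg _ (hU h9)
    · cases o
      · obtain ⟨a, -, h9⟩ := L.tr_single h3 hA σ (h7 (0, 1)) (h7 (0, γ)) (e.injective.ne (by decide))
        obtain ⟨h10, h11⟩ := h9 _ _ _ hω1 hc h6
        have h12 : ω ^ a = ω := by
          have h13 := (h11 3 t ht).trans (zpow_one ω).symm
          rw [zpow_eq_zpow_iff_modEq, hω] at h13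
          refine .trans ?_ (zpow_one ω)
          rw [zpow_eq_zpow_iff_modEq, hω]
          exact (Int.ModEq.pow_prime_eq_self Nat.prime_three a).symm.trans h13
        rw [h12] at h10
        exact congrFun (congrArg Subtype.val (h10.unique h6))
      · exact (h1 _).2 σ
  · obtain ⟨U, hU, h1, -⟩ := L.exists_uni h3 hA hp hM (Sym.six_le h)
    exact p4_of_fam U (by simp) (fun i => (h1 i).1) hU fun σ _ _ i => (h1 i).2 σ

end ALike

end Cfsg.Agent.KZ.ClA
end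

-- part: KZ/ClA/Main
section
set_option linter.all false
open scoped Cfsg.Agent.FastGrp

/-!
# KZ, type A (helper18): the rows of `PSL_m(q)`, `3 ∣ q - 1`, and `PSU_m(q)`, `3 ∣ q + 1`, for `4 ≤ m`
-/

set_option autoImplicit false
set_option linter.unusedSectionVars false

namespace Cfsg.Agent.KZ.ClA

open Cfsg Cfsg.Agent.KZ.Lie Cfsg.Agent.KZ.Cl Cfsg.Agent.KZ.Res Cfsg.Agent.KZ.Dat Matrix

theorem rowAt (hB : BoxApi) {m : ℕ} {Q : ℤ} {S T : Type} [Group S] [Group T] [Finite S] (h : HasA m Q T) (hm : 4 ≤ m)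
    (h3 : 3 ∣ Q - 1) (hC : m = 9 → ∀ P : Sylow 3 T, ∀ x ∈ Subgroup.centralizer (P : Set T), ¬ 3 ∣ orderOf x → x = 1)
    (i : S ≃* T) (h1 : IsSimpleGroup S) (h2 : ¬ IsMulCommutative S) : RowAt S := by
  obtain ⟨p, _, k, _, _, _, Y, _, N, _, _, ρ, F, G, D, _, Adm, s, hp, rfl, ⟨L⟩⟩ := h
  obtain ⟨f⟩ := nonempty_fr D
  have hA := hB f s.qs
  have : Finite T := Finite.of_equiv S i.toEquiv
  have : Nonempty D.R := Fintype.card_pos_iff.1 (by omega)
  have h4 : ¬ IsMulCommutative T := fun h => h2 ⟨⟨fun a b => i.injective (by rw [map_mul, map_mul, h.is_comm.comm])⟩⟩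
  have hS := perfect i.symm.isSimpleGroup h4
  refine ⟨fun M hM A _ _ N₀ hN ⟨e⟩ P hP => ?_, fun M hM A _ _ N₀ hN ⟨e⟩ hi P hP => ?_, fun M hM =>
    one_congr hM i (s.one hA ((L.sc h3).mc f hp) hp hM h4)⟩
  · have := hN.normal
    obtain ⟨h5, h6⟩ := L.sylow h3 hA hS (by omega) hp (e.trans i) P hm
    obtain ⟨h7, h8, h9⟩ : Fintype.card D.R = 4 ∧ ¬ 9 ∣ Q - 1 ∧ ¬ 3 ∣ N₀.index := by_contra fun h => by
      have := h5 h
      omega
    obtain ⟨V, hV, hab, he, ⟨x, hx⟩, -⟩ := h6 h7 h8 h9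
    exact upx_exp hM P V hV hab he x hx hP.le
  · have := hN.normal
    rcases hi with hi | hi
    · refine ten_le hM hi (p10_congr hM (e.trans i) (L.p10 h3 hA hp hM hS hm (fun h => by_contra fun h8 => ?_) hC))
      obtain ⟨-, -, -, -, -, h9⟩ := (L.sylow h3 hA hS (by omega) hp (e.trans i) P hm).2 h h8 hi
      exact absurd (hP.trans h9) (by norm_num)
    · exact le_trans (by norm_num) (twelve_le hM hN.cent hi (p4_congr hM (e.trans i) (L.p4 h3 hA hp hM hm)))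

/-- `PSL_n(q)`, `q ≡ 1 mod 3`, `4 ≤ n` -/
def PslA (S : Type) [Group S] : Prop :=
  ∃ (F : Type) (_ : Field F) (_ : Fintype F) (n : ℕ), 3 ∣ Fintype.card F - 1 ∧ 4 ≤ n ∧
    Nonempty (S ≃* ProjectiveSpecialLinearGroup (Fin n) F)

/-- `PSU_n(q)`, `q ≡ 2 mod 3`, `4 ≤ n` -/
def PsuA (S : Type) [Group S] : Prop :=
  ∃ (F : Type) (_ : Field F) (_ : Fintype F) (n q : ℕ), Fintype.card F = q ^ 2 ∧ 3 ∣ q + 1 ∧ 4 ≤ n ∧
    Nonempty (S ≃* PSU n F q)

theorem row_psl (hB : BoxApi) : Row PslA := by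
  refine row_of Tool.toolOne fun S _ _ h1 h2 _ ⟨F, _, _, n, h3, h4, ⟨i⟩⟩ => ?_
  have h5 : 0 < Fintype.card F := Fintype.card_pos
  refine rowAt hB (hasA_psl (by omega) (by omega) (by omega)) h4 (by omega) ?_ i h1 h2
  rintro rfl
  exact cent9_psl F h3

theorem row_psu (hB : BoxApi) : Row PsuA := by
  refine row_of Tool.toolOne fun S _ _ h1 h2 _ ⟨F, _, _, n, q, h3, h4, h5, ⟨i⟩⟩ => ?_
  refine rowAt hB (hasA_psu h3 (by omega) (by omega) (by omega)) h5 (by omega) ?_ i h1 h2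
  rintro rfl
  exact cent9_psu h3 h4

end Cfsg.Agent.KZ.ClA
end

-- part: KZ/Ch3/Frm
section
set_option linter.all false
open scoped Cfsg.Agent.FastGrp

/-!
# KZ, defining characteristic `3`: the output of an adjoint frame (helper38)

`Fo Q N` : the centraliser of `N` is trivial, `Q` characters of degree prime to `3`, `Big Q N`, `nab ≤ Q`, `Up9`;
`fo_of` from a root group datum with coordinates, `fo_data` from the adjoint data of helper928;
`Fr3 Q S` : the part which only depends on `S`.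
-/

set_option autoImplicit false
set_option linter.unusedSectionVars false

namespace Cfsg.Agent.KZ.Ch3

open Cfsg Cfsg.Agent.KZ.Ch3X Cfsg.Agent.KZ.Tool Cfsg.Agent.KZ.Red Cfsg.Agent.KZ.Res Subgroup Cfsg.Agent.Characters.Core

/-- a generating set of a group of order at most `81` contains an element with a small centraliser -/
theorem exists_small {P : Type} [Group P] [Finite P] (hP : IsPGroup 3 P) (h81 : Nat.card P ∣ 81)
    (h9 : (_root_.commutator P).index = 9) {R : Set P} (hR : closure R = ⊤) :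
    ∃ u ∈ R, ¬ 27 ∣ Nat.card ↥(centralizer ({u} : Set P)) := by
  by_contra hn
  push Not at hn
  have h1 : ∀ u ∈ R, ∀ a ∈ _root_.commutator P, a * u = u * a := fun u hu a ha => by
    have h2 : (centralizer ({u} : Set P)).index ∣ 3 := by
      obtain ⟨c, hc⟩ := hn u hu
      rw [← (centralizer ({u} : Set P)).index_mul_card, hc, mul_left_comm] at h81
      exact (dvd_mul_right _ c).trans (Nat.dvd_of_mul_dvd_mul_left (by norm_num : 0 < 27) h81)
    refine mem_centralizer_singleton_iff.1 ?_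
    rcases (Nat.dvd_prime Nat.prime_three).1 h2 with h3 | h3
    · rw [index_eq_one.1 h3]
      trivial
    · have := normal_of_index_three hP h3
      have : Fact (Nat.Prime 3) := ⟨Nat.prime_three⟩
      have := isCyclic_of_prime_card (α := P ⧸ centralizer ({u} : Set P)) h3
      exact (Normal.quotient_commutative_iff_commutator_le).1 inferInstance ha
  have h2 : ∀ g, ∀ a ∈ _root_.commutator P, a * g = g * a := fun g a ha => by
    have h3 : closure R ≤ centralizer {a} := (closure_le _).2 fun u hu => mem_centralizer_singleton_iff.2 (h1 u hu a ha).symm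
    exact (mem_centralizer_singleton_iff.1 (h3 (hR ▸ mem_top g))).symm
  have h3 : ¬ ∀ a b : P, a * b = b * a := fun h => by
    have h4 : _root_.commutator P = ⊥ := by
      rw [_root_.commutator_def, eq_bot_iff, commutator_le]
      intro a _ b _
      rw [mem_bot, commutatorElement_eq_one_iff_mul_comm, h]
    rw [h4, index_bot] at h9
    rcases R.eq_empty_or_nonempty with rfl | ⟨u, hu⟩
    · rw [Subgroup.closure_empty] at hR
      have := (card_top (G := P)).symm.trans (congrArg (fun H : Subgroup P => Nat.card ↥H) hR.symm)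
      rw [card_bot] at this
      omega
    · have := (hn u hu).trans (card_subgroup_dvd_card _)
      omega
  obtain ⟨u, hu, h4⟩ : ∃ u ∈ R, u ∉ center P := by
    by_contra h4
    push Not at h4
    exact h3 fun a b => mem_center_iff.1 ((closure_le _).2 h4 (hR ▸ mem_top b)) a
  set Q := _root_.commutator P ⊔ zpowers u
  have hab : ∀ a ∈ Q, ∀ b ∈ Q, a * b = b * a := by
    have h5 : ∀ a ∈ Q, a * u = u * a := fun a ha => mem_centralizer_singleton_iff.1
      ((sup_le (fun x hx => mem_centralizer_singleton_iff.2 (h2 u x hx))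
        (zpowers_le.2 (mem_centralizer_singleton_iff.2 rfl)) : Q ≤ centralizer {u}) ha)
    exact fun a ha b hb => mem_centralizer_singleton_iff.1
      ((sup_le (fun x hx => mem_centralizer_singleton_iff.2 (h2 b x hx))
        (zpowers_le.2 (mem_centralizer_singleton_iff.2 (h5 b hb).symm)) : Q ≤ centralizer {b}) ha)
  have hQ : Q.Normal := Normal.of_commutator_le P le_sup_left
  have h5 : Q ≠ ⊤ := fun e => h3 fun a b => hab a (e ▸ mem_top a) b (e ▸ mem_top b)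
  have h6 : Q.index = 3 := by
    have h7 := relIndex_mul_index (le_sup_left : _root_.commutator P ≤ Q)
    have h8 : (_root_.commutator P).relIndex Q ≠ 1 := fun e => h4 (mem_center_iff.2 fun g =>
      (h2 g u (relIndex_eq_one.1 e (mem_sup_right (mem_zpowers u)))).symm)
    have h10 : Q.index ≠ 1 := fun e => h5 (index_eq_one.1 e)
    rw [h9] at h7
    have h11 : Q.index ≤ 9 := Nat.le_of_dvd (by norm_num) (Dvd.intro_left _ h7)
    generalize Q.index = a at h7 h10 h11 ⊢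
    generalize (_root_.commutator P).relIndex Q = b at h7 h8
    interval_cases a <;> omega
  obtain ⟨w, hw, h7⟩ : ∃ w ∈ R, w ∉ Q := by
    by_contra h7
    push Not at h7
    exact h5 (top_le_iff.1 (hR ▸ (closure_le _).2 h7))
  have h8 := hn w hw
  rw [card_cent_eq hab (gen_of_index_prime Nat.prime_three h6 h7), h9] at h8
  omega

/-- the part of the output which only depends on the simple group -/
structure Fr3 (Q : ℕ) (S : Type) [Group S] : Prop where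
  ady : ∃ Y : Subgroup (MulAut S), AdY Q Y
  big : Big Q S
  nab : ∀ U : Sylow 3 S, nab U ≤ Q
  up : Q = 9 → ¬ 243 ∣ Nat.card S → Up9 S

/-- the output of a frame -/
structure Fo (Q : ℕ) {Y : Type} [Group Y] (N : Subgroup Y) : Prop where
  cent : centralizer (N : Set Y) = ⊥
  cop : ¬ 3 ∣ N.index
  cnt : Nat.card {χ : IrrCharacter Y // ¬ 3 ∣ charDegree (χ : Y → ℂ)} = Q
  big : Big Q ↥N
  nab : ∀ U : Sylow 3 ↥N, nab U ≤ Q
  up : Q = 9 → ¬ 243 ∣ Nat.card ↥N → Up9 ↥N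

theorem Up9.congr {S T : Type} [Group S] [Group T] (e : S ≃* T) (h : Up9 T) : Up9 S := by
  obtain ⟨x, k, h1, h2⟩ := h
  obtain ⟨x, rfl⟩ := e.surjective x
  refine ⟨x, k, (e.orderOf_eq x).symm.trans h1, fun h3 => h2 (h3.trans (dvd_of_eq (Nat.card_congr
    (e.toEquiv.subtypeEquiv fun y => ?_))))⟩
  rw [mem_centralizer_singleton_iff, mem_centralizer_singleton_iff, MulEquiv.toEquiv_eq_coe, EquivLike.coe_coe,
    ← map_mul, ← map_mul, e.injective.eq_iff]

theorem Fr3.congr {Q : ℕ} {S T : Type} [Group S] [Group T] [Finite S] (e : S ≃* T) (h : Fr3 Q T) : Fr3 Q S := by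
  have : Finite T := Finite.of_equiv _ e.toEquiv
  have : Fact (Nat.Prime 3) := ⟨Nat.prime_three⟩
  obtain ⟨Y, hY⟩ := h.ady
  obtain ⟨V⟩ : Nonempty (Sylow 3 T) := inferInstance
  exact ⟨⟨_, (hY.congr e.symm).1⟩, big_congr e h.big, fun U => nab_equiv e U V ▸ h.nab V,
    fun h1 h2 => (h.up h1 (Nat.card_congr e.toEquiv ▸ h2)).congr e⟩

section

variable {Q : ℕ} {Y S : Type} [Group Y] [Finite Y] [Group S] [Finite S] {N : Subgroup Y} [N.Normal]

theorem Fo.fr3 (h : Fo Q N) (e : S ≃* ↥N) : Fr3 Q S :=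
  Fr3.congr e ⟨⟨_, adY_of (MulEquiv.refl _) h.cent h.cop h.cnt.ge⟩, h.big, h.nab, h.up⟩

/-- the group of the inner-diagonal automorphisms with its index -/
theorem Fo.ex (h : Fo Q N) (e : S ≃* ↥N) (hc : IsCyclic (Y ⧸ N)) : ∃ K : Subgroup (MulAut S), AdY Q K ∧
    (Inn S).relIndex K = N.index ∧ (∃ y ∈ K, K = Inn S ⊔ zpowers y) ∧
    Nat.card {χ : IrrCharacter ↥K // ¬ 3 ∣ charDegree (χ : ↥K → ℂ)} ≤ Q := by
  obtain ⟨x, hx⟩ := exists_gen hc
  refine ⟨_, adY_of e.symm h.cent h.cop h.cnt.ge, relIndex_range e.symm h.cent, ⟨au e.symm x, ⟨x, rfl⟩, ?_⟩,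
    ((card_pp_congr (MonoidHom.ofInjective (au_inj e.symm h.cent))).symm.trans h.cnt).le⟩
  refine le_antisymm ?_ (sup_le (inn_le_range _) (zpowers_le.2 ⟨x, rfl⟩))
  rw [MonoidHom.range_eq_map, ← hx, Subgroup.map_sup, MonoidHom.map_zpowers]
  refine sup_le_sup_right ?_ _
  rintro _ ⟨n, hn, rfl⟩
  exact ⟨_, (au_coe e.symm ⟨n, hn⟩).symm⟩

end

/-- the index of the image of a kernel -/
theorem index_map_ker {G C : Type} [Group G] [CommGroup C] [IsCyclic C] (Z : Subgroup G) [Z.Normal] (δ : G →* C)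
    (h : Z ≤ δ.ker) {N : Subgroup (G ⧸ Z)} [N.Normal] (hN : N = δ.ker.map (QuotientGroup.mk' Z)) :
    N.index = Nat.card ↥δ.range ∧ IsCyclic ((G ⧸ Z) ⧸ N) := by
  have h1 : (QuotientGroup.lift Z δ h).ker = N := (QuotientGroup.ker_lift Z δ h).trans hN.symm
  have h2 : (QuotientGroup.lift Z δ h).range = δ.range := by
    ext c
    exact ⟨fun ⟨g, e⟩ => by
      obtain ⟨g, rfl⟩ := QuotientGroup.mk_surjective g
      exact ⟨g, e⟩, fun ⟨g, e⟩ => ⟨g, e⟩⟩
  subst h1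
  exact ⟨by rw [index_ker, h2], isCyclic_of_surjective _ (QuotientGroup.quotientKerEquivRange _).symm.surjective⟩

open Cfsg.Agent.H148.GG Cfsg.Agent.H40.OC Cfsg.Agent.H928.Ad Cfsg.Agent.H40.Ch CoxeterSystem
  Cfsg.Agent.ChevalleyStructure.CoxeterGeom Cfsg.Agent.Tits.Roots Cfsg.Agent.Tits.Core Cfsg.Agent.Nodes.Reps
  Cfsg.Agent.Nodes.BNOf Cfsg.Agent.Nodes.Bruhat Cfsg.Agent.Nodes.RGDLib
open Cfsg.Agent.Omega.EH3.Kf.Lev (CommGen)

variable {I W Y : Type} [Fintype I] [DecidableEq I] [Group W] [Group Y] {M : CoxeterMatrix I}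
  {cs : CoxeterSystem M W} {A : I → I → ℤ} {h : IsCartan M A} {T : Subgroup Y} {n : I → Y}
  {X : (I → ℤ) → Subgroup Y} [Finite W] [Finite Y]

/-- **the output of a frame** -/
theorem fo_of (R : RGD cs h 3 T n X) {F : I → Type} [∀ i, Field (F i)] [∀ i, Finite (F i)] (D : Adj T X F)
    (hG : GG cs h T X = ⊤) (hT : ∀ t : T, (∀ i, D.a i t = 1) → t = 1) (hm : H743.GG.MultOne cs h T X)
    (hN : ∀ f : ↥(UU cs h X) →* ℂˣ, ∀ u, (∀ i, co R D i u = 1) → f u = 1) {N : Subgroup Y} [N.Normal]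
    (hU : UU cs h X ≤ N) (hi : Function.Injective (MulAut.conj : ↥N →* MulAut ↥N)) : Fo (∏ i, Nat.card (F i)) N := by
  classical
  have : Fact (Nat.Prime 3) := ⟨Nat.prime_three⟩
  obtain ⟨P, hP⟩ := KFacts.RgdAutFacts.exists_sylow R hG
  have hPN : (P : Subgroup Y) ≤ N := hP.le.trans hU
  let π : ↥(UU cs h X) →* ∀ i, Multiplicative (F i) := MonoidHom.pi (co R D)
  have hπ : π.range = ⊤ := MonoidHom.range_eq_top.2 fun c => by
    obtain ⟨u, hu⟩ := H712.OC.co_joint R D fun i => (c i).toAdd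
    exact ⟨u, funext hu⟩
  have hc : Nat.card (∀ i, Multiplicative (F i)) = ∏ i, Nat.card (F i) := Nat.card_pi
  have hk : _root_.commutator ↥(UU cs h X) = π.ker := by
    refine le_antisymm (Abelianization.commutator_subset_ker π) fun u hu => ?_
    by_contra h1
    have : NeZero ((Monoid.exponent (Abelianization ↥(UU cs h X)) : ℕ) : ℂ) :=
      ⟨Nat.cast_ne_zero.2 Monoid.exponent_ne_zero_of_finite⟩
    obtain ⟨f, hf⟩ := CommGroup.exists_apply_ne_one_of_hasEnoughRootsOfUnity (Abelianization ↥(UU cs h X)) ℂ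
      (a := Abelianization.of u) fun e => h1 ((QuotientGroup.eq_one_iff u).1 e)
    exact hf (hN (f.comp Abelianization.of) u fun i => congrFun hu i)
  have hi9 : (_root_.commutator ↥(UU cs h X)).index = ∏ i, Nat.card (F i) := by
    rw [hk, index_ker, hπ, card_top, hc]
  have h3 : ∀ i, (3 : F i) = 0 := fun i => by exact_mod_cast H151.OC.char_F R D i
  refine ⟨eq_bot_iff.2 fun c hc => ?_, H151.OC.not_dvd_index R hG hU, ?_, ?_, fun U => ?_, fun h9 h243 => ?_⟩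
  · obtain ⟨u, hu⟩ := H712.OC.co_joint R D fun _ => 1
    have h1 : c ∈ N := hU (IsReg.centralizer_le R D hG hT (u := u) ⟨u.2, fun i e => by simp [hu i] at e⟩
      (mem_centralizer_singleton_iff.2 (hc u (hU u.2)).symm))
    refine congrArg Subtype.val (hi (a₁ := ⟨c, h1⟩) (a₂ := 1) (MulEquiv.ext fun x => Subtype.ext ?_))
    rw [map_one, MulAut.conj_apply]
    show c * x * c⁻¹ = x
    rw [← hc x x.2, mul_inv_cancel_right]
  · have := @Fintype.ofFinite _ (finite_irr (G := Y))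
    have h1 := sum_sq R D hG hT
    rw [← Nat.cast_prod, Finset.sum_congr rfl (g := fun χ : IrrCharacter Y =>
      if ¬ 3 ∣ charDegree (χ : Y → ℂ) then 1 else 0) fun χ _ => ?_, Finset.sum_boole, Nat.cast_inj] at h1
    · rw [← h1, Nat.card_eq_fintype_card, Fintype.card_subtype]
    · simp only [H151.OC.dvd_iff R D hG hT hm hN χ]
      rcases H743.GG.count R D hG hT hm χ with e | e | e <;> simp [e]
  · let ι : ↥((P.subtype hPN : Sylow 3 ↥N) : Subgroup ↥N) ≃* ↥(UU cs h X) :=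
      (subgroupOfEquivOfLe hPN).trans (MulEquiv.subgroupCongr hP)
    refine ⟨P.subtype hPN, _, inferInstance, π.comp ι.toMonoidHom, fun z => funext fun i => ?_, ?_⟩
    · show Multiplicative.ofAdd (3 • (z i).toAdd) = 1
      rw [nsmul_eq_mul, Nat.cast_ofNat, h3, zero_mul, ofAdd_zero]
    · rw [MonoidHom.range_comp, MonoidHom.range_eq_top.2 ι.surjective, ← MonoidHom.range_eq_map, hπ, card_top, hc]
  · rw [Red.nab_congr U (P.subtype hPN), nab_subtype, ← hi9]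
    obtain ⟨P, _, _⟩ := P
    obtain rfl : P = UU cs h X := hP
    exact le_rfl
  · have hp : IsPGroup 3 ↥(UU cs h X) := R.isPGroup_Upos
    obtain ⟨u, hu, h1⟩ := exists_small hp (by
        obtain ⟨j, hj⟩ := hp.exists_card_eq
        have h1 : ¬ 5 ≤ j := fun e => h243 (((pow_dvd_pow 3 e).trans (dvd_of_eq hj.symm)).trans (card_dvd_of_le hU))
        rw [hj]
        exact pow_dvd_pow 3 (by omega : j ≤ 4)) (hi9.trans h9) (R := {u | ∀ i, co R D i u ≠ 1}) (eq_top_iff.2 fun u _ => by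
      obtain ⟨v, hv⟩ := H712.OC.co_joint R D fun i => if (co R D i u).toAdd = 1 then -1 else 1
      rw [← mul_inv_cancel_left v u]
      refine mul_mem (subset_closure fun i => ?_) (subset_closure fun i e => ?_)
      · rw [hv]
        split_ifs <;> simp
      · rw [map_mul, map_inv, inv_mul_eq_one, hv] at e
        have e' := congrArg Multiplicative.toAdd e
        rw [toAdd_ofAdd] at e'
        split_ifs at e' with h4
        · exact one_ne_zero (α := F i) (by linear_combination h3 i + e' + h4)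
        · exact h4 e'.symm)
    obtain ⟨j, hj⟩ := IsPGroup.iff_orderOf.1 hp u
    refine ⟨inclusion hU u, j, (orderOf_injective _ (inclusion_injective hU) u).trans hj, fun h2 => h1 (h2.trans ?_)⟩
    have h4 : ∀ y : ↥(centralizer ({inclusion hU u} : Set ↥N)), (y.1 : Y) * u = u * y.1 := fun y =>
      congrArg Subtype.val (mem_centralizer_singleton_iff.1 y.2)
    have h5 : ∀ y : ↥(centralizer ({inclusion hU u} : Set ↥N)), (y.1 : Y) ∈ UU cs h X := fun y =>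
      IsReg.centralizer_le R D hG hT (u := u) ⟨u.2, hu⟩ (mem_centralizer_singleton_iff.2 (h4 y))
    exact card_dvd_of_injective (H := ↥(centralizer ({u} : Set ↥(UU cs h X))))
      { toFun := fun y => ⟨⟨_, h5 y⟩, mem_centralizer_singleton_iff.2 (Subtype.ext (h4 y))⟩
        map_one' := rfl
        map_mul' := fun _ _ => rfl } fun a b e =>
      Subtype.ext (Subtype.ext (congrArg (fun z : ↥(centralizer ({u} : Set ↥(UU cs h X))) => (z.1 : Y)) e))

/-- **from the adjoint data** -/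
theorem fr3_data {K : (I → ℤ) → Type} [∀ z, Field (K z)] {x : ∀ z, K z → Y} [∀ i : I, Finite (K (sr i))]
    (hs : IsSimpleGroup Y) (hna : ¬ IsMulCommutative Y) {D : Subgroup (MulAut Y)} (H : Data cs h 3 T n X x D)
    (hC : CommGen cs h X) {φ : ↥(Gad D) → ↥(Gad D)} (hφ : H92.GG.Anti cs h (Tad D) (Xad X D) φ) :
    Fr3 (∏ i, Nat.card (K (sr i))) Y := by
  classical
  have : Fact (Nat.Prime 3) := ⟨Nat.prime_three⟩
  have A := H.adj
  have R : RGD cs h 3 (Tad D) (fun i => emb D (n i)) (Xad X D) := A.rgd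
  let P := par A.sys A.full
  have hC' : CommGen cs h (Xad X D) := by
    rw [show Xad X D = fun z => (X z).map (emb D) from funext fun z => Xad_eq X D z]
    exact H969.TT.DichIso.map_commGen (emb D) hC
  have hn : (emb D).range.Normal := ⟨by
    rintro _ ⟨y, rfl⟩ g
    exact ⟨(g : MulAut Y) y, Subtype.ext (mul_conj_inv (g : MulAut Y) y).symm⟩⟩
  have e : Y ≃* ↥(emb D).range := MonoidHom.ofInjective H.inj
  have : Fintype ↥(Gad D) := Fintype.ofFinite _
  exact (fo_of R P.adj A.gen (faithful R A.gen (fun s hs t ht => A.comm s hs t ht) A.cen P.adj)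
    (H396.PC.multOne' R P.adj hφ fun i => (P.e i).symm.injective) (lin_of_commGen R hC' P.adj)
    (H.G1' ▸ RGD.Sup_mono fun x hx => hx.1) (conj_inj e.symm.isSimpleGroup fun h => hna ⟨⟨fun a b => e.injective (by
      rw [map_mul, map_mul]
      exact h.is_comm.comm _ _)⟩⟩)).fr3 e

end Cfsg.Agent.KZ.Ch3
end

-- part: KZ/Ch3/FrmA
section
set_option linter.all false
open scoped Cfsg.Agent.FastGrp

/-!
# KZ, defining characteristic `3`: the frames of `PSL` and `PSU` (helper38)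

`fr_psl`, `fr_psu` : `Fr3 (q ^ (n - 1)) S`; `ex_l43`, `ex_u43` : the inner-diagonal groups of `L₄(3)` and `U₄(3)`.
-/

set_option autoImplicit false
set_option linter.unusedSectionVars false

namespace Cfsg.Agent.KZ.Ch3

open Cfsg Cfsg.Agent.KZ.Ch3X Cfsg.Agent.KZ.Tool Cfsg.Agent.KZ.Red Subgroup Matrix Cfsg.Agent.Nodes
open Cfsg.Agent.LieRecognition.BNCox (cA)

theorem inj_of {S T : Type} [Group S] [Group T] [Finite T] (hs : IsSimpleGroup S) (hab : ¬ IsMulCommutative S)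
    (e : S ≃* T) : Function.Injective (MulAut.conj : T →* MulAut T) :=
  conj_inj e.symm.isSimpleGroup fun h => hab ⟨⟨fun a b => e.injective (by
    rw [map_mul, map_mul]
    exact h.is_comm.comm _ _)⟩⟩

variable {S F : Type} [Group S] [Finite S] [Field F] [Fintype F] [CharP F 3] {n q : ℕ} (hs : IsSimpleGroup S)
  (hab : ¬ IsMulCommutative S)
include hs hab

section L

open Cfsg.Agent.H379.GG

theorem fo_psl (e : S ≃* ProjectiveSpecialLinearGroup (Fin (n + 1)) F) : Fo (Fintype.card F ^ n) (qs n F).range := by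
  have : Fact (Nat.Prime 3) := ⟨Nat.prime_three⟩
  have : Finite (cA n).Group := RootsA.finite_W (cA n).toCoxeterSystem (RootsA.isCartan n)
  have : Finite (PG n F) := Finite.of_surjective _ pg_surjective
  have : ((qs n F).range).Normal := normal_range
  simpa using fo_of (rgdP (cA n).toCoxeterSystem (RootsA.isCartan n) (F := F) (p := 3)) (adjP n F) (GGP_eq_top _ _)
    eq_one_of_aP (multOne_psl n F 3 _ _) (hNP _ _) (UU_le_range _ _) (inj_of hs hab (e.trans pslEquiv))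

theorem fr_psl (hn : 1 ≤ n) (e : S ≃* ProjectiveSpecialLinearGroup (Fin n) F) : Fr3 (Fintype.card F ^ (n - 1)) S := by
  obtain ⟨n, rfl⟩ : ∃ m, n = m + 1 := ⟨n - 1, by omega⟩
  have : Finite (PG n F) := Finite.of_surjective _ pg_surjective
  have : ((qs n F).range).Normal := normal_range
  exact (fo_psl hs hab e).fr3 (e.trans pslEquiv)

/-- the inner-diagonal group of `L₄(3)` -/
theorem ex_l43 (hF : Fintype.card F = 3) (e : S ≃* ProjectiveSpecialLinearGroup (Fin 4) F) :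
    ∃ K : Subgroup (MulAut S), AdY 27 K ∧ (Inn S).relIndex K = 2 := by
  have : Finite (PG 3 F) := Finite.of_surjective _ pg_surjective
  have : ((qs 3 F).range).Normal := normal_range
  obtain ⟨h1, h2⟩ := index_map_ker (center (GL (Fin 4) F)) GeneralLinearGroup.det (fun z hz => by
    obtain ⟨c, rfl⟩ := GeneralLinearGroup.center_eq_range_scalar (n := Fin 4) (R := F) ▸ hz
    have h3 : c ^ 2 = 1 := by
      have := pow_card_eq_one' (x := c)
      rwa [Nat.card_units, Nat.card_eq_fintype_card, hF] at this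
    rw [MonoidHom.mem_ker, GeneralLinearGroup.det_scalar, Fintype.card_fin, pow_mul c 2 2, h3, one_pow])
    (range_qs (n := 3) (F := F))
  obtain ⟨K, h3, h4, -⟩ := (fo_psl hs hab e).ex (e.trans pslEquiv) h2
  rw [hF] at h3
  refine ⟨K, h3, h4.trans (h1.trans ?_)⟩
  rw [MonoidHom.range_eq_top.2 GeneralLinearGroup.det_surjective, card_top, Nat.card_units, Nat.card_eq_fintype_card, hF]

end L

section U

open Cfsg.Agent.H356.AQ Cfsg.Agent.LieClassical

omit hs hab in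
theorem prod_Ki (hF : Fintype.card F = q ^ 2) (n : ℕ) : ∏ i, Nat.card (Ki hF n i) = q ^ n := by
  have h1 : ∀ i, Nat.card (Ki hF n i) = q ^ if 2 * (i : ℕ) + 2 = n + 1 then 1 else 2 := fun i => by
    split_ifs with h
    · exact (Nat.card_congr (Equiv.subtypeEquivRight fun x => by simp [mem_Ki, h])).trans
        ((HermBasic.card_fixed hF).trans (pow_one q).symm)
    · exact (Nat.card_congr (Equiv.subtypeUnivEquiv fun x h' => absurd h' h)).trans (Nat.card_eq_fintype_card.trans hF)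
  rw [Finset.prod_congr rfl fun i _ => h1 i, Finset.prod_pow_eq_pow_sum,
    Fin.sum_univ_eq_sum_range fun i => if 2 * i + 2 = n + 1 then 1 else 2]
  congr 1
  obtain ⟨k, rfl | rfl⟩ := Nat.even_or_odd' n
  · rw [Finset.sum_congr rfl (g := fun _ => 2) fun i _ => if_neg (by omega), Finset.sum_const, Finset.card_range,
      smul_eq_mul]
    omega
  · rw [show (2 * k + 1 + 1) / 2 = k + 1 by omega, Finset.sum_range_succ, if_pos rfl,
      Finset.sum_congr rfl (g := fun _ => 2) fun i hi => if_neg (by have := Finset.mem_range.1 hi; omega),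
      Finset.sum_const, Finset.card_range, smul_eq_mul, mul_comm]

theorem fo_psu {hF : Fintype.card F = q ^ 2} (hn : 2 ≤ n) (U : H356.TU.UB hF n) (e : S ≃* PSU (n + 1) F q) :
    Fo (q ^ n) (qU U).range := by
  have : Fact (Nat.Prime 3) := ⟨Nat.prime_three⟩
  have := normal_qU U
  exact prod_Ki hF n ▸ fo_of (rgdP U (p := 3)) (adjP U 3) (GGP_eq_top U hn) (rigidP U 3) (H356.CY.multOneU U (by norm_num))
    (hNP U 3) (UU_le_qU U) (inj_of hs hab (e.trans (psuEquiv U hn)))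

theorem fr_psu (hF : Fintype.card F = q ^ 2) (hn : 3 ≤ n) (e : S ≃* PSU n F q) : Fr3 (q ^ (n - 1)) S := by
  obtain ⟨n, rfl⟩ : ∃ m, n = m + 1 := ⟨n - 1, by omega⟩
  obtain ⟨U⟩ := H356.TU.exists_UB (hF := hF) (n := n)
  have := normal_qU U
  exact (fo_psu hs hab (by omega) U e).fr3 (e.trans (psuEquiv U (by omega)))

/-- the inner-diagonal group of `U₄(3)` -/
theorem ex_u43 (hF : Fintype.card F = 3 ^ 2) (e : S ≃* PSU 4 F 3) : ∃ K : Subgroup (MulAut S), AdY 27 K ∧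
    (Inn S).relIndex K = 4 ∧ (∃ y ∈ K, K = Inn S ⊔ zpowers y) ∧
    Nat.card {χ : IrrCharacter ↥K // ¬ 3 ∣ charDegree (χ : ↥K → ℂ)} ≤ 27 := by
  obtain ⟨U⟩ := H356.TU.exists_UB (hF := hF) (n := 3)
  have := normal_qU U
  let δ : ↥(GJ hF 3) →* Fˣ := GeneralLinearGroup.det.comp (GJ hF 3).subtype
  have hδ : ∀ g, (δ g : F) = g.1.1.det := fun _ => rfl
  obtain ⟨h1, h2⟩ := index_map_ker (ZG hF 3) δ (fun z hz => Units.ext (by
      have h3 := TG_unit hz.1 0
      rw [hδ, det_of_isUpperTriangular fun i j h => hz.1 i j (ne_of_gt h), Finset.prod_congr rfl fun i _ => hz.2 i 0,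
        Finset.prod_const, Finset.card_univ, Fintype.card_fin, pow_succ', Units.val_one, ← h3, hz.2 (Fin.rev 0) 0]))
    (N := (qU U).range) (by
      rw [range_qU]
      exact congrArg _ (Subgroup.ext fun g => ⟨fun ⟨s, hs⟩ => Units.ext (hs ▸ s.1.2),
        fun h => mem_range_iota (congrArg Units.val h)⟩))
  obtain ⟨K, h3, h4, h5⟩ := (fo_psu hs hab (by omega) U e).ex (e.trans (psuEquiv U (by omega))) h2
  refine ⟨K, h3, h4.trans (h1.trans ?_), h5⟩
  have h6 : δ.range = (powMonoidHom 4 : Fˣ →* Fˣ).ker := Subgroup.ext fun d => by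
    rw [MonoidHom.mem_ker, powMonoidHom_apply, pow_succ', Units.ext_iff, Units.val_mul, Units.val_pow_eq_pow_val]
    exact ⟨fun ⟨g, hg⟩ => hg ▸ det_norm g, fun h => (exists_tdet (hF := hF) (n := 3) h).imp fun _ h => Units.ext h.2⟩
  rw [h6, IsCyclic.card_powMonoidHom_ker, Nat.card_units, Nat.card_eq_fintype_card, hF]
  rfl

end U

end Cfsg.Agent.KZ.Ch3

private theorem dce_60202fc4f195 : _root_.True := by
  try have : _root_.True := by simp only [_root_.Cfsg.Agent.H356.AQ.Ki.congr_simp]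
  exact _root_.True.intro
end

-- part: KZ/Ch3/FrmB
section
prune_inst 0x2200880000000000000000000000000004010000
set_option linter.all false
open scoped Cfsg.Agent.FastGrp

/-!
# KZ, defining characteristic `3`: the frames of the symplectic and orthogonal groups (helper38)

`fr_psp`, `fr_odd`, `fr_plus`, `fr_minus` : `Fr3 (q ^ m) S`.
-/

set_option autoImplicit false
set_option linter.unusedSectionVars false

namespace Cfsg.Agent.KZ.Ch3

open Cfsg Cfsg.Agent.KZ.Ch3X Cfsg.Agent.Nodes Cfsg.Agent.LieClassical.OrthForms Cfsg.Agent.LieClassical.OrthTrans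
  Cfsg.Agent.H845.OC Cfsg.Agent.H553.AF Cfsg.Agent.ChevalleyStructure.CoxeterGeom Cfsg.Agent.Tits.Roots

theorem lg_sr {m : ℕ} [NeZero m] (i : Fin m) : lg (sr i) = decide (¬ (i : ℕ) + 1 < m) := by
  have hz := isRoot_sr (CoxeterMatrix.B m).toCoxeterSystem (TypeC.isCartan m) i
  have h1 := pr_eq hz (TypeC.ok_nx i) (by rw [TypeC.ee_sr]; rfl)
  have h2 : (pr (sr i)).1.1 = (pr (sr i)).2.1 ↔ ¬ (i : ℕ) + 1 < m := by
    have h3 : i = (TypeC.nx i).1 ↔ ¬ (i : ℕ) + 1 < m := by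
      unfold TypeC.nx
      split_ifs with h <;> simp [Fin.ext_iff, h]
    rcases h1 with ⟨e1, e2⟩ | ⟨e1, e2⟩ <;> rw [← e1, ← e2, ← h3]
    exact eq_comm
  rcases cns_pr hz with ⟨e1, e2⟩ | ⟨e1, e2⟩ <;> rw [e1, eq_comm]
  · exact decide_eq_true (h2.1 (congrArg Prod.fst e2))
  · exact decide_eq_false fun h => e2 (h2.2 h)

theorem prod_KK {m : ℕ} (E F : Type) :
    ∏ i : Fin (m + 1), Nat.card (KK E F (sr i)) = Nat.card F ^ m * Nat.card E := by
  have h1 : ∀ i : Fin (m + 1), Nat.card (KK E F (sr i)) = if (i : ℕ) < m then Nat.card F else Nat.card E := fun i => by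
    show Nat.card (KB E F _) = _
    rw [lg_sr]
    split_ifs with h
    · rw [decide_eq_false (by omega)]
      rfl
    · rw [decide_eq_true (by omega)]
      rfl
  rw [Finset.prod_congr rfl fun i _ => h1 i, Fin.prod_univ_castSucc]
  simp only [_root_.Fin.val_castSucc, _root_.Fin.is_lt, ↓ _root_.reduceIte, _root_.Finset.prod_const, _root_.Finset.card_univ, _root_.Fintype.card_fin, _root_.Fin.val_last, _root_.lt_self_iff_false]

variable {S F : Type} [Group S] [Finite S] [Field F] [Fintype F] [CharP F 3] {m : ℕ} (hs : IsSimpleGroup S)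
  (hab : ¬ IsMulCommutative S)
include hs hab

theorem fr_psp (hm : 1 ≤ m) (e : S ≃* PSp m F) : Fr3 (Fintype.card F ^ m) S := by
  obtain ⟨m, rfl⟩ : ∃ n, m = n + 1 := ⟨m - 1, by omega⟩
  have : Fact (Nat.Prime 3) := ⟨Nat.prime_three⟩
  have : Finite (PSp (m + 1) F) := Finite.of_equiv _ e.toEquiv
  have := TypeC.finite_W (CoxeterMatrix.B (m + 1)).toCoxeterSystem
  obtain ⟨φ, -, hφ⟩ := PSp.anti (F := F) (p := 3) (CoxeterMatrix.B (m + 1)).toCoxeterSystem
  have h := fr3_data e.symm.isSimpleGroup (na_of_equiv e hab) (PSp.data (F := F) (p := 3) _)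
    (Sp.commGen (two_ne (p := 3) (by norm_num)) _) hφ
  rw [prod_KK, ← pow_succ, Nat.card_eq_fintype_card] at h
  exact h.congr e

theorem fr_odd (hm : 2 ≤ m) (e : S ≃* POmega F (quadFormOdd m F)) : Fr3 (Fintype.card F ^ m) S := by
  obtain ⟨m, rfl⟩ : ∃ n, m = n + 1 := ⟨m - 1, by omega⟩
  rw [← coe_oddForm] at e
  have : Fact (Nat.Prime 3) := ⟨Nat.prime_three⟩
  have : Finite (POmega F ⇑(oddForm (m + 1) F)) := Finite.of_equiv _ e.toEquiv
  have := TypeC.finite_W (CoxeterMatrix.B (m + 1)).toCoxeterSystem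
  have h2 := two_ne (F := F) (p := 3) (by norm_num)
  have hZ := center_of e.symm.isSimpleGroup (na_of_equiv e hab)
  obtain ⟨φ, -, hφ⟩ := Odd.anti (F := F) (p := 3) h2 hm (CoxeterMatrix.B (m + 1)).toCoxeterSystem hZ
  have h := fr3_data e.symm.isSimpleGroup (na_of_equiv e hab) (Odd.data (F := F) (p := 3) h2 hm _ hZ)
    (Odd.commGen h2 hm _) hφ
  ((conv at h => enter [@1]; rw [prod_KK]); simp only [← pow_succ] at h; simp only [Nat.card_eq_fintype_card] at h)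
  exact h.congr e

theorem fr_plus (hm : 4 ≤ m) (e : S ≃* POmega F (quadFormPlus m F)) : Fr3 (Fintype.card F ^ m) S := by
  obtain ⟨n, rfl⟩ : ∃ n, m = n + 2 := ⟨m - 2, by omega⟩
  rw [← coe_plusForm] at e
  have : Fact (Nat.Prime 3) := ⟨Nat.prime_three⟩
  have : Finite (POmega F ⇑(plusForm (n + 2) F)) := Finite.of_equiv _ e.toEquiv
  have := TypeD.finite_W (TypeD.M n).toCoxeterSystem
  have hG := H366.OC.goodP (F := F) (n := n) (by omega)
  obtain ⟨φ, -, hφ⟩ := PlusD.anti (p := 3) hG (TypeD.M n).toCoxeterSystem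
  have H := PlusD.data (p := 3) hG (TypeD.M n).toCoxeterSystem
  have h := fr3_data e.symm.isSimpleGroup (na_of_equiv e hab) H (Omega.EH3.Kf.Lev.comm_of_sl H.rgd fun _ _ hx hy =>
    SimplyLaced.cpr_symm _ (TypeD.isCartan n) (H366.OC.M_ne_four n) (H366.OC.M_ne_six n) hx hy) hφ
  rw [Finset.prod_const, Finset.card_univ, Fintype.card_fin, Nat.card_eq_fintype_card] at h
  exact h.congr e

theorem fr_minus (hm : 4 ≤ m) {a b : F} (h0 : ∀ z₁ z₂ : F, z₁ ^ 2 + a * z₁ * z₂ + b * z₂ ^ 2 = 0 → z₁ = 0 ∧ z₂ = 0)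
    (e : S ≃* POmega F (quadFormMinus (m - 1) F a b)) : Fr3 (Fintype.card F ^ m) S := by
  obtain ⟨n, rfl⟩ : ∃ n, m = n + 1 + 1 := ⟨m - 2, by omega⟩
  rw [Nat.add_sub_cancel, ← coe_minusForm] at e
  have : Fact (Nat.Prime 3) := ⟨Nat.prime_three⟩
  have : Finite (POmega F ⇑(minusForm (n + 1) F a b)) := Finite.of_equiv _ e.toEquiv
  have := TypeC.finite_W (CoxeterMatrix.B (n + 1)).toCoxeterSystem
  have := H857.OM.fact_of h0
  have : Finite (H857.OM.KK a b) := H857.OM.finite_KK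
  have hG : _root_.Cfsg.Agent.LieClassical.OrthTrans.Good (minusForm (n + 1) F a b) := H948.Ppd.Minus.good_minus h0 (by omega)
  have hZ := center_of e.symm.isSimpleGroup (na_of_equiv e hab)
  obtain ⟨φ, -, hφ⟩ := H963.OC.Minus.anti (p := 3) h0 (by omega) hG hZ (CoxeterMatrix.B (n + 1)).toCoxeterSystem
  have h := fr3_data e.symm.isSimpleGroup (na_of_equiv e hab) (H963.OC.Minus.data (p := 3) h0 (by omega) hG hZ _)
    (H963.OC.Minus.commGen h0 (two_ne (p := 3) (by norm_num)) hG _) hφ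
  ((conv at h => enter [@1]; rw [prod_KK]); simp only [Nat.card_congr (QuadraticAlgebra.equivProd (-b) a)] at h; simp only [Nat.card_prod] at h; simp only [← mul_assoc] at h; (conv at h => enter [@1, @5]; rw [← pow_succ]); simp only [← pow_succ] at h; simp only [Nat.card_eq_fintype_card] at h)
  exact h.congr e

end Cfsg.Agent.KZ.Ch3
end
end
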