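import Cfsg.Agent.KZ.Exc.EBox_m3
import Cfsg.Agent.Lib.FinFast
import Cfsg.Agent.KZ.Exc.EGram
import Cfsg.Agent.Prune
set_option linter.all false

section
prune_inst 0x7f00000000000000000000000000000000000000000000000000000000000000000000000000000000000000000000000000000000000000000000000000000000000000000000000000000000000000003fffffffffffffffffffffffffffbeffbdffffffff

-- part: KZ/Exc/EGram6a
section
set_option linter.all false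

/-!
# KZ, exceptional groups: `gram6`, the small orbits (helper40)
-/

set_option autoImplicit false
set_option maxRecDepth 100000

namespace Cfsg.Agent.KZ.Exc

open Cfsg.Agent.KZ.DatX Cfsg.Agent.KZ.Exc.Gr

/-- the twisted cocharacters -/
def lam6' : Fin 8 → Fin 6 → ℤ := ![![0, 0, 0, 0, 0, 0], ![1, 0, 0, 0, 0, 0], ![0, 0, 1, 0, 0, 0], ![1, 0, 0, 0, 0, 2],
  ![-3, 0, 0, 0, 0, 1], ![1, 1, 0, 0, 0, 0], ![0, 1, 1, 0, 0, 0], ![1, 1, 2, 0, 0, 0]]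

/-- the check -/
abbrev Chk6 (j : Fin 8) : Prop := chk rowsE6 [0, 1, 2, 3, 4, 5] lam6 lam6' n6 p6 m6 d6 40 j = true

theorem chk6_0 : Chk6 0 := by decide +kernel

private noncomputable def _root_.Cfsg.Agent.LsF.ff33fdc_0 : {f // @Cfsg.Agent.KZ.Exc.Gr.fn = f} := ⟨_, by first | (delta Cfsg.Agent.KZ.Exc.Gr.fn; rewrite [Cfsg.Agent.LsF.nadd_pat]; (try delta Nat.casesOn); exact rfl) | exact rfl⟩
private noncomputable def _root_.Cfsg.Agent.LsF.ff33fdc_1 : {f // @Cfsg.Agent.KZ.Exc.Gr.fz = f} := ⟨_, by first | (delta Cfsg.Agent.KZ.Exc.Gr.fz; rewrite [Cfsg.Agent.LsF.ff33fdc_0.2]; (try delta Cfsg.Agent.KZ.Exc.Gr.fz.match_1); (try delta Int.casesOn); exact rfl) | exact rfl⟩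
private noncomputable def _root_.Cfsg.Agent.LsF.ff33fdc_2 : {f // @Cfsg.Agent.KZ.Exc.Gr.fl = f} := ⟨_, by first | (delta Cfsg.Agent.KZ.Exc.Gr.fl List.brecOn List.brecOn.go Cfsg.Agent.KZ.Exc.Gr.fl._f; rewrite [Cfsg.Agent.LsF.ff33fdc_1.2]; (try delta Cfsg.Agent.KZ.Exc.Gr.fl.match_1); (try delta List.casesOn); first | dsimp -zeta only | exact rfl) | exact rfl⟩
private noncomputable def _root_.Cfsg.Agent.LsF.ff33fdc_3 : {f // @Cfsg.Agent.KZ.DatX.refL = f} := ⟨_, by first | (delta Cfsg.Agent.KZ.DatX.refL; rewrite [Cfsg.Agent.LsF.imul_pat, Cfsg.Agent.LsF.isub_pat, Cfsg.Agent.LsF.zipWith_eq, Cfsg.Agent.LsF.getD_eq]; exact rfl) | exact rfl⟩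
private noncomputable def _root_.Cfsg.Agent.LsF.ff33fdc_4 : {f // @Cfsg.Agent.KZ.Exc.Gr.kids = f} := ⟨_, by first | (delta Cfsg.Agent.KZ.Exc.Gr.kids; rewrite [Cfsg.Agent.LsF.ff33fdc_2.2, Cfsg.Agent.LsF.ff33fdc_3.2, Cfsg.Agent.LsF.all_eq, Cfsg.Agent.LsF.foldr_eq, Cfsg.Agent.LsF.take_eq, Cfsg.Agent.LsF.getD_eq, Cfsg.Agent.LsF.idecLe_eq, Cfsg.Agent.LsF.idecLt_eq, Cfsg.Agent.LsF.dBoolEq_eq, Cfsg.Agent.LsF.ite_eq, Cfsg.Agent.LsF.decide_eq]; exact rfl) | exact rfl⟩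
private noncomputable def _root_.Cfsg.Agent.LsF.ff33fdc_5 : {f // @Cfsg.Agent.KZ.Exc.Gr.lev = f} := ⟨_, by first | (delta Cfsg.Agent.KZ.Exc.Gr.lev; rewrite [Cfsg.Agent.LsF.ff33fdc_4.2, Cfsg.Agent.LsF.foldr_eq]; exact rfl) | exact rfl⟩
private noncomputable def _root_.Cfsg.Agent.LsF.ff33fdc_6 : {f // @Cfsg.Agent.KZ.Exc.Gr.empL = f} := ⟨_, by first | (delta Cfsg.Agent.KZ.Exc.Gr.empL Nat.brecOn.go Nat.brecOn Cfsg.Agent.KZ.Exc.Gr.empL._f; rewrite [Cfsg.Agent.LsF.ff33fdc_5.2, Cfsg.Agent.LsF.isEmpty_eq]; (try delta Cfsg.Agent.KZ.Exc.Gr.allL.match_1); (try delta Nat.casesOn); first | dsimp -zeta only | exact rfl) | exact rfl⟩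
private noncomputable def _root_.Cfsg.Agent.LsF.ff33fdc_7 : {f // @Cfsg.Agent.KZ.Exc.Gr.sumL = f} := ⟨_, by first | (delta Cfsg.Agent.KZ.Exc.Gr.sumL List.brecOn List.brecOn.go Cfsg.Agent.KZ.Exc.Gr.sumL._f; rewrite [Cfsg.Agent.LsF.ff33fdc_1.2, Cfsg.Agent.LsF.iadd_pat]; (try delta Cfsg.Agent.KZ.Exc.Gr.sumL.match_1); (try delta List.casesOn); first | dsimp -zeta only | exact rfl) | exact rfl⟩
private noncomputable def _root_.Cfsg.Agent.LsF.ff33fdc_8 : {f // @Cfsg.Agent.KZ.Exc.Gr.allL = f} := ⟨_, by first | (delta Cfsg.Agent.KZ.Exc.Gr.allL Nat.brecOn.go Nat.brecOn Cfsg.Agent.KZ.Exc.Gr.allL._f; rewrite [Cfsg.Agent.LsF.ff33fdc_5.2, Cfsg.Agent.LsF.lappend_pat]; (try delta Cfsg.Agent.KZ.Exc.Gr.allL.match_1); (try delta Nat.casesOn); first | dsimp -zeta only | exact rfl) | exact rfl⟩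
private noncomputable def _root_.Cfsg.Agent.LsF.ff33fdc_9 : {f // @Cfsg.Agent.KZ.Exc.Gr.djL = f} := ⟨_, by first | (delta Cfsg.Agent.KZ.Exc.Gr.djL; rewrite [Cfsg.Agent.LsF.instIBEq_pat, Cfsg.Agent.LsF.or_eq, Cfsg.Agent.LsF.all_eq, Cfsg.Agent.LsF.getD_eq, Cfsg.Agent.LsF.bne_eq, Cfsg.Agent.LsF.idecLe_eq, Cfsg.Agent.LsF.decide_eq]; exact rfl) | exact rfl⟩
private noncomputable def _root_.Cfsg.Agent.LsF.ff33fdc_10 : {f // @Cfsg.Agent.KZ.DatX.app = f} := ⟨_, by first | (delta Cfsg.Agent.KZ.DatX.app; rewrite [Cfsg.Agent.LsF.ff33fdc_3.2, Cfsg.Agent.LsF.foldr_eq]; exact rfl) | exact rfl⟩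
private noncomputable def _root_.Cfsg.Agent.LsF.ff33fdc_11 : {f // @Cfsg.Agent.KZ.Exc.Gr.dom = f} := ⟨_, by first | (delta Cfsg.Agent.KZ.Exc.Gr.dom Cfsg.Agent.KZ.Exc.Gr.dom._f Nat.brecOn.go Nat.brecOn; rewrite [Cfsg.Agent.LsF.ff33fdc_2.2, Cfsg.Agent.LsF.ff33fdc_3.2, Cfsg.Agent.LsF.ff33fdc_1.2, Cfsg.Agent.LsF.ineg_pat, Cfsg.Agent.LsF.ibeq_pat, Cfsg.Agent.LsF.and_eq, Cfsg.Agent.LsF.find?_eq, Cfsg.Agent.LsF.getD_eq, Cfsg.Agent.LsF.idecLt_eq, Cfsg.Agent.LsF.decide_eq]; (try delta Cfsg.Agent.KZ.Exc.Gr.dom.match_3); (try delta Cfsg.Agent.KZ.Exc.Gr.dom.match_1); (try delta Nat.casesOn Option.casesOn); first | dsimp -zeta only | exact rfl) | exact rfl⟩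
private noncomputable def _root_.Cfsg.Agent.LsF.ff33fdc_12 : {f // @Cfsg.Agent.KZ.Exc.Gr.dn = f} := ⟨_, by first | (delta Cfsg.Agent.KZ.Exc.Gr.dn; rewrite [Cfsg.Agent.LsF.ff33fdc_2.2, Cfsg.Agent.LsF.ff33fdc_10.2, Cfsg.Agent.LsF.ff33fdc_11.2, Cfsg.Agent.LsF.ineg_pat, Cfsg.Agent.LsF.length_eq]; exact rfl) | exact rfl⟩
private noncomputable def _root_.Cfsg.Agent.LsF.ff33fdc_13 : {f // @Cfsg.Agent.KZ.Exc.Gr.okL = f} := ⟨_, by first | (delta Cfsg.Agent.KZ.Exc.Gr.okL; rewrite [Cfsg.Agent.LsF.ff33fdc_9.2, Cfsg.Agent.LsF.ff33fdc_12.2, Cfsg.Agent.LsF.or_eq, Cfsg.Agent.LsF.not_eq]; exact rfl) | exact rfl⟩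
private noncomputable def _root_.Cfsg.Agent.LsF.ff33fdc_14 : {f // @Cfsg.Agent.KZ.Exc.Gr.stL = f} := ⟨_, by first | (delta Cfsg.Agent.KZ.Exc.Gr.stL; rewrite [Cfsg.Agent.LsF.instIBEq_pat, Cfsg.Agent.LsF.or_eq, Cfsg.Agent.LsF.all_eq, Cfsg.Agent.LsF.getD_eq, Cfsg.Agent.LsF.bne_eq]; exact rfl) | exact rfl⟩
private noncomputable def _root_.Cfsg.Agent.LsF.ff33fdc_15 : {f // @Cfsg.Agent.KZ.Exc.Gr.hh = f} := ⟨_, by first | (delta Cfsg.Agent.KZ.Exc.Gr.hh; rewrite [Cfsg.Agent.LsF.ff33fdc_9.2, Cfsg.Agent.LsF.ff33fdc_12.2, Cfsg.Agent.LsF.ff33fdc_14.2, Cfsg.Agent.LsF.instIDecEq_eq, Cfsg.Agent.LsF.dBoolEq_eq, Cfsg.Agent.LsF.dListEq_eq, Cfsg.Agent.LsF.ite_eq]; exact rfl) | exact rfl⟩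
private noncomputable def _root_.Cfsg.Agent.LsF.ff33fdc_16 : {f // @Cfsg.Agent.KZ.Exc.Gr.chk = f} := ⟨_, by first | (delta Cfsg.Agent.KZ.Exc.Gr.chk; rewrite [Cfsg.Agent.LsF.ff33fdc_2.2, Cfsg.Agent.LsF.ff33fdc_6.2, Cfsg.Agent.LsF.ff33fdc_7.2, Cfsg.Agent.LsF.ff33fdc_8.2, Cfsg.Agent.LsF.ff33fdc_13.2, Cfsg.Agent.LsF.ff33fdc_15.2, Cfsg.Agent.LsF.ibeq_pat, Cfsg.Agent.LsF.and_eq, Cfsg.Agent.LsF.or_eq, Cfsg.Agent.LsF.all_eq, Cfsg.Agent.LsF.instIDecEq_eq, Cfsg.Agent.LsF.dFinLt_eq, Cfsg.Agent.LsF.dListEq_eq, Cfsg.Agent.LsF.finRange_eq, Cfsg.Agent.LsF.ofFn_eq, Cfsg.Agent.LsF.ite_eq, Cfsg.Agent.LsF.decide_eq]; exact rfl) | exact rfl⟩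
private noncomputable def _root_.Cfsg.Agent.LsF.ff33fdc_17 : {f // @Cfsg.Agent.KZ.Exc.lam6 = f} := ⟨_, by first | (delta Cfsg.Agent.KZ.Exc.lam6; rewrite [Cfsg.Agent.LsF.vecCons_eq]; exact rfl) | exact rfl⟩
private noncomputable def _root_.Cfsg.Agent.LsF.ff33fdc_18 : {f // @Cfsg.Agent.KZ.Exc.lam6' = f} := ⟨_, by first | (delta Cfsg.Agent.KZ.Exc.lam6'; rewrite [Cfsg.Agent.LsF.ineg_pat, Cfsg.Agent.LsF.vecCons_eq]; exact rfl) | exact rfl⟩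
private noncomputable def _root_.Cfsg.Agent.LsF.ff33fdc_19 : {f // @Cfsg.Agent.KZ.Exc.n6 = f} := ⟨_, by first | (delta Cfsg.Agent.KZ.Exc.n6; rewrite [Cfsg.Agent.LsF.vecCons_eq]; exact rfl) | exact rfl⟩
private noncomputable def _root_.Cfsg.Agent.LsF.ff33fdc_20 : {f // @Cfsg.Agent.KZ.Exc.p6 = f} := ⟨_, by first | (delta Cfsg.Agent.KZ.Exc.p6; rewrite [Cfsg.Agent.LsF.vecCons_eq]; exact rfl) | exact rfl⟩
private noncomputable def _root_.Cfsg.Agent.LsF.ff33fdc_21 : {f // @Cfsg.Agent.KZ.Exc.m6 = f} := ⟨_, by first | (delta Cfsg.Agent.KZ.Exc.m6; rewrite [Cfsg.Agent.LsF.vecCons_eq]; exact rfl) | exact rfl⟩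
private noncomputable def _root_.Cfsg.Agent.LsF.ff33fdc_22 : {f // @Cfsg.Agent.KZ.Exc.d6 = f} := ⟨_, by first | (delta Cfsg.Agent.KZ.Exc.d6; rewrite [Cfsg.Agent.LsF.vecCons_eq]; exact rfl) | exact rfl⟩
theorem chk6_1 : Chk6 1 := by (refine of_decide_eq_true ?_; (try (delta Cfsg.Agent.KZ.Exc.Chk6; rewrite [Cfsg.Agent.LsF.ff33fdc_16.2, Cfsg.Agent.LsF.ff33fdc_17.2, Cfsg.Agent.LsF.ff33fdc_18.2, Cfsg.Agent.LsF.ff33fdc_19.2, Cfsg.Agent.LsF.ff33fdc_20.2, Cfsg.Agent.LsF.ff33fdc_21.2, Cfsg.Agent.LsF.ff33fdc_22.2, Cfsg.Agent.LsF.dBoolEq_eq, Cfsg.Agent.LsF.decide_eq])); decide +kernel)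

theorem chk6_2 : Chk6 2 := by (refine of_decide_eq_true ?_; (try (delta Cfsg.Agent.KZ.Exc.Chk6; rewrite [Cfsg.Agent.LsF.ff33fdc_16.2, Cfsg.Agent.LsF.ff33fdc_17.2, Cfsg.Agent.LsF.ff33fdc_18.2, Cfsg.Agent.LsF.ff33fdc_19.2, Cfsg.Agent.LsF.ff33fdc_20.2, Cfsg.Agent.LsF.ff33fdc_21.2, Cfsg.Agent.LsF.ff33fdc_22.2, Cfsg.Agent.LsF.dBoolEq_eq, Cfsg.Agent.LsF.decide_eq])); decide +kernel)

theorem chk6_3 : Chk6 3 := by (refine of_decide_eq_true ?_; (try (delta Cfsg.Agent.KZ.Exc.Chk6; rewrite [Cfsg.Agent.LsF.ff33fdc_16.2, Cfsg.Agent.LsF.ff33fdc_17.2, Cfsg.Agent.LsF.ff33fdc_18.2, Cfsg.Agent.LsF.ff33fdc_19.2, Cfsg.Agent.LsF.ff33fdc_20.2, Cfsg.Agent.LsF.ff33fdc_21.2, Cfsg.Agent.LsF.ff33fdc_22.2, Cfsg.Agent.LsF.dBoolEq_eq, Cfsg.Agent.LsF.decide_eq])); decide +kernel)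

theorem chk6_4 : Chk6 4 := by (refine of_decide_eq_true ?_; (try (delta Cfsg.Agent.KZ.Exc.Chk6; rewrite [Cfsg.Agent.LsF.ff33fdc_16.2, Cfsg.Agent.LsF.ff33fdc_17.2, Cfsg.Agent.LsF.ff33fdc_18.2, Cfsg.Agent.LsF.ff33fdc_19.2, Cfsg.Agent.LsF.ff33fdc_20.2, Cfsg.Agent.LsF.ff33fdc_21.2, Cfsg.Agent.LsF.ff33fdc_22.2, Cfsg.Agent.LsF.dBoolEq_eq, Cfsg.Agent.LsF.decide_eq])); decide +kernel)

end Cfsg.Agent.KZ.Exc
end

-- part: KZ/Exc/EGram6c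
section
set_option linter.all false

/-!
# KZ, exceptional groups: `gram6`, the orbit 7 (helper40)
-/

set_option autoImplicit false
set_option maxRecDepth 100000

namespace Cfsg.Agent.KZ.Exc

open Cfsg.Agent.KZ.DatX Cfsg.Agent.KZ.Exc.Gr

private noncomputable def _root_.Cfsg.Agent.LsF.f627787_0 : {f // @Cfsg.Agent.KZ.Exc.Gr.fn = f} := ⟨_, by first | (delta Cfsg.Agent.KZ.Exc.Gr.fn; rewrite [Cfsg.Agent.LsF.nadd_pat]; (try delta Nat.casesOn); exact rfl) | exact rfl⟩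
private noncomputable def _root_.Cfsg.Agent.LsF.f627787_1 : {f // @Cfsg.Agent.KZ.Exc.Gr.fz = f} := ⟨_, by first | (delta Cfsg.Agent.KZ.Exc.Gr.fz; rewrite [Cfsg.Agent.LsF.f627787_0.2]; (try delta Cfsg.Agent.KZ.Exc.Gr.fz.match_1); (try delta Int.casesOn); exact rfl) | exact rfl⟩
private noncomputable def _root_.Cfsg.Agent.LsF.f627787_2 : {f // @Cfsg.Agent.KZ.Exc.Gr.fl = f} := ⟨_, by first | (delta Cfsg.Agent.KZ.Exc.Gr.fl List.brecOn List.brecOn.go Cfsg.Agent.KZ.Exc.Gr.fl._f; rewrite [Cfsg.Agent.LsF.f627787_1.2]; (try delta Cfsg.Agent.KZ.Exc.Gr.fl.match_1); (try delta List.casesOn); first | dsimp -zeta only | exact rfl) | exact rfl⟩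
private noncomputable def _root_.Cfsg.Agent.LsF.f627787_3 : {f // @Cfsg.Agent.KZ.DatX.refL = f} := ⟨_, by first | (delta Cfsg.Agent.KZ.DatX.refL; rewrite [Cfsg.Agent.LsF.imul_pat, Cfsg.Agent.LsF.isub_pat, Cfsg.Agent.LsF.zipWith_eq, Cfsg.Agent.LsF.getD_eq]; exact rfl) | exact rfl⟩
private noncomputable def _root_.Cfsg.Agent.LsF.f627787_4 : {f // @Cfsg.Agent.KZ.Exc.Gr.kids = f} := ⟨_, by first | (delta Cfsg.Agent.KZ.Exc.Gr.kids; rewrite [Cfsg.Agent.LsF.f627787_2.2, Cfsg.Agent.LsF.f627787_3.2, Cfsg.Agent.LsF.all_eq, Cfsg.Agent.LsF.foldr_eq, Cfsg.Agent.LsF.take_eq, Cfsg.Agent.LsF.getD_eq, Cfsg.Agent.LsF.idecLe_eq, Cfsg.Agent.LsF.idecLt_eq, Cfsg.Agent.LsF.dBoolEq_eq, Cfsg.Agent.LsF.ite_eq, Cfsg.Agent.LsF.decide_eq]; exact rfl) | exact rfl⟩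
private noncomputable def _root_.Cfsg.Agent.LsF.f627787_5 : {f // @Cfsg.Agent.KZ.Exc.Gr.lev = f} := ⟨_, by first | (delta Cfsg.Agent.KZ.Exc.Gr.lev; rewrite [Cfsg.Agent.LsF.f627787_4.2, Cfsg.Agent.LsF.foldr_eq]; exact rfl) | exact rfl⟩
private noncomputable def _root_.Cfsg.Agent.LsF.f627787_6 : {f // @Cfsg.Agent.KZ.Exc.Gr.empL = f} := ⟨_, by first | (delta Cfsg.Agent.KZ.Exc.Gr.empL Nat.brecOn.go Nat.brecOn Cfsg.Agent.KZ.Exc.Gr.empL._f; rewrite [Cfsg.Agent.LsF.f627787_5.2, Cfsg.Agent.LsF.isEmpty_eq]; (try delta Cfsg.Agent.KZ.Exc.Gr.allL.match_1); (try delta Nat.casesOn); first | dsimp -zeta only | exact rfl) | exact rfl⟩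
private noncomputable def _root_.Cfsg.Agent.LsF.f627787_7 : {f // @Cfsg.Agent.KZ.Exc.Gr.sumL = f} := ⟨_, by first | (delta Cfsg.Agent.KZ.Exc.Gr.sumL List.brecOn List.brecOn.go Cfsg.Agent.KZ.Exc.Gr.sumL._f; rewrite [Cfsg.Agent.LsF.f627787_1.2, Cfsg.Agent.LsF.iadd_pat]; (try delta Cfsg.Agent.KZ.Exc.Gr.sumL.match_1); (try delta List.casesOn); first | dsimp -zeta only | exact rfl) | exact rfl⟩
private noncomputable def _root_.Cfsg.Agent.LsF.f627787_8 : {f // @Cfsg.Agent.KZ.Exc.Gr.allL = f} := ⟨_, by first | (delta Cfsg.Agent.KZ.Exc.Gr.allL Nat.brecOn.go Nat.brecOn Cfsg.Agent.KZ.Exc.Gr.allL._f; rewrite [Cfsg.Agent.LsF.f627787_5.2, Cfsg.Agent.LsF.lappend_pat]; (try delta Cfsg.Agent.KZ.Exc.Gr.allL.match_1); (try delta Nat.casesOn); first | dsimp -zeta only | exact rfl) | exact rfl⟩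
private noncomputable def _root_.Cfsg.Agent.LsF.f627787_9 : {f // @Cfsg.Agent.KZ.Exc.Gr.djL = f} := ⟨_, by first | (delta Cfsg.Agent.KZ.Exc.Gr.djL; rewrite [Cfsg.Agent.LsF.instIBEq_pat, Cfsg.Agent.LsF.or_eq, Cfsg.Agent.LsF.all_eq, Cfsg.Agent.LsF.getD_eq, Cfsg.Agent.LsF.bne_eq, Cfsg.Agent.LsF.idecLe_eq, Cfsg.Agent.LsF.decide_eq]; exact rfl) | exact rfl⟩
private noncomputable def _root_.Cfsg.Agent.LsF.f627787_10 : {f // @Cfsg.Agent.KZ.DatX.app = f} := ⟨_, by first | (delta Cfsg.Agent.KZ.DatX.app; rewrite [Cfsg.Agent.LsF.f627787_3.2, Cfsg.Agent.LsF.foldr_eq]; exact rfl) | exact rfl⟩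
private noncomputable def _root_.Cfsg.Agent.LsF.f627787_11 : {f // @Cfsg.Agent.KZ.Exc.Gr.dom = f} := ⟨_, by first | (delta Cfsg.Agent.KZ.Exc.Gr.dom Cfsg.Agent.KZ.Exc.Gr.dom._f Nat.brecOn.go Nat.brecOn; rewrite [Cfsg.Agent.LsF.f627787_2.2, Cfsg.Agent.LsF.f627787_3.2, Cfsg.Agent.LsF.f627787_1.2, Cfsg.Agent.LsF.ineg_pat, Cfsg.Agent.LsF.ibeq_pat, Cfsg.Agent.LsF.and_eq, Cfsg.Agent.LsF.find?_eq, Cfsg.Agent.LsF.getD_eq, Cfsg.Agent.LsF.idecLt_eq, Cfsg.Agent.LsF.decide_eq]; (try delta Cfsg.Agent.KZ.Exc.Gr.dom.match_3); (try delta Cfsg.Agent.KZ.Exc.Gr.dom.match_1); (try delta Nat.casesOn Option.casesOn); first | dsimp -zeta only | exact rfl) | exact rfl⟩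
private noncomputable def _root_.Cfsg.Agent.LsF.f627787_12 : {f // @Cfsg.Agent.KZ.Exc.Gr.dn = f} := ⟨_, by first | (delta Cfsg.Agent.KZ.Exc.Gr.dn; rewrite [Cfsg.Agent.LsF.f627787_2.2, Cfsg.Agent.LsF.f627787_10.2, Cfsg.Agent.LsF.f627787_11.2, Cfsg.Agent.LsF.ineg_pat, Cfsg.Agent.LsF.length_eq]; exact rfl) | exact rfl⟩
private noncomputable def _root_.Cfsg.Agent.LsF.f627787_13 : {f // @Cfsg.Agent.KZ.Exc.Gr.okL = f} := ⟨_, by first | (delta Cfsg.Agent.KZ.Exc.Gr.okL; rewrite [Cfsg.Agent.LsF.f627787_9.2, Cfsg.Agent.LsF.f627787_12.2, Cfsg.Agent.LsF.or_eq, Cfsg.Agent.LsF.not_eq]; exact rfl) | exact rfl⟩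
private noncomputable def _root_.Cfsg.Agent.LsF.f627787_14 : {f // @Cfsg.Agent.KZ.Exc.Gr.stL = f} := ⟨_, by first | (delta Cfsg.Agent.KZ.Exc.Gr.stL; rewrite [Cfsg.Agent.LsF.instIBEq_pat, Cfsg.Agent.LsF.or_eq, Cfsg.Agent.LsF.all_eq, Cfsg.Agent.LsF.getD_eq, Cfsg.Agent.LsF.bne_eq]; exact rfl) | exact rfl⟩
private noncomputable def _root_.Cfsg.Agent.LsF.f627787_15 : {f // @Cfsg.Agent.KZ.Exc.Gr.hh = f} := ⟨_, by first | (delta Cfsg.Agent.KZ.Exc.Gr.hh; rewrite [Cfsg.Agent.LsF.f627787_9.2, Cfsg.Agent.LsF.f627787_12.2, Cfsg.Agent.LsF.f627787_14.2, Cfsg.Agent.LsF.instIDecEq_eq, Cfsg.Agent.LsF.dBoolEq_eq, Cfsg.Agent.LsF.dListEq_eq, Cfsg.Agent.LsF.ite_eq]; exact rfl) | exact rfl⟩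
private noncomputable def _root_.Cfsg.Agent.LsF.f627787_16 : {f // @Cfsg.Agent.KZ.Exc.Gr.chk = f} := ⟨_, by first | (delta Cfsg.Agent.KZ.Exc.Gr.chk; rewrite [Cfsg.Agent.LsF.f627787_2.2, Cfsg.Agent.LsF.f627787_6.2, Cfsg.Agent.LsF.f627787_7.2, Cfsg.Agent.LsF.f627787_8.2, Cfsg.Agent.LsF.f627787_13.2, Cfsg.Agent.LsF.f627787_15.2, Cfsg.Agent.LsF.ibeq_pat, Cfsg.Agent.LsF.and_eq, Cfsg.Agent.LsF.or_eq, Cfsg.Agent.LsF.all_eq, Cfsg.Agent.LsF.instIDecEq_eq, Cfsg.Agent.LsF.dFinLt_eq, Cfsg.Agent.LsF.dListEq_eq, Cfsg.Agent.LsF.finRange_eq, Cfsg.Agent.LsF.ofFn_eq, Cfsg.Agent.LsF.ite_eq, Cfsg.Agent.LsF.decide_eq]; exact rfl) | exact rfl⟩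
private noncomputable def _root_.Cfsg.Agent.LsF.f627787_17 : {f // @Cfsg.Agent.KZ.Exc.lam6 = f} := ⟨_, by first | (delta Cfsg.Agent.KZ.Exc.lam6; rewrite [Cfsg.Agent.LsF.vecCons_eq]; exact rfl) | exact rfl⟩
private noncomputable def _root_.Cfsg.Agent.LsF.f627787_18 : {f // @Cfsg.Agent.KZ.Exc.lam6' = f} := ⟨_, by first | (delta Cfsg.Agent.KZ.Exc.lam6'; rewrite [Cfsg.Agent.LsF.ineg_pat, Cfsg.Agent.LsF.vecCons_eq]; exact rfl) | exact rfl⟩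
private noncomputable def _root_.Cfsg.Agent.LsF.f627787_19 : {f // @Cfsg.Agent.KZ.Exc.n6 = f} := ⟨_, by first | (delta Cfsg.Agent.KZ.Exc.n6; rewrite [Cfsg.Agent.LsF.vecCons_eq]; exact rfl) | exact rfl⟩
private noncomputable def _root_.Cfsg.Agent.LsF.f627787_20 : {f // @Cfsg.Agent.KZ.Exc.p6 = f} := ⟨_, by first | (delta Cfsg.Agent.KZ.Exc.p6; rewrite [Cfsg.Agent.LsF.vecCons_eq]; exact rfl) | exact rfl⟩
private noncomputable def _root_.Cfsg.Agent.LsF.f627787_21 : {f // @Cfsg.Agent.KZ.Exc.m6 = f} := ⟨_, by first | (delta Cfsg.Agent.KZ.Exc.m6; rewrite [Cfsg.Agent.LsF.vecCons_eq]; exact rfl) | exact rfl⟩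
private noncomputable def _root_.Cfsg.Agent.LsF.f627787_22 : {f // @Cfsg.Agent.KZ.Exc.d6 = f} := ⟨_, by first | (delta Cfsg.Agent.KZ.Exc.d6; rewrite [Cfsg.Agent.LsF.vecCons_eq]; exact rfl) | exact rfl⟩
theorem chk6_7 : Chk6 7 := by (refine of_decide_eq_true ?_; (try (delta Cfsg.Agent.KZ.Exc.Chk6; rewrite [Cfsg.Agent.LsF.f627787_16.2, Cfsg.Agent.LsF.f627787_17.2, Cfsg.Agent.LsF.f627787_18.2, Cfsg.Agent.LsF.f627787_19.2, Cfsg.Agent.LsF.f627787_20.2, Cfsg.Agent.LsF.f627787_21.2, Cfsg.Agent.LsF.f627787_22.2, Cfsg.Agent.LsF.dBoolEq_eq, Cfsg.Agent.LsF.decide_eq])); decide +kernel)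

end Cfsg.Agent.KZ.Exc
end

-- part: KZ/Exc/EGram6b
section
set_option linter.all false
open scoped Cfsg.Agent.FastGrp

/-!
# KZ, exceptional groups: `gram6`, the orbits 5 and 6 (helper40)
-/

set_option autoImplicit false
set_option maxRecDepth 100000

namespace Cfsg.Agent.KZ.Exc

open Cfsg.Agent.KZ.DatX Cfsg.Agent.KZ.Exc.Gr

private noncomputable def _root_.Cfsg.Agent.KOb4f67e4.k0 : type_of% @Decidable.decide := @(fun x0 x1 => @Decidable.rec.{1} _ @(fun x2 => @Bool) @(fun x2 => @Bool.false) @(fun x2 => @Bool.true) @x1)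
private theorem _root_.Cfsg.Agent.KOb4f67e4.e0 : @Decidable.decide = @_root_.Cfsg.Agent.KOb4f67e4.k0 := by delta _root_.Cfsg.Agent.KOb4f67e4.k0; rfl'
private noncomputable def _root_.Cfsg.Agent.KOb4f67e4.k1 : type_of% @Bool.decEq := @(fun x0 x1 => @Bool.rec.{1} @(fun x2 => @Decidable (@Eq.{1} _ @x2 @x1)) (@Bool.rec.{1} @(fun x2 => @Decidable (@Eq.{1} _ @Bool.false @x2)) (@Decidable.isTrue _ (@rfl.{1} _ _)) (@Decidable.isFalse _ @(fun x2 => @Bool.noConfusion.{0} _ _ _ @x2)) @x1) (@Bool.rec.{1} @(fun x2 => @Decidable (@Eq.{1} _ @Bool.true @x2)) (@Decidable.isFalse _ @(fun x2 => @Bool.noConfusion.{0} _ _ _ @x2)) (@Decidable.isTrue _ (@rfl.{1} _ _)) @x1) @x0)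
private theorem _root_.Cfsg.Agent.KOb4f67e4.e1 : @Bool.decEq = @_root_.Cfsg.Agent.KOb4f67e4.k1 := by delta _root_.Cfsg.Agent.KOb4f67e4.k1; rfl'
private noncomputable def _root_.Cfsg.Agent.KOb4f67e4.k2 : type_of% @instDecidableEqBool := @Cfsg.Agent.KOb4f67e4.k1
private theorem _root_.Cfsg.Agent.KOb4f67e4.e2 : @instDecidableEqBool = @_root_.Cfsg.Agent.KOb4f67e4.k2 := by delta _root_.Cfsg.Agent.KOb4f67e4.k2; rewrite [← Cfsg.Agent.KOb4f67e4.e1]; rfl'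

private noncomputable def _root_.Cfsg.Agent.LsF.f942312_0 : {f // @Cfsg.Agent.KZ.Exc.Gr.fn = f} := ⟨_, by first | (delta Cfsg.Agent.KZ.Exc.Gr.fn; rewrite [Cfsg.Agent.LsF.nadd_pat]; (try delta Nat.casesOn); exact rfl) | exact rfl⟩
private noncomputable def _root_.Cfsg.Agent.LsF.f942312_1 : {f // @Cfsg.Agent.KZ.Exc.Gr.fz = f} := ⟨_, by first | (delta Cfsg.Agent.KZ.Exc.Gr.fz; rewrite [Cfsg.Agent.LsF.f942312_0.2]; (try delta Cfsg.Agent.KZ.Exc.Gr.fz.match_1); (try delta Int.casesOn); exact rfl) | exact rfl⟩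
private noncomputable def _root_.Cfsg.Agent.LsF.f942312_2 : {f // @Cfsg.Agent.KZ.Exc.Gr.fl = f} := ⟨_, by first | (delta Cfsg.Agent.KZ.Exc.Gr.fl List.brecOn List.brecOn.go Cfsg.Agent.KZ.Exc.Gr.fl._f; rewrite [Cfsg.Agent.LsF.f942312_1.2]; (try delta Cfsg.Agent.KZ.Exc.Gr.fl.match_1); (try delta List.casesOn); first | dsimp -zeta only | exact rfl) | exact rfl⟩
private noncomputable def _root_.Cfsg.Agent.LsF.f942312_3 : {f // @Cfsg.Agent.KZ.DatX.refL = f} := ⟨_, by first | (delta Cfsg.Agent.KZ.DatX.refL; rewrite [Cfsg.Agent.LsF.imul_pat, Cfsg.Agent.LsF.isub_pat, Cfsg.Agent.LsF.zipWith_eq, Cfsg.Agent.LsF.getD_eq]; exact rfl) | exact rfl⟩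
private noncomputable def _root_.Cfsg.Agent.LsF.f942312_4 : {f // @Cfsg.Agent.KZ.Exc.Gr.kids = f} := ⟨_, by first | (delta Cfsg.Agent.KZ.Exc.Gr.kids; rewrite [Cfsg.Agent.LsF.f942312_2.2, Cfsg.Agent.LsF.f942312_3.2, Cfsg.Agent.LsF.all_eq, Cfsg.Agent.LsF.foldr_eq, Cfsg.Agent.LsF.take_eq, Cfsg.Agent.LsF.getD_eq, Cfsg.Agent.LsF.idecLe_eq, Cfsg.Agent.LsF.idecLt_eq, Cfsg.Agent.LsF.dBoolEq_eq, Cfsg.Agent.LsF.ite_eq, Cfsg.Agent.LsF.decide_eq]; exact rfl) | exact rfl⟩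
private noncomputable def _root_.Cfsg.Agent.LsF.f942312_5 : {f // @Cfsg.Agent.KZ.Exc.Gr.lev = f} := ⟨_, by first | (delta Cfsg.Agent.KZ.Exc.Gr.lev; rewrite [Cfsg.Agent.LsF.f942312_4.2, Cfsg.Agent.LsF.foldr_eq]; exact rfl) | exact rfl⟩
private noncomputable def _root_.Cfsg.Agent.LsF.f942312_6 : {f // @Cfsg.Agent.KZ.Exc.Gr.empL = f} := ⟨_, by first | (delta Cfsg.Agent.KZ.Exc.Gr.empL Nat.brecOn.go Nat.brecOn Cfsg.Agent.KZ.Exc.Gr.empL._f; rewrite [Cfsg.Agent.LsF.f942312_5.2, Cfsg.Agent.LsF.isEmpty_eq]; (try delta Cfsg.Agent.KZ.Exc.Gr.allL.match_1); (try delta Nat.casesOn); first | dsimp -zeta only | exact rfl) | exact rfl⟩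
private noncomputable def _root_.Cfsg.Agent.LsF.f942312_7 : {f // @Cfsg.Agent.KZ.Exc.Gr.sumL = f} := ⟨_, by first | (delta Cfsg.Agent.KZ.Exc.Gr.sumL List.brecOn List.brecOn.go Cfsg.Agent.KZ.Exc.Gr.sumL._f; rewrite [Cfsg.Agent.LsF.f942312_1.2, Cfsg.Agent.LsF.iadd_pat]; (try delta Cfsg.Agent.KZ.Exc.Gr.sumL.match_1); (try delta List.casesOn); first | dsimp -zeta only | exact rfl) | exact rfl⟩
private noncomputable def _root_.Cfsg.Agent.LsF.f942312_8 : {f // @Cfsg.Agent.KZ.Exc.Gr.allL = f} := ⟨_, by first | (delta Cfsg.Agent.KZ.Exc.Gr.allL Nat.brecOn.go Nat.brecOn Cfsg.Agent.KZ.Exc.Gr.allL._f; rewrite [Cfsg.Agent.LsF.f942312_5.2, Cfsg.Agent.LsF.lappend_pat]; (try delta Cfsg.Agent.KZ.Exc.Gr.allL.match_1); (try delta Nat.casesOn); first | dsimp -zeta only | exact rfl) | exact rfl⟩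
private noncomputable def _root_.Cfsg.Agent.LsF.f942312_9 : {f // @Cfsg.Agent.KZ.Exc.Gr.djL = f} := ⟨_, by first | (delta Cfsg.Agent.KZ.Exc.Gr.djL; rewrite [Cfsg.Agent.LsF.instIBEq_pat, Cfsg.Agent.LsF.or_eq, Cfsg.Agent.LsF.all_eq, Cfsg.Agent.LsF.getD_eq, Cfsg.Agent.LsF.bne_eq, Cfsg.Agent.LsF.idecLe_eq, Cfsg.Agent.LsF.decide_eq]; exact rfl) | exact rfl⟩
private noncomputable def _root_.Cfsg.Agent.LsF.f942312_10 : {f // @Cfsg.Agent.KZ.DatX.app = f} := ⟨_, by first | (delta Cfsg.Agent.KZ.DatX.app; rewrite [Cfsg.Agent.LsF.f942312_3.2, Cfsg.Agent.LsF.foldr_eq]; exact rfl) | exact rfl⟩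
private noncomputable def _root_.Cfsg.Agent.LsF.f942312_11 : {f // @Cfsg.Agent.KZ.Exc.Gr.dom = f} := ⟨_, by first | (delta Cfsg.Agent.KZ.Exc.Gr.dom Cfsg.Agent.KZ.Exc.Gr.dom._f Nat.brecOn.go Nat.brecOn; rewrite [Cfsg.Agent.LsF.f942312_2.2, Cfsg.Agent.LsF.f942312_3.2, Cfsg.Agent.LsF.f942312_1.2, Cfsg.Agent.LsF.ineg_pat, Cfsg.Agent.LsF.ibeq_pat, Cfsg.Agent.LsF.and_eq, Cfsg.Agent.LsF.find?_eq, Cfsg.Agent.LsF.getD_eq, Cfsg.Agent.LsF.idecLt_eq, Cfsg.Agent.LsF.decide_eq]; (try delta Cfsg.Agent.KZ.Exc.Gr.dom.match_3); (try delta Cfsg.Agent.KZ.Exc.Gr.dom.match_1); (try delta Nat.casesOn Option.casesOn); first | dsimp -zeta only | exact rfl) | exact rfl⟩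
private noncomputable def _root_.Cfsg.Agent.LsF.f942312_12 : {f // @Cfsg.Agent.KZ.Exc.Gr.dn = f} := ⟨_, by first | (delta Cfsg.Agent.KZ.Exc.Gr.dn; rewrite [Cfsg.Agent.LsF.f942312_2.2, Cfsg.Agent.LsF.f942312_10.2, Cfsg.Agent.LsF.f942312_11.2, Cfsg.Agent.LsF.ineg_pat, Cfsg.Agent.LsF.length_eq]; exact rfl) | exact rfl⟩
private noncomputable def _root_.Cfsg.Agent.LsF.f942312_13 : {f // @Cfsg.Agent.KZ.Exc.Gr.okL = f} := ⟨_, by first | (delta Cfsg.Agent.KZ.Exc.Gr.okL; rewrite [Cfsg.Agent.LsF.f942312_9.2, Cfsg.Agent.LsF.f942312_12.2, Cfsg.Agent.LsF.or_eq, Cfsg.Agent.LsF.not_eq]; exact rfl) | exact rfl⟩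
private noncomputable def _root_.Cfsg.Agent.LsF.f942312_14 : {f // @Cfsg.Agent.KZ.Exc.Gr.stL = f} := ⟨_, by first | (delta Cfsg.Agent.KZ.Exc.Gr.stL; rewrite [Cfsg.Agent.LsF.instIBEq_pat, Cfsg.Agent.LsF.or_eq, Cfsg.Agent.LsF.all_eq, Cfsg.Agent.LsF.getD_eq, Cfsg.Agent.LsF.bne_eq]; exact rfl) | exact rfl⟩
private noncomputable def _root_.Cfsg.Agent.LsF.f942312_15 : {f // @Cfsg.Agent.KZ.Exc.Gr.hh = f} := ⟨_, by first | (delta Cfsg.Agent.KZ.Exc.Gr.hh; rewrite [Cfsg.Agent.LsF.f942312_9.2, Cfsg.Agent.LsF.f942312_12.2, Cfsg.Agent.LsF.f942312_14.2, Cfsg.Agent.LsF.instIDecEq_eq, Cfsg.Agent.LsF.dBoolEq_eq, Cfsg.Agent.LsF.dListEq_eq, Cfsg.Agent.LsF.ite_eq]; exact rfl) | exact rfl⟩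
private noncomputable def _root_.Cfsg.Agent.LsF.f942312_16 : {f // @Cfsg.Agent.KZ.Exc.Gr.chk = f} := ⟨_, by first | (delta Cfsg.Agent.KZ.Exc.Gr.chk; rewrite [Cfsg.Agent.LsF.f942312_2.2, Cfsg.Agent.LsF.f942312_6.2, Cfsg.Agent.LsF.f942312_7.2, Cfsg.Agent.LsF.f942312_8.2, Cfsg.Agent.LsF.f942312_13.2, Cfsg.Agent.LsF.f942312_15.2, Cfsg.Agent.LsF.ibeq_pat, Cfsg.Agent.LsF.and_eq, Cfsg.Agent.LsF.or_eq, Cfsg.Agent.LsF.all_eq, Cfsg.Agent.LsF.instIDecEq_eq, Cfsg.Agent.LsF.dFinLt_eq, Cfsg.Agent.LsF.dListEq_eq, Cfsg.Agent.LsF.finRange_eq, Cfsg.Agent.LsF.ofFn_eq, Cfsg.Agent.LsF.ite_eq, Cfsg.Agent.LsF.decide_eq]; exact rfl) | exact rfl⟩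
private noncomputable def _root_.Cfsg.Agent.LsF.f942312_17 : {f // @Cfsg.Agent.KZ.Exc.lam6 = f} := ⟨_, by first | (delta Cfsg.Agent.KZ.Exc.lam6; rewrite [Cfsg.Agent.LsF.vecCons_eq]; exact rfl) | exact rfl⟩
private noncomputable def _root_.Cfsg.Agent.LsF.f942312_18 : {f // @Cfsg.Agent.KZ.Exc.lam6' = f} := ⟨_, by first | (delta Cfsg.Agent.KZ.Exc.lam6'; rewrite [Cfsg.Agent.LsF.ineg_pat, Cfsg.Agent.LsF.vecCons_eq]; exact rfl) | exact rfl⟩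
private noncomputable def _root_.Cfsg.Agent.LsF.f942312_19 : {f // @Cfsg.Agent.KZ.Exc.n6 = f} := ⟨_, by first | (delta Cfsg.Agent.KZ.Exc.n6; rewrite [Cfsg.Agent.LsF.vecCons_eq]; exact rfl) | exact rfl⟩
private noncomputable def _root_.Cfsg.Agent.LsF.f942312_20 : {f // @Cfsg.Agent.KZ.Exc.p6 = f} := ⟨_, by first | (delta Cfsg.Agent.KZ.Exc.p6; rewrite [Cfsg.Agent.LsF.vecCons_eq]; exact rfl) | exact rfl⟩
private noncomputable def _root_.Cfsg.Agent.LsF.f942312_21 : {f // @Cfsg.Agent.KZ.Exc.m6 = f} := ⟨_, by first | (delta Cfsg.Agent.KZ.Exc.m6; rewrite [Cfsg.Agent.LsF.vecCons_eq]; exact rfl) | exact rfl⟩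
private noncomputable def _root_.Cfsg.Agent.LsF.f942312_22 : {f // @Cfsg.Agent.KZ.Exc.d6 = f} := ⟨_, by first | (delta Cfsg.Agent.KZ.Exc.d6; rewrite [Cfsg.Agent.LsF.vecCons_eq]; exact rfl) | exact rfl⟩
theorem chk6_5 : Chk6 5 := by (first | (refine of_decide_eq_true ?_; rewrite [Cfsg.Agent.KOb4f67e4.e0, Cfsg.Agent.KOb4f67e4.e2]; ((try (delta Cfsg.Agent.KZ.Exc.Chk6; rewrite [Cfsg.Agent.LsF.f942312_16.2, Cfsg.Agent.LsF.f942312_17.2, Cfsg.Agent.LsF.f942312_18.2, Cfsg.Agent.LsF.f942312_19.2, Cfsg.Agent.LsF.f942312_20.2, Cfsg.Agent.LsF.f942312_21.2, Cfsg.Agent.LsF.f942312_22.2])); decide +kernel)) | decide +kernel)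

theorem chk6_6 : Chk6 6 := by (first | (refine of_decide_eq_true ?_; rewrite [Cfsg.Agent.KOb4f67e4.e0, Cfsg.Agent.KOb4f67e4.e2]; ((try (delta Cfsg.Agent.KZ.Exc.Chk6; rewrite [Cfsg.Agent.LsF.f942312_16.2, Cfsg.Agent.LsF.f942312_17.2, Cfsg.Agent.LsF.f942312_18.2, Cfsg.Agent.LsF.f942312_19.2, Cfsg.Agent.LsF.f942312_20.2, Cfsg.Agent.LsF.f942312_21.2, Cfsg.Agent.LsF.f942312_22.2])); decide +kernel)) | decide +kernel)

end Cfsg.Agent.KZ.Exc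
end

-- part: KZ/Exc/EGram6
section
set_option linter.all false
open scoped Cfsg.Agent.FastGrp

/-!
# KZ, exceptional groups: `gram6` (helper40)
-/

set_option autoImplicit false

namespace Cfsg.Agent.KZ.Exc

open Cfsg.Agent.KZ.DatX Cfsg.Agent.KZ.Exc.Gr

theorem chk6 (j : Fin 8) : Chk6 j := by
  fin_cases j
  exacts [chk6_0, chk6_1, chk6_2, chk6_3, chk6_4, chk6_5, chk6_6, chk6_7]

theorem gram6 : Gram6 :=
  haveI : Finite W6 := Nat.finite_of_card_ne_zero (by rw [card_W_E6]; decide)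
  gram_of_chk hpE6 isRows_E6 (by decide) (by decide +kernel) (by decide +kernel) chk6

end Cfsg.Agent.KZ.Exc
end

-- part: KZ/Exc/ECvpK
section
set_option linter.all false
open scoped Cfsg.Agent.FastGrp

/-!
# KZ, the groups `E₆^ε`, `E₇`, `E₈` (scalar case): the closest vector bounds (helper37)

`cvpA`, `cvpB`, `cvpC` : a reduced basis `U`, its orthogonalisation `V = T U`, and an enumeration in the kernel.
-/

set_option autoImplicit false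

namespace Cfsg.Agent.KZ.Exc

open Finset

namespace Cvp

/-- evaluate first -/
def frcN (n : ℕ) (f : ℕ → Bool) : Bool :=
  match n with
  | 0 => f 0
  | k + 1 => f (k + 1)

/-- evaluate first -/
def frc (x : ℤ) (f : ℤ → Bool) : Bool :=
  match x with
  | .ofNat n => frcN n fun n => f (.ofNat n)
  | .negSucc n => frcN n fun n => f (.negSucc n)

theorem frc_eq (x : ℤ) (f : ℤ → Bool) : frc x f = f x := by
  rcases x with n | n <;> cases n <;> rfl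

/-- the enumeration -/
def chk (A : ℕ → ℕ → ℤ) (c : ℕ → ℤ) (ω : ℕ → ℕ) (b : ℤ) : ℕ → ℕ → (ℕ → ℤ) → ℤ → Bool
  | 0, _, _, s => decide (b < s)
  | m + 1, i, v, s => decide (b < s) || frc (c i + ∑ j ∈ range i, A i j * v j) fun z =>
      decide (0 < A i i) && decide (b < s + ω i * (2 * A i i) ^ 2) && [-2, -1, 0, 1].all fun t : ℤ =>
        frc (t - z / A i i) fun k => frc (s + ω i * (z + A i i * k) ^ 2) fun s' =>
          chk A c ω b m (i + 1) (fun j => if j = i then k else v j) s'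

theorem chk_sound {A : ℕ → ℕ → ℤ} {c : ℕ → ℤ} {ω : ℕ → ℕ} {b : ℤ} (u : ℕ → ℤ) (m : ℕ) : ∀ (i : ℕ) (v : ℕ → ℤ) (s : ℤ),
    chk A c ω b m i v s = true → (∀ j < i, u j = v j) →
      b < s + ∑ l ∈ range m, ω (i + l) * (c (i + l) + ∑ j ∈ range (i + l + 1), A (i + l) j * u j) ^ 2 := by
  induction m with
  | zero => intro i v s h _; simpa [chk] using h
  | succ m ih =>
    intro i v s h hu
    have h0 : ∀ (m i : ℕ), 0 ≤ ∑ l ∈ range m, (ω (i + l) : ℤ) * (c (i + l) + ∑ j ∈ range (i + l + 1), A (i + l) j * u j) ^ 2 :=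
      fun m i => sum_nonneg fun _ _ => by positivity
    simp only [chk, frc_eq, Bool.or_eq_true, Bool.and_eq_true, decide_eq_true_eq, List.all_eq_true] at h
    rcases h with h | ⟨⟨h1, h2⟩, h3⟩
    · have := h0 (m + 1) i
      omega
    have e1 : ∑ j ∈ range i, A i j * v j = ∑ j ∈ range i, A i j * u j :=
      sum_congr rfl fun j hj => by rw [hu j (mem_range.1 hj)]
    rw [e1] at h3
    rw [sum_range_succ', add_zero, sum_range_succ, ← add_assoc (c i)]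
    simp only [← add_assoc i, add_right_comm i _ 1]
    generalize c i + ∑ j ∈ range i, A i j * u j = z at h3 ⊢
    by_cases ht : u i + z / A i i ∈ ([-2, -1, 0, 1] : List ℤ)
    · have h4 := ih _ _ _ (h3 _ ht) fun j hj => by
        split_ifs with e
        · rw [e, add_sub_cancel_right]
        · exact hu j (by omega)
      rw [add_sub_cancel_right] at h4
      linarith
    · have h4 := h0 m (i + 1)
      have h5 : (2 * A i i) ^ 2 ≤ (z + A i i * u i) ^ 2 := by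
        have e2 : z + A i i * u i = z % A i i + A i i * (u i + z / A i i) := by
          rw [mul_add, Int.emod_def]
          ring
        have e3 := Int.emod_nonneg z h1.ne'
        have e4 := Int.emod_lt_of_pos z h1
        rw [e2]
        simp only [List.mem_cons, List.not_mem_nil, or_false, not_or] at ht
        generalize u i + z / A i i = t at ht ⊢
        generalize z % A i i = r at e3 e4 ⊢
        rcases (by omega : 2 ≤ t ∨ t ≤ -3) with e | e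
        · exact pow_le_pow_left₀ (by omega) (by nlinarith only [h1, e3, e]) 2
        · rw [← neg_sq (r + _)]
          exact pow_le_pow_left₀ (by omega) (by nlinarith only [h1, e4, e]) 2
      have h6 : (ω i : ℤ) * (2 * A i i) ^ 2 ≤ ω i * (z + A i i * u i) ^ 2 := mul_le_mul_of_nonneg_left h5 (by positivity)
      linarith

/-- the certificate -/
def Ct {ι : Type} [Fintype ι] (Γ : ι → ι → ℤ) (n : ℕ) (U V W : ℕ → ι → ℤ) (T : ℕ → ℕ → ℤ) (ω : ℕ → ℕ) (N : ℤ) : Prop :=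
  0 < N ∧ (∀ i < n, ∀ a, V i a = ∑ j ∈ range (i + 1), T i j * U j a) ∧ (∀ i < n, ∀ b, W i b = ∑ a, V i a * Γ a b) ∧
    ∀ i < n, ∀ j < n, ω i * ∑ b, W i b * V j b = if i = j then N else 0

theorem Ct.bd {ι : Type} [Fintype ι] {Γ : ι → ι → ℤ} {n : ℕ} {U V W : ℕ → ι → ℤ} {T : ℕ → ℕ → ℤ} {ω : ℕ → ℕ} {N : ℤ}
    (h : Ct Γ n U V W T ω N) {r : ι → ℤ} {b : ℚ} {b' : ℤ} (hb : b * N ≤ b')
    (hc : chk (fun i j => 3 * T i j) (fun i => ∑ a, V i a * r a) ω b' n 0 (fun _ => 0) 0 = true) :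
    Bd Γ (fun y => ∀ a, 3 ∣ y a - r a) b := by
  intro y hy
  obtain ⟨hN, h1, h2, h3⟩ := h
  choose x hx using hy
  have h4 := chk_sound (fun j => ∑ a, U j a * x a) n 0 _ _ hc fun j hj => absurd hj (by omega)
  let z : ℕ → ℤ := fun i => ∑ a, V i a * y a
  have h5 : b' < ∑ i ∈ range n, ω i * z i ^ 2 := by
    refine h4.trans_eq ?_
    rw [zero_add]
    refine sum_congr rfl fun i hi => ?_
    rw [zero_add]
    congr 2
    have e1 : ∀ a, V i a * y a = V i a * r a + ∑ j ∈ range (i + 1), 3 * T i j * (U j a * x a) := fun a => by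
      rw [show y a = r a + 3 * x a by rw [← hx]; ring, mul_add]
      congr 1
      rw [h1 i (mem_range.1 hi), sum_mul]
      exact sum_congr rfl fun j _ => by ring
    simp only [z, e1, sum_add_distrib, mul_sum]
    rw [sum_comm]
  have hN' : (0 : ℚ) < N := by exact_mod_cast hN
  refine ⟨fun a => ∑ i ∈ range n, (z i * ω i / N : ℚ) * V i a, ?_⟩
  have e1 : ∑ a, (∑ i ∈ range n, (z i * ω i / N : ℚ) * V i a) * y a = ∑ i ∈ range n, (ω i * z i ^ 2 / N : ℚ) := by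
    simp only [sum_mul]
    rw [sum_comm]
    refine sum_congr rfl fun i _ => ?_
    simp only [mul_assoc (_ / _ : ℚ), ← mul_sum]
    rw [show ∑ a, (V i a : ℚ) * y a = z i by simp only [z, Int.cast_sum, Int.cast_mul]]
    ring
  have e2 : ∑ a, ∑ a', (∑ i ∈ range n, (z i * ω i / N : ℚ) * V i a) * (∑ i ∈ range n, (z i * ω i / N : ℚ) * V i a') * Γ a a' =
      ∑ i ∈ range n, (ω i * z i ^ 2 / N : ℚ) := by
    have e3 : ∀ a', ∑ a, (∑ i ∈ range n, (z i * ω i / N : ℚ) * V i a) * (∑ i ∈ range n, (z i * ω i / N : ℚ) * V i a') * Γ a a' =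
        ∑ i ∈ range n, ∑ j ∈ range n, (z i * z j * ω j / N ^ 2 : ℚ) * (ω i * (W i a' * V j a')) := fun a' => by
      simp only [mul_right_comm _ (∑ i ∈ range n, (z i * ω i / N : ℚ) * V i a'), ← sum_mul]
      simp only [sum_mul]
      rw [sum_comm]
      simp only [← sum_mul]
      rw [sum_mul]
      refine sum_congr rfl fun i hi => ?_
      simp only [mul_assoc (_ / _ : ℚ), ← mul_sum]
      rw [show ∑ a, (V i a : ℚ) * Γ a a' = W i a' by simp only [h2 i (mem_range.1 hi), Int.cast_sum, Int.cast_mul], mul_sum,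
        mul_sum]
      exact sum_congr rfl fun j _ => by ring
    rw [sum_comm]
    simp only [e3]
    rw [sum_comm]
    refine sum_congr rfl fun i hi => ?_
    rw [sum_comm]
    simp only [← mul_sum]
    have e4 : ∀ j ∈ range n, (z i * z j * ω j / N ^ 2 : ℚ) * (ω i * ∑ a, (W i a : ℚ) * V j a) =
        if i = j then (ω i * z i ^ 2 / N : ℚ) else 0 := fun j hj => by
      have e5 : (ω i * ∑ a, (W i a : ℚ) * V j a) = ((if i = j then N else 0 : ℤ) : ℚ) := by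
        rw [← h3 i (mem_range.1 hi) j (mem_range.1 hj)]
        simp only [Int.cast_sum, Int.cast_mul, Int.cast_natCast]
      rw [e5]
      split_ifs with e
      · subst e
        field_simp
      · simp
    rw [sum_congr rfl e4, sum_ite_eq, if_pos hi]
  rw [e1, e2, two_mul, add_sub_cancel_right, ← sum_div, lt_div_iff₀ hN']
  exact hb.trans_lt (by exact_mod_cast h5)

/-- a matrix given by a list -/
def mt (L : List (List ℤ)) (i j : ℕ) : ℤ := (L.getD i []).getD j 0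

/-- a matrix given by a list -/
def mb {n : ℕ} (L : List (List ℤ)) (i : ℕ) (a : Fin n × Bool) : ℤ := mt L i (a.1 + if a.2 then n else 0)

/-- data -/
def U6 : List (List ℤ) :=
  [[1, 0, 0, 0, 0, 0, 0, 0, 0, 0, 0, 0, 0, 0, 0, 0], [0, 0, 0, 0, 0, 0, 0, 0, 1, 0, 0, 0, 0, 0, 0, 0], [-1, 1, 0, 0, 0, 0, 0, 0, 0,
  0, 0, 0, 0, 0, 0, 0], [0, 0, 0, 0, 0, 0, 0, 0, -1, 1, 0, 0, 0, 0, 0, 0], [1, -1, -2, 1, 0, 0, 2, -1, -1, 1, 2, -1, 0, 0, -2, 1],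
  [1, -2, 1, 1, 0, -1, 0, 0, 0, 0, 0, 0, 0, 0, 0, 0], [0, 0, 0, 0, 0, 0, 0, 0, 1, -2, 1, 1, 0, -1, 0, 0], [1, -2, 1, 0, 0, 0, 0,
  0, 0, 0, 0, 0, 0, 0, 0, 0], [0, 1, -2, 0, 0, 1, 0, 0, 0, 0, 0, 0, 0, 0, 0, 0], [0, 0, 0, 0, 0, 0, 0, 0, 0, 0, 0, -1, 0, 1, 0,
  0], [0, 0, 0, 0, 0, 0, 0, 0, 1, -1, -1, 1, 0, 0, 0, 0], [4, -4, -4, 2, -1, 2, 3, -2, -4, 4, 4, -2, 1, -2, -3, 2], [2, -3, -3, 1,
  0, 2, 3, -2, -4, 4, 4, -2, 1, -2, -3, 2], [-4, 4, 4, -2, 1, -2, -3, 2, 2, -3, -3, 1, 0, 2, 3, -2], [0, -1, 3, 0, 0, -1, -2, 1,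
  0, 0, 0, 0, 0, 0, 0, 0], [0, 1, -1, 0, 0, -1, 1, 0, 0, 0, 0, 0, 0, 0, 0, 0]]

/-- data -/
def T6 : List (List ℤ) :=
  [[1], [0, 1], [0, 0, 1], [0, 0, 0, 1], [0, 0, 0, 0, 1], [0, 0, 1, 0, -1, 2], [0, 0, -1, 6, 7, -2, 12], [0, 0, 17, 3, 21, -36, 6,
  70], [0, 0, -34, -6, -42, 72, -12, 121, 261], [0, 0, 12, 92, -120, 42, 184, -9, 9, 382], [0, 0, -12, -92, 120, -42, -184, 9, -9,
  329, 711], [0, 0, -1, 1, 1, -1, 0, 0, -1, 0, 1, 2], [0, 0, 548, 388, -800, 1658, -264, -541, 1061, 99, 421, -1040, 2080], [0, 0,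
  141, 363, 1110, -648, 166, 325, -45, -563, 843, 1443, -883, 2003], [0, 0, 57, 57, 111, -99, 86, -67, -30, -67, -30, 0, 28, 28,
  222], [0, 0, -6, -6, -69, 33, -16, -52, -9, 14, -9, -33, 37, -29, -6, 66]]

/-- data -/
def V6 : List (List ℤ) :=
  [[1, 0, 0, 0, 0, 0, 0, 0, 0, 0, 0, 0, 0, 0, 0, 0], [0, 0, 0, 0, 0, 0, 0, 0, 1, 0, 0, 0, 0, 0, 0, 0], [-1, 1, 0, 0, 0, 0, 0, 0, 0,
  0, 0, 0, 0, 0, 0, 0], [0, 0, 0, 0, 0, 0, 0, 0, -1, 1, 0, 0, 0, 0, 0, 0], [1, -1, -2, 1, 0, 0, 2, -1, -1, 1, 2, -1, 0, 0, -2, 1],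
  [0, -2, 4, 1, 0, -2, -2, 1, 1, -1, -2, 1, 0, 0, 2, -1], [6, -4, -16, 5, 0, 2, 14, -7, -1, -11, 26, 5, 0, -12, -14, 7], [38, -72,
  -8, -15, 0, 36, 42, -21, -18, 12, 48, -15, 0, -6, -42, 21], [185, -117, -245, 30, 0, 189, -84, 42, 36, -24, -96, 30, 0, 12, 84,
  -42], [-99, 75, 255, -78, 0, -33, -240, 120, 212, -396, -56, -78, 0, 198, 240, -120], [99, -75, -255, 78, 0, 33, 240, -120, 499,
  -315, -655, 78, 0, 513, -240, 120], [9, -9, -9, 4, -2, 4, 8, -5, -9, 9, 9, -4, 2, -4, -8, 5], [-231, -1905, -1485, 858, 1040,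
  1483, 1520, -1280, -3591, 3855, 1875, -1222, 1040, -1717, -1520, 1280], [-3360, 4521, 2436, -1541, 560, -2283, -2109, 1776,
  1302, -3471, -2226, 1345, 560, 2157, 2109, -1776], [-168, 54, 366, -16, 28, -153, -222, 111, -168, 54, 366, -16, 28, -153, -222,
  111], [-24, 69, -42, -7, 4, -36, 39, -3, -24, 69, -42, -7, 4, -36, 39, -3]]

/-- data -/
def W6 : List (List ℤ) :=
  [[1, 1, 1, 1, 1, 1, 1, 1, 0, 0, 0, 0, 0, 0, 0, 0], [0, 0, 0, 0, 0, 0, 0, 0, 1, 1, 1, 1, 1, 1, 1, 1], [0, 2, 3, 5, -1, 5, 6, 9, 0,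
  0, 0, 0, 0, 0, 0, 0], [0, 0, 0, 0, 0, 0, 0, 0, 0, 2, 3, 5, -1, 5, 6, 9], [0, 0, 0, 1, 1, 0, 1, 2, 0, 0, 0, -1, -1, 0, -1, -2],
  [0, 0, 3, 6, 0, 3, 7, 11, 0, 0, 0, 1, 1, 0, 1, 0], [0, 0, -3, 0, 6, -3, -1, -11, 0, 0, 18, 35, -1, 18, 41, 66], [0, 0, 261, 140,
  38, 401, 787, 1237, 0, 0, 9, 0, -18, 9, 3, 33], [0, 0, 0, 764, 185, 764, 1036, 3007, 0, 0, -18, 0, 36, -18, -6, 195], [0, 0, 0,
  0, -99, 0, -96, 51, 0, 0, 1422, 764, 212, 2186, 4294, 6751], [0, 0, 0, 0, 99, 0, 96, 660, 0, 0, 0, 2080, 499, 2080, 2816, 8180],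
  [0, 0, 0, 0, -3, 0, 0, 0, 0, 0, 0, 0, 3, 0, 0, 0], [0, 0, 0, 0, 6009, 0, -2304, -5700, 0, 0, 0, 0, 2649, 0, 1056, 1020], [0, 0,
  0, 0, 0, 0, 1995, 3402, 0, 0, 0, 0, 4662, 0, -2667, -5922], [0, 0, 0, 0, 0, 0, 72, 936, 0, 0, 0, 0, 0, 0, 72, 936], [0, 0, 0, 0,
  0, 0, 279, 558, 0, 0, 0, 0, 0, 0, 279, 558]]

/-- data -/
def O6 : List ℕ :=
  [4347310377965274720, 4347310377965274720, 2173655188982637360, 2173655188982637360, 2173655188982637360, 362275864830439560,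
  10350738995155416, 237948022877136, 21801520420680, 8003089774680, 2939596436469, 362275864830439560, 347820447051,
  465551177520, 24725352500030, 236087236774480]

/-- data -/
def N6 : ℤ := 4347310377965274720

/-- data -/
def U7 : List (List ℤ) :=
  [[1, 0, 0, 0, 0, 0, 0, 0, 0, 0], [0, 0, 0, 0, 0, 1, 0, 0, 0, 0], [-1, 1, 0, 0, 0, 0, 0, 0, 0, 0], [-1, 0, 1, 0, 0, 0, 0, 0, 0, 0],
  [0, -1, 0, 1, 0, 0, 0, 0, 0, 0], [0, 0, -1, 0, 1, 0, 0, 0, 0, 0], [0, 0, 0, 0, 0, -1, 1, 0, 0, 0], [0, 0, 0, 0, 0, -1, 0, 1, 0,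
  0], [0, 0, 0, 0, 0, 0, -1, 0, 1, 0], [0, 0, 0, 0, 0, 0, 0, -1, 0, 1]]

/-- data -/
def T7 : List (List ℤ) :=
  [[1], [0, 1], [0, 0, 1], [0, 0, 1, 3], [0, 0, 1, -1, 4], [0, 0, -1, 1, 1, 5], [0, 0, 0, 0, 0, 0, 1], [0, 0, 0, 0, 0, 0, 1, 3], [0,
  0, 0, 0, 0, 0, 1, -1, 4], [0, 0, 0, 0, 0, 0, -1, 1, 1, 5]]

/-- data -/
def V7 : List (List ℤ) :=
  [[1, 0, 0, 0, 0, 0, 0, 0, 0, 0], [0, 0, 0, 0, 0, 1, 0, 0, 0, 0], [-1, 1, 0, 0, 0, 0, 0, 0, 0, 0], [-4, 1, 3, 0, 0, 0, 0, 0, 0, 0],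
  [0, -3, -1, 4, 0, 0, 0, 0, 0, 0], [0, -2, -4, 1, 5, 0, 0, 0, 0, 0], [0, 0, 0, 0, 0, -1, 1, 0, 0, 0], [0, 0, 0, 0, 0, -4, 1, 3,
  0, 0], [0, 0, 0, 0, 0, 0, -3, -1, 4, 0], [0, 0, 0, 0, 0, 0, -2, -4, 1, 5]]

/-- data -/
def W7 : List (List ℤ) :=
  [[1, 1, 1, 1, 1, 0, 0, 0, 0, 0], [0, 0, 0, 0, 0, 1, 1, 1, 1, 1], [0, 3, -1, 2, 0, 0, 0, 0, 0, 0], [0, 0, 8, 2, 6, 0, 0, 0, 0, 0],
  [0, 0, 0, 10, -2, 0, 0, 0, 0, 0], [0, 0, 0, 0, 12, 0, 0, 0, 0, 0], [0, 0, 0, 0, 0, 0, 3, -1, 2, 0], [0, 0, 0, 0, 0, 0, 0, 8, 2,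
  6], [0, 0, 0, 0, 0, 0, 0, 0, 10, -2], [0, 0, 0, 0, 0, 0, 0, 0, 0, 12]]

/-- data -/
def O7 : List ℕ :=
  [120, 120, 40, 5, 3, 2, 40, 5, 3, 2]

/-- data -/
def N7 : ℤ := 120

private noncomputable def _root_.Cfsg.Agent.LsF.f7376da_0 : {f // @Cfsg.Agent.KZ.Exc.Cvp.mt = f} := ⟨_, by first | (delta Cfsg.Agent.KZ.Exc.Cvp.mt; rewrite [Cfsg.Agent.LsF.getD_eq]; exact rfl) | exact rfl⟩
private noncomputable def _root_.Cfsg.Agent.LsF.f7376da_1 : {f // @Cfsg.Agent.KZ.Exc.Cvp.mb = f} := ⟨_, by first | (delta Cfsg.Agent.KZ.Exc.Cvp.mb; rewrite [Cfsg.Agent.LsF.f7376da_0.2, Cfsg.Agent.LsF.nadd_pat, Cfsg.Agent.LsF.dBoolEq_eq, Cfsg.Agent.LsF.ite_eq]; exact rfl) | exact rfl⟩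
private noncomputable def _root_.Cfsg.Agent.LsF.f7376da_2 : {f // @Cfsg.Agent.KZ.Exc.dbl = f} := ⟨_, by first | (delta Cfsg.Agent.KZ.Exc.dbl; rewrite [Cfsg.Agent.LsF.dBoolEq_eq, Cfsg.Agent.LsF.ite_eq]; exact rfl) | exact rfl⟩
private noncomputable def _root_.Cfsg.Agent.LsF.f7376da_3 : {f // @Cfsg.Agent.KZ.Exc.p6 = f} := ⟨_, by first | (delta Cfsg.Agent.KZ.Exc.p6; rewrite [Cfsg.Agent.LsF.vecCons_eq]; exact rfl) | exact rfl⟩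
private noncomputable def _root_.Cfsg.Agent.LsF.f7376da_4 : {f // @Cfsg.Agent.KZ.Exc.m6 = f} := ⟨_, by first | (delta Cfsg.Agent.KZ.Exc.m6; rewrite [Cfsg.Agent.LsF.vecCons_eq]; exact rfl) | exact rfl⟩
private noncomputable def _root_.Cfsg.Agent.LsF.f7376da_5 : {f // @Cfsg.Agent.KZ.Exc.G6 = f} := ⟨_, by first | (delta Cfsg.Agent.KZ.Exc.G6; rewrite [Cfsg.Agent.LsF.f7376da_2.2, Cfsg.Agent.LsF.f7376da_3.2, Cfsg.Agent.LsF.f7376da_4.2]; exact rfl) | exact rfl⟩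
theorem ct6 : Ct G6 16 (mb U6) (mb V6) (mb W6) (mt T6) (O6.getD · 0) N6 := by
  unfold Ct
  (refine of_decide_eq_true ?_; (try (rewrite [Cfsg.Agent.LsF.f7376da_1.2, Cfsg.Agent.LsF.f7376da_0.2, Cfsg.Agent.LsF.f7376da_5.2, Cfsg.Agent.LsF.nadd_pat, Cfsg.Agent.LsF.imul_pat, Cfsg.Agent.LsF.icast_pat, Cfsg.Agent.LsF.finFintype_eq, Cfsg.Agent.LsF.prodFintype_eq, Cfsg.Agent.LsF.dForall_eq, Cfsg.Agent.LsF.fsum_eq, Cfsg.Agent.LsF.frange_eq, Cfsg.Agent.LsF.iACM_eq, Cfsg.Agent.LsF.instDecEq_eq, Cfsg.Agent.LsF.getD_eq, Cfsg.Agent.LsF.instIDecEq_eq, Cfsg.Agent.LsF.idecLt_eq, Cfsg.Agent.LsF.dAnd_eq, Cfsg.Agent.LsF.dBallLT_eq, Cfsg.Agent.LsF.ite_eq, Cfsg.Agent.LsF.decide_eq])); decide +kernel)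

private noncomputable def _root_.Cfsg.Agent.LsF.f7376da_6 : {f // @Cfsg.Agent.KZ.Exc.p7 = f} := ⟨_, by first | (delta Cfsg.Agent.KZ.Exc.p7; rewrite [Cfsg.Agent.LsF.vecCons_eq]; exact rfl) | exact rfl⟩
private noncomputable def _root_.Cfsg.Agent.LsF.f7376da_7 : {f // @Cfsg.Agent.KZ.Exc.G7 = f} := ⟨_, by first | (delta Cfsg.Agent.KZ.Exc.G7; rewrite [Cfsg.Agent.LsF.f7376da_2.2, Cfsg.Agent.LsF.f7376da_6.2]; exact rfl) | exact rfl⟩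
theorem ct7 : Ct G7 10 (mb U7) (mb V7) (mb W7) (mt T7) (O7.getD · 0) N7 := by
  unfold Ct
  (refine of_decide_eq_true ?_; (try (rewrite [Cfsg.Agent.LsF.f7376da_1.2, Cfsg.Agent.LsF.f7376da_0.2, Cfsg.Agent.LsF.f7376da_7.2, Cfsg.Agent.LsF.nadd_pat, Cfsg.Agent.LsF.imul_pat, Cfsg.Agent.LsF.icast_pat, Cfsg.Agent.LsF.finFintype_eq, Cfsg.Agent.LsF.prodFintype_eq, Cfsg.Agent.LsF.dForall_eq, Cfsg.Agent.LsF.fsum_eq, Cfsg.Agent.LsF.frange_eq, Cfsg.Agent.LsF.iACM_eq, Cfsg.Agent.LsF.instDecEq_eq, Cfsg.Agent.LsF.getD_eq, Cfsg.Agent.LsF.instIDecEq_eq, Cfsg.Agent.LsF.idecLt_eq, Cfsg.Agent.LsF.dAnd_eq, Cfsg.Agent.LsF.dBallLT_eq, Cfsg.Agent.LsF.ite_eq, Cfsg.Agent.LsF.decide_eq])); decide +kernel)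

/-- the residues -/
def r6 (s t : Fin 3) (a : Fin 8 × Bool) : ℤ := if a.1 = 0 then if a.2 then t else s else 0

theorem res6 (y : Fin 8 × Bool → ℤ) (h : CA y) : ∃ s t : Fin 3, s ≠ 0 ∧ ∀ a, 3 ∣ y a - r6 s t a := by
  have h0 : ∀ z : ℤ, ∃ s : Fin 3, 3 ∣ z - s := fun z => ⟨⟨(z % 3).toNat, by omega⟩, by simp only; omega⟩
  obtain ⟨s, hs⟩ := h0 (y (0, false))
  obtain ⟨t, ht⟩ := h0 (y (0, true))
  refine ⟨s, t, ?_, fun ⟨i, b⟩ => ?_⟩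
  · rintro rfl
    exact h.1 (by simpa using hs)
  · by_cases hi : i = 0
    · subst hi
      cases b
      · exact hs
      · exact ht
    · simpa [r6, hi] using h.2 (i, b) hi

private noncomputable def _root_.Cfsg.Agent.LsF.f7376da_8 : {f // @Cfsg.Agent.KZ.Exc.Cvp.frcN = f} := ⟨_, by first | (delta Cfsg.Agent.KZ.Exc.Cvp.frcN; rewrite [Cfsg.Agent.LsF.nadd_pat]; (try delta Cfsg.Agent.KZ.Exc.Cvp.frcN.match_1); (try delta Nat.casesOn); exact rfl) | exact rfl⟩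
private noncomputable def _root_.Cfsg.Agent.LsF.f7376da_9 : {f // @Cfsg.Agent.KZ.Exc.Cvp.frc = f} := ⟨_, by first | (delta Cfsg.Agent.KZ.Exc.Cvp.frc; rewrite [Cfsg.Agent.LsF.f7376da_8.2]; (try delta Cfsg.Agent.KZ.Exc.Cvp.frc.match_1); (try delta Int.casesOn); exact rfl) | exact rfl⟩
private noncomputable def _root_.Cfsg.Agent.LsF.f7376da_10 : {f // @Cfsg.Agent.KZ.Exc.Cvp.chk = f} := ⟨_, by first | (delta Cfsg.Agent.KZ.Exc.Cvp.chk Nat.brecOn.go Nat.brecOn Cfsg.Agent.KZ.Exc.Cvp.chk._f; rewrite [Cfsg.Agent.LsF.f7376da_9.2, Cfsg.Agent.LsF.nadd_pat, Cfsg.Agent.LsF.iadd_pat, Cfsg.Agent.LsF.imul_pat, Cfsg.Agent.LsF.isub_pat, Cfsg.Agent.LsF.ineg_pat, Cfsg.Agent.LsF.icast_pat, Cfsg.Agent.LsF.fsum_eq, Cfsg.Agent.LsF.frange_eq, Cfsg.Agent.LsF.iACM_eq, Cfsg.Agent.LsF.and_eq, Cfsg.Agent.LsF.or_eq, Cfsg.Agent.LsF.instDecEq_eq, Cfsg.Agent.LsF.all_eq, Cfsg.Agent.LsF.idecLt_eq,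 Cfsg.Agent.LsF.ite_eq, Cfsg.Agent.LsF.decide_eq]; (try delta Cfsg.Agent.KZ.Exc.Cvp.chk.match_1); (try delta Nat.casesOn); first | dsimp -zeta only | exact rfl) | exact rfl⟩
private noncomputable def _root_.Cfsg.Agent.LsF.f7376da_11 : {f // @Cfsg.Agent.KZ.Exc.Cvp.r6 = f} := ⟨_, by first | (delta Cfsg.Agent.KZ.Exc.Cvp.r6; rewrite [Cfsg.Agent.LsF.icast_pat, Cfsg.Agent.LsF.dFinEq_eq, Cfsg.Agent.LsF.dBoolEq_eq, Cfsg.Agent.LsF.ite_eq]; exact rfl) | exact rfl⟩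
theorem chkA : ∀ s t : Fin 3, s ≠ 0 → chk (fun i j => 3 * mt T6 i j) (fun i => ∑ a, mb V6 i a * r6 s t a) (O6.getD · 0) (3 * N6)
    16 0 (fun _ => 0) 0 = true := by
  (refine of_decide_eq_true ?_; (try (rewrite [Cfsg.Agent.LsF.f7376da_10.2, Cfsg.Agent.LsF.f7376da_0.2, Cfsg.Agent.LsF.f7376da_1.2, Cfsg.Agent.LsF.f7376da_11.2, Cfsg.Agent.LsF.imul_pat, Cfsg.Agent.LsF.finFintype_eq, Cfsg.Agent.LsF.prodFintype_eq, Cfsg.Agent.LsF.fsum_eq, Cfsg.Agent.LsF.iACM_eq, Cfsg.Agent.LsF.getD_eq, Cfsg.Agent.LsF.dNot_eq, Cfsg.Agent.LsF.dFinEq_eq, Cfsg.Agent.LsF.dBoolEq_eq, Cfsg.Agent.LsF.dForallFin_eq, Cfsg.Agent.LsF.dAllP_eq, Cfsg.Agent.LsF.decide_eq])); decide +kernel)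

theorem chkB : ∀ s : Fin 3, s ≠ 0 → chk (fun i j => 3 * mt T6 i j) (fun i => ∑ a, mb V6 i a * r6 s s a) (O6.getD · 0)
    (17 * (N6 / 4)) 16 0 (fun _ => 0) 0 = true := by
  (refine of_decide_eq_true ?_; (try (rewrite [Cfsg.Agent.LsF.f7376da_10.2, Cfsg.Agent.LsF.f7376da_0.2, Cfsg.Agent.LsF.f7376da_1.2, Cfsg.Agent.LsF.f7376da_11.2, Cfsg.Agent.LsF.imul_pat, Cfsg.Agent.LsF.finFintype_eq, Cfsg.Agent.LsF.prodFintype_eq, Cfsg.Agent.LsF.fsum_eq, Cfsg.Agent.LsF.iACM_eq, Cfsg.Agent.LsF.getD_eq, Cfsg.Agent.LsF.dNot_eq, Cfsg.Agent.LsF.dFinEq_eq, Cfsg.Agent.LsF.dBoolEq_eq, Cfsg.Agent.LsF.dForallFin_eq, Cfsg.Agent.LsF.dAllP_eq, Cfsg.Agent.LsF.decide_eq])); decide +kernel)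

theorem chkC : chk (fun i j => 3 * mt T7 i j) (fun i => ∑ a : Fin 5 × Bool, mb V7 i a * d7 a.1) (O7.getD · 0) 570
    10 0 (fun _ => 0) 0 = true := by
  decide +kernel

end Cvp

open Cvp

theorem cvpA : CvpA := fun y hy =>
  let ⟨s, t, h1, h2⟩ := res6 y hy
  ct6.bd (by norm_num) (chkA s t h1) y h2

theorem cvpB : CvpB := fun y hy => by
  obtain ⟨s, t, h1, h2⟩ := res6 y hy.1
  have h3 : s = t := by
    have e1 : 3 ∣ y (0, false) - s := h2 (0, false)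
    have e2 : 3 ∣ y (0, true) - t := h2 (0, true)
    have e3 := hy.2
    omega
  subst h3
  exact ct6.bd (by norm_num [N6]) (chkB s h1) y h2

theorem cvpC : CvpC := ct7.bd (by norm_num [N7]) chkC

end Cfsg.Agent.KZ.Exc

private theorem dce_7ae2190cdfc9 : _root_.True := by
  try have : _root_.True := by simp only [_root_.Cfsg.Agent.KZ.Exc.Cvp.chk.eq_2]
  try have : _root_.True := by simp only [_root_.Cfsg.Agent.KZ.Exc.Cvp.chk.eq_def]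
  try have : _root_.True := by simp only [_root_.Cfsg.Agent.KZ.Exc.Cvp.chk.eq_1]
  try have : _root_.True := by simp only [_root_.Cfsg.Agent.KZ.Exc.Cvp.N7.eq_1]
  try have : _root_.True := by simp only [_root_.Cfsg.Agent.KZ.Exc.Cvp.r6.eq_1]
  try have : _root_.True := by simp only [_root_.Cfsg.Agent.KZ.Exc.Cvp.N6.eq_1]
  exact _root_.True.intro
end
end
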